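import Mathlib

set_option autoImplicit false

namespace Cfsg.Agent.Helper64

open Subgroup

/-- For `T` normal, `|T : R ∩ T| = |RT : R|`. -/
theorem inf_relIndex_eq_relIndex_sup {G : Type*} [Group G] [Finite G] (R T : Subgroup G) [T.Normal] :
    (R ⊓ T).relIndex T = R.relIndex (R ⊔ T) := by
  have h1 : (R ⊓ T).relIndex (R ⊔ T) = (R ⊓ T).relIndex R * R.relIndex (R ⊔ T) :=
    (relIndex_mul_relIndex (R ⊓ T) R (R ⊔ T) inf_le_left le_sup_left).symm
  have h2 : (R ⊓ T).relIndex (R ⊔ T) = (R ⊓ T).relIndex T * T.relIndex (R ⊔ T) :=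
    (relIndex_mul_relIndex (R ⊓ T) T (R ⊔ T) inf_le_right le_sup_right).symm
  have h3 : T.relIndex (R ⊔ T) = (R ⊓ T).relIndex R := by
    rw [relIndex_sup_right, inf_relIndex_left]
  rw [h3] at h2
  have hne : (R ⊓ T).relIndex R ≠ 0 := by
    have : ((R ⊓ T).subgroupOf R).index ≠ 0 := Subgroup.index_ne_zero_of_finite
    exact this
  have : (R ⊓ T).relIndex R * R.relIndex (R ⊔ T) = (R ⊓ T).relIndex R * (R ⊓ T).relIndex T := by
    rw [← h1, h2, mul_comm]
  exact (Nat.eq_of_mul_eq_mul_left (Nat.pos_of_ne_zero hne) this).symm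

theorem inf_relIndex_dvd_index {G : Type*} [Group G] [Finite G] (R T : Subgroup G) [T.Normal] :
    (R ⊓ T).relIndex T ∣ R.index := by
  rw [inf_relIndex_eq_relIndex_sup]
  exact relIndex_dvd_index_of_le le_sup_left

/-- The intersection of a Sylow subgroup with a normal subgroup is a Sylow subgroup of the latter. -/
noncomputable def sylowInfNormal {G : Type*} [Group G] [Finite G] {p : ℕ} [Fact p.Prime]
    (R : Sylow p G) (T : Subgroup G) [T.Normal] : Sylow p T :=
  IsPGroup.toSylow (P := ((R : Subgroup G) ⊓ T).subgroupOf T)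
    (by
      have h : IsPGroup p ((R : Subgroup G) ⊓ T : Subgroup G) := R.2.to_le inf_le_left
      exact h.comap_subtype)
    (by
      intro hdvd
      have h1 : ((R : Subgroup G) ⊓ T).relIndex T ∣ (R : Subgroup G).index :=
        inf_relIndex_dvd_index (R : Subgroup G) T
      exact R.not_dvd_index (dvd_trans hdvd h1))

theorem sylowInfNormal_coe {G : Type*} [Group G] [Finite G] {p : ℕ} [Fact p.Prime]
    (R : Sylow p G) (T : Subgroup G) [T.Normal] :
    ((sylowInfNormal R T : Sylow p T) : Subgroup T) = ((R : Subgroup G) ⊓ T).subgroupOf T := rfl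

theorem sylowInfNormal_map {G : Type*} [Group G] [Finite G] {p : ℕ} [Fact p.Prime]
    (R : Sylow p G) (T : Subgroup G) [T.Normal] :
    ((sylowInfNormal R T : Sylow p T) : Subgroup T).map T.subtype = (R : Subgroup G) ⊓ T := by
  rw [sylowInfNormal_coe, subgroupOf_map_subtype, inf_assoc, inf_idem]

/-- Frattini argument for `R ∩ T`. -/
theorem normalizer_inf_sup_eq_top {G : Type*} [Group G] [Finite G] {p : ℕ} [Fact p.Prime]
    (R : Sylow p G) (T : Subgroup G) [T.Normal] :
    normalizer (((R : Subgroup G) ⊓ T : Subgroup G) : Set G) ⊔ T = ⊤ := by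
  have := Sylow.normalizer_sup_eq_top (sylowInfNormal R T)
  rwa [sylowInfNormal_map] at this

theorem le_normalizer_inf_normal {G : Type*} [Group G] (R T : Subgroup G) [hT : T.Normal] :
    R ≤ normalizer ((R ⊓ T : Subgroup G) : Set G) := by
  intro g hg
  rw [mem_normalizer_iff]
  intro x
  constructor
  · rintro ⟨h1, h2⟩
    exact ⟨R.mul_mem (R.mul_mem hg h1) (R.inv_mem hg), hT.conj_mem x h2 g⟩
  · rintro ⟨h1, h2⟩
    refine ⟨?_, ?_⟩
    · have := R.mul_mem (R.mul_mem (R.inv_mem hg) h1) hg
      simpa [mul_assoc] using this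
    · have := hT.conj_mem _ h2 g⁻¹
      simpa [mul_assoc] using this

/-- A non-commutative simple group is not a `p`-group. -/
theorem not_isPGroup_of_simple_noncomm {T : Type*} [Group T] [Finite T] [IsSimpleGroup T]
    (hna : ¬ IsMulCommutative T) (p : ℕ) [Fact p.Prime] : ¬ IsPGroup p T := by
  intro hp
  have hnt : Nontrivial T := IsSimpleGroup.toNontrivial
  have hc : Nontrivial (center T) := hp.center_nontrivial
  have hcn : (center T).Normal := inferInstance
  rcases hcn.eq_bot_or_eq_top with h | h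
  · exact absurd h ((Subgroup.nontrivial_iff_ne_bot _).mp hc)
  · apply hna
    constructor
    constructor
    intro a b
    have ha : a ∈ center T := by rw [h]; exact mem_top a
    exact (mem_center_iff.mp ha b).symm

/-- In a finite group every proper subgroup lies in a maximal subgroup. -/
theorem exists_le_coatom {G : Type*} [Group G] [Finite G] (H : Subgroup G) (hH : H ≠ ⊤) :
    ∃ M : Subgroup G, IsCoatom M ∧ H ≤ M := by
  rcases eq_top_or_exists_le_coatom H with h | ⟨M, hM, hHM⟩
  · exact absurd h hH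
  · exact ⟨M, hM, hHM⟩

/-- `R ∩ T` is not normal in `G` when `T` is a non-abelian simple normal subgroup met nontrivially. -/
theorem normalizer_inf_ne_top {G : Type*} [Group G] [Finite G] (T : Subgroup G) [T.Normal]
    (hT : IsSimpleGroup T) (hna : ¬ IsMulCommutative T) {r : ℕ} [Fact r.Prime] (R : Sylow r G)
    (hR0 : (R : Subgroup G) ⊓ T ≠ ⊥) :
    Subgroup.normalizer ((((R : Subgroup G) ⊓ T : Subgroup G)) : Set G) ≠ ⊤ := by
  intro htop
  have hn : ((R : Subgroup G) ⊓ T).Normal := Subgroup.normalizer_eq_top_iff.mp htop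
  have hn' : (((R : Subgroup G) ⊓ T).subgroupOf T).Normal := inferInstance
  rcases hn'.eq_bot_or_eq_top with h | h
  · rw [Subgroup.subgroupOf_eq_bot, disjoint_iff, inf_assoc, inf_idem] at h
    exact hR0 h
  · rw [Subgroup.subgroupOf_eq_top] at h
    have hTR : T ≤ (R : Subgroup G) := le_trans h inf_le_left
    have hp : IsPGroup r T := R.2.to_le hTR
    exact not_isPGroup_of_simple_noncomm hna r hp

theorem mem_map_conj_iff {G : Type*} [Group G] (M : Subgroup G) (g x : G) :
    x ∈ M.map (MulAut.conj g).toMonoidHom ↔ g⁻¹ * x * g ∈ M := by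
  rw [Subgroup.mem_map]
  constructor
  · rintro ⟨y, hy, rfl⟩
    simpa [MulAut.conj_apply, mul_assoc] using hy
  · intro h
    exact ⟨g⁻¹ * x * g, h, by simp [MulAut.conj_apply, mul_assoc]⟩

theorem isCoatom_map_conj {G : Type*} [Group G] (M : Subgroup G) (g : G) (hM : IsCoatom M) :
    IsCoatom (M.map (MulAut.conj g).toMonoidHom) :=
  (OrderIso.isCoatom_iff (MulEquiv.mapSubgroup (MulAut.conj g : G ≃* G)) M).mpr hM

theorem index_map_conj {G : Type*} [Group G] (M : Subgroup G) (g : G) :
    (M.map (MulAut.conj g).toMonoidHom).index = M.index :=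
  Subgroup.index_map_equiv M (MulAut.conj g)

/-- A subgroup of index prime to `p` contains a conjugate of any given Sylow `p`-subgroup;
equivalently the Sylow subgroup lies in a conjugate of the subgroup. -/
theorem exists_le_map_conj_of_not_dvd_index {G : Type*} [Group G] [Finite G] {p : ℕ} [Fact p.Prime]
    (R : Sylow p G) (H : Subgroup G) (h : ¬ p ∣ H.index) :
    ∃ g : G, (R : Subgroup G) ≤ H.map (MulAut.conj g).toMonoidHom := by
  have hcard : ¬ p ∣ Nat.card (G ⧸ H) := by rwa [← Subgroup.index_eq_card]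
  obtain ⟨q, hq⟩ := R.2.nonempty_fixed_point_of_prime_not_dvd_card (G ⧸ H) hcard
  induction q using QuotientGroup.induction_on with
  | H g =>
    refine ⟨g, fun a ha => ?_⟩
    rw [mem_map_conj_iff]
    have := hq ⟨a, ha⟩
    have h2 : ((a * g : G) : G ⧸ H) = (g : G ⧸ H) := this
    rw [QuotientGroup.eq] at h2
    have h3 := H.inv_mem h2
    simpa [mul_assoc] using h3

/-- If `R ≤ M`, `R ≤ g M g⁻¹` and `N_G(R) ≤ M` then `g ∈ M`. -/
theorem mem_of_sylow_le_conj {G : Type*} [Group G] [Finite G] {p : ℕ} [Fact p.Prime]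
    (R : Sylow p G) (M : Subgroup G) (hRM : (R : Subgroup G) ≤ M)
    (hN : Subgroup.normalizer ((R : Subgroup G) : Set G) ≤ M) (g : G)
    (hg : (R : Subgroup G) ≤ M.map (MulAut.conj g).toMonoidHom) : g ∈ M := by
  -- `g⁻¹ • R ≤ M`
  have h1 : ((g⁻¹ • R : Sylow p G) : Subgroup G) ≤ M := by
    intro x hx
    rw [Sylow.coe_subgroup_smul, Subgroup.mem_pointwise_smul_iff_inv_smul_mem] at hx
    have hx' : g * x * g⁻¹ ∈ (R : Subgroup G) := by
      simpa [MulAut.smul_def, MulAut.conj_apply] using hx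
    have := hg hx'
    rw [mem_map_conj_iff] at this
    simpa [mul_assoc] using this
  obtain ⟨m, hm⟩ := MulAction.exists_smul_eq M ((g⁻¹ • R : Sylow p G).subtype h1) (R.subtype hRM)
  have h2 : (m : G) • (g⁻¹ • R : Sylow p G) = R := by
    have := congrArg (fun Q : Sylow p M => (Q : Subgroup M).map M.subtype) hm
    apply Sylow.ext
    have e1 : ((m • (g⁻¹ • R : Sylow p G).subtype h1 : Sylow p M) : Subgroup M).map M.subtype
        = (((m : G) • (g⁻¹ • R : Sylow p G) : Sylow p G) : Subgroup G) := by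
      rw [Sylow.smul_subtype h1 m, Sylow.coe_subtype, Subgroup.subgroupOf_map_subtype]
      exact inf_of_le_left (Sylow.smul_le h1 m)
    have e2 : ((R.subtype hRM : Sylow p M) : Subgroup M).map M.subtype = (R : Subgroup G) := by
      rw [Sylow.coe_subtype, Subgroup.subgroupOf_map_subtype]
      exact inf_of_le_left hRM
    rw [← e1, ← e2]
    exact this
  rw [← mul_smul] at h2
  have h3 : (m : G) * g⁻¹ ∈ Subgroup.normalizer ((R : Subgroup G) : Set G) :=
    Sylow.smul_eq_iff_mem_normalizer.mp h2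
  have h4 := hN h3
  have h5 : g⁻¹ ∈ M := by
    have := M.mul_mem (M.inv_mem m.2) h4
    simpa using this
  simpa using M.inv_mem h5

end Cfsg.Agent.Helper64
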