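import Mathlib
import Cfsg.Agent.Lib.Helper64.Basic

set_option autoImplicit false

namespace Cfsg.Agent.Helper64

open Subgroup

/-- An element whose order is coprime to the index of a normal subgroup lies in it. -/
theorem mem_of_coprime_index {G : Type*} [Group G] [Finite G] (N : Subgroup G) [N.Normal] (g : G)
    (h : (orderOf g).Coprime N.index) : g ∈ N := by
  have h2 : orderOf (QuotientGroup.mk' N g) ∣ orderOf g := orderOf_map_dvd _ g
  have h3 : orderOf (QuotientGroup.mk' N g) ∣ N.index := by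
    rw [Subgroup.index_eq_card]; exact orderOf_dvd_natCard _
  have h4 : orderOf (QuotientGroup.mk' N g) = 1 := Nat.eq_one_of_dvd_coprimes h h2 h3
  rw [orderOf_eq_one_iff, QuotientGroup.mk'_apply, QuotientGroup.eq_one_iff] at h4
  exact h4

/-- A `p`-element lies in a normal Sylow `p`-subgroup. -/
theorem mem_normal_sylow_of_orderOf {G : Type*} [Group G] [Finite G] {p : ℕ} [Fact p.Prime]
    (P : Sylow p G) (hP : (P : Subgroup G).Normal) (x : G) (a : ℕ) (hx : orderOf x = p ^ a) :
    x ∈ (P : Subgroup G) := by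
  have hz : IsPGroup p (zpowers x) := IsPGroup.of_card (n := a) (by rw [Nat.card_zpowers, hx])
  obtain ⟨Q, hQ⟩ := hz.exists_le_sylow
  obtain ⟨g, rfl⟩ := MulAction.exists_smul_eq G P Q
  rw [Sylow.smul_eq_of_normal] at hQ
  exact hQ (mem_zpowers x)

/-- Burnside: a group with a central Sylow `p`-subgroup has a normal `p`-complement. -/
theorem exists_normal_complement_of_central {H : Type*} [Group H] [Finite H] {p : ℕ}
    [Fact p.Prime] (Z : Sylow p H) (hZ : (Z : Subgroup H) ≤ center H) :
    ∃ N : Subgroup H, N.Normal ∧ N.IsComplement' (Z : Subgroup H) := by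
  have hP : normalizer ((Z : Subgroup H) : Set H) ≤ centralizer ((Z : Subgroup H) : Set H) := by
    intro h _
    rw [mem_centralizer_iff]
    intro z hz
    exact ((mem_center_iff.mp (hZ hz)) h).symm
  exact ⟨(MonoidHom.transferSylow Z hP).ker, inferInstance,
    MonoidHom.ker_transferSylow_isComplement' Z hP⟩

/-- If a normal subgroup `N` has `p`-power index and order prime to `p`, it contains every element
of order prime to `p`. -/
theorem mem_of_coprime_of_index_pow {G : Type*} [Group G] [Finite G] {p : ℕ} [Fact p.Prime]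
    (N : Subgroup G) [N.Normal] (n : ℕ) (hN : N.index = p ^ n) (g : G)
    (hg : (orderOf g).Coprime p) : g ∈ N := by
  apply mem_of_coprime_index
  rw [hN]
  exact Nat.Coprime.pow_right n hg

end Cfsg.Agent.Helper64

namespace Cfsg.Agent.Helper64

open Subgroup

theorem orderOf_conj_eq {G : Type*} [Group G] (g y : G) : orderOf (g * y * g⁻¹) = orderOf y := by
  have := MulEquiv.orderOf_eq (MulAut.conj g) y
  rwa [MulAut.conj_apply] at this

/-- If every `p`-element commutes with every element of prime-power order for primes `q ≠ p`,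
then a Sylow `p`-subgroup is a direct factor. -/
theorem direct_factor_of_commute {G : Type*} [Group G] [Finite G] (p : ℕ) [Fact p.Prime]
    (h : ∀ x y : G, (∃ a : ℕ, orderOf x = p ^ a) →
      (∃ q b : ℕ, q.Prime ∧ q ≠ p ∧ orderOf y = q ^ b) → x * y = y * x) :
    ∃ (P : Sylow p G) (K : Subgroup G), (P : Subgroup G).Normal ∧ K.Normal ∧
      (P : Subgroup G) ⊓ K = ⊥ ∧ (P : Subgroup G) ⊔ K = ⊤ := by
  classical
  have hp : p.Prime := Fact.out
  obtain ⟨P⟩ : Nonempty (Sylow p G) := inferInstance
  set S : Set G := {y | ∃ q b : ℕ, q.Prime ∧ q ≠ p ∧ orderOf y = q ^ b} with hS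
  set K := normalClosure S with hK
  have hKn : K.Normal := normalClosure_normal
  -- `p`-elements centralize `K`
  have hcent : ∀ x : G, (∃ a : ℕ, orderOf x = p ^ a) → x ∈ centralizer (K : Set G) := by
    intro x hx
    have : centralizer (K : Set G) = centralizer (Group.conjugatesOfSet S) := by
      rw [hK]; exact centralizer_closure _
    rw [this, mem_centralizer_iff]
    intro y hy
    rw [Group.mem_conjugatesOfSet_iff] at hy
    obtain ⟨a, ⟨q, b, hq, hqp, ha⟩, hconj⟩ := hy
    obtain ⟨c, hc⟩ := isConj_iff.mp hconj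
    have hyS : ∃ q b : ℕ, q.Prime ∧ q ≠ p ∧ orderOf y = q ^ b :=
      ⟨q, b, hq, hqp, by rw [← hc, orderOf_conj_eq, ha]⟩
    exact (h x y hx hyS).symm
  have hPcent : (P : Subgroup G) ≤ centralizer (K : Set G) := by
    intro x hx
    apply hcent
    obtain ⟨k, hk⟩ := P.2 ⟨x, hx⟩
    have hk' : x ^ p ^ k = 1 := by
      have := congrArg Subtype.val hk
      simpa using this
    obtain ⟨a, -, ha⟩ := (Nat.dvd_prime_pow hp).mp (orderOf_dvd_of_pow_eq_one hk')
    exact ⟨a, ha⟩
  -- `K` has `p`-power index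
  have hKidx : ∃ m : ℕ, K.index = p ^ m := by
    have hne : K.index ≠ 0 := index_ne_zero_of_finite
    refine ⟨_, Nat.eq_prime_pow_of_unique_prime_dvd hne ?_⟩
    intro q hq hqdvd
    by_contra hqp
    have : Fact q.Prime := ⟨hq⟩
    obtain ⟨Q⟩ : Nonempty (Sylow q G) := inferInstance
    have hQK : (Q : Subgroup G) ≤ K := by
      intro y hy
      apply subset_normalClosure
      obtain ⟨k, hk⟩ := Q.2 ⟨y, hy⟩
      have hk' : y ^ q ^ k = 1 := by
        have := congrArg Subtype.val hk
        simpa using this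
      obtain ⟨b, -, hb⟩ := (Nat.dvd_prime_pow hq).mp (orderOf_dvd_of_pow_eq_one hk')
      exact ⟨q, b, hq, hqp, hb⟩
    exact Q.not_dvd_index (dvd_trans hqdvd (index_dvd_of_le hQK))
  obtain ⟨m, hm⟩ := hKidx
  -- the Sylow `p`-subgroup `Z` of `K` is central in `K`
  set Z : Sylow p K := sylowInfNormal P K with hZ
  have hZc : (Z : Subgroup K) ≤ center K := by
    intro z hz
    rw [mem_center_iff]
    intro k
    have hz' : (z : G) ∈ (P : Subgroup G) ⊓ K := by
      have : z ∈ ((P : Subgroup G) ⊓ K).subgroupOf K := hz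
      rwa [mem_subgroupOf] at this
    have := hPcent hz'.1
    rw [mem_centralizer_iff] at this
    apply Subtype.ext
    simpa using (this k.1 k.2)
  obtain ⟨N₀, hN₀n, hN₀c⟩ := exists_normal_complement_of_central Z hZc
  -- facts about `N₀`
  have hN₀idx : N₀.index = Nat.card (Z : Subgroup K) := by
    have := hN₀c.symm.index_eq_card
    exact this
  obtain ⟨z, hz⟩ := IsPGroup.iff_card.mp Z.2
  have hN₀idx' : N₀.index = p ^ z := by rw [hN₀idx, hz]
  have hN₀card : ¬ p ∣ Nat.card N₀ := by
    have h1 : Nat.card N₀ = (Z : Subgroup K).index := hN₀c.index_eq_card.symm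
    rw [h1]
    exact Z.not_dvd_index
  -- `K₀`
  set K₀ := N₀.map K.subtype with hK₀
  have hK₀K : K₀ ≤ K := map_subtype_le N₀
  have hmemK₀ : ∀ g : G, g ∈ K → (orderOf g).Coprime p → g ∈ K₀ := by
    intro g hgK hg
    have : (⟨g, hgK⟩ : K) ∈ N₀ := by
      apply mem_of_coprime_of_index_pow N₀ z hN₀idx'
      rwa [Subgroup.orderOf_mk]
    exact ⟨⟨g, hgK⟩, this, rfl⟩
  have hK₀ord : ∀ g ∈ K₀, (orderOf g).Coprime p := by
    rintro g ⟨k, hk, rfl⟩
    have h1 : orderOf (⟨k, hk⟩ : N₀) ∣ Nat.card N₀ := orderOf_dvd_natCard _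
    have h2 : orderOf (K.subtype k) = orderOf (⟨k, hk⟩ : N₀) := by
      rw [Subgroup.orderOf_mk]; exact (Subgroup.orderOf_coe k)
    rw [h2]
    exact (Nat.Coprime.coprime_dvd_left h1 ((Nat.Prime.coprime_iff_not_dvd hp).mpr hN₀card).symm)
  have hK₀n : K₀.Normal := by
    constructor
    intro n hn g
    apply hmemK₀
    · exact hKn.conj_mem n (hK₀K hn) g
    · rw [orderOf_conj_eq]; exact hK₀ord n hn
  -- index of `K₀`
  have hK₀idx : K₀.index = p ^ (z + m) := by
    have h1 : K₀.relIndex K = N₀.index := by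
      rw [relIndex, hK₀]
      congr 1
      ext x
      simp [mem_subgroupOf]
    rw [← relIndex_mul_index hK₀K, h1, hN₀idx', hm, pow_add]
  have hinf : (P : Subgroup G) ⊓ K₀ = ⊥ := by
    rw [eq_bot_iff]
    rintro g ⟨hgP, hgK⟩
    rw [mem_bot]
    obtain ⟨k, hk⟩ := P.2 ⟨g, hgP⟩
    have hk' : g ^ p ^ k = 1 := by
      have := congrArg Subtype.val hk
      simpa using this
    have h1 : orderOf g ∣ p ^ k := orderOf_dvd_of_pow_eq_one hk'
    have h2 : (orderOf g).Coprime (p ^ k) := Nat.Coprime.pow_right k (hK₀ord g hgK)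
    have h3 : orderOf g = 1 := Nat.Coprime.eq_one_of_dvd h2 h1
    exact orderOf_eq_one_iff.mp h3
  have hsup : (P : Subgroup G) ⊔ K₀ = ⊤ := by
    rw [← index_eq_one]
    have h1 : ((P : Subgroup G) ⊔ K₀).index ∣ (P : Subgroup G).index := index_dvd_of_le le_sup_left
    have h2 : ((P : Subgroup G) ⊔ K₀).index ∣ p ^ (z + m) := hK₀idx ▸ index_dvd_of_le le_sup_right
    have h3 : ((P : Subgroup G).index).Coprime (p ^ (z + m)) :=
      Nat.Coprime.pow_right _ ((Nat.Prime.coprime_iff_not_dvd hp).mpr P.not_dvd_index).symm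
    exact Nat.eq_one_of_dvd_coprimes h3 h1 h2
  have hPn : (P : Subgroup G).Normal := by
    rw [← normalizer_eq_top_iff, eq_top_iff, ← hsup]
    apply sup_le le_normalizer
    have h1 : K₀ ≤ centralizer ((P : Subgroup G) : Set G) :=
      le_trans hK₀K (le_centralizer_iff.mp hPcent)
    exact le_trans h1 (centralizer_le_normalizer _)
  exact ⟨P, K₀, hPn, hK₀n, hinf, hsup⟩

end Cfsg.Agent.Helper64

namespace Cfsg.Agent.Helper64

open Subgroup

/-- The index of a normal complement of a Sylow `p`-subgroup is a power of `p`. -/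
theorem index_complement_eq_pow {G : Type*} [Group G] [Finite G] {p : ℕ} [Fact p.Prime]
    (P : Sylow p G) (K : Subgroup G) [K.Normal] (hsup : (P : Subgroup G) ⊔ K = ⊤) :
    ∃ j : ℕ, K.index = p ^ j := by
  have h1 : K.index = K.relIndex (P : Subgroup G) := by
    rw [← relIndex_top_right, ← hsup, relIndex_sup_right]
  have h2 : K.index ∣ Nat.card (P : Subgroup G) := by
    rw [h1]; exact relIndex_dvd_card _ _
  obtain ⟨n, hn⟩ := IsPGroup.iff_card.mp P.2
  rw [hn] at h2
  obtain ⟨j, -, hj⟩ := (Nat.dvd_prime_pow (Fact.out : p.Prime)).mp h2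
  exact ⟨j, hj⟩

/-- Elements of `q`-power order, `q ≠ p`, lie in a normal complement of a Sylow `p`-subgroup. -/
theorem mem_complement_of_orderOf {G : Type*} [Group G] [Finite G] {p : ℕ} [Fact p.Prime]
    (P : Sylow p G) (K : Subgroup G) [K.Normal] (hsup : (P : Subgroup G) ⊔ K = ⊤) (y : G)
    (q b : ℕ) (hq : q.Prime) (hqp : q ≠ p) (hy : orderOf y = q ^ b) : y ∈ K := by
  obtain ⟨j, hj⟩ := index_complement_eq_pow P K hsup
  apply mem_of_coprime_of_index_pow K j hj
  rw [hy]
  exact Nat.Coprime.pow_left b ((Nat.coprime_primes hq (Fact.out : p.Prime)).mpr hqp)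

/-- In a group with a Sylow `p`-subgroup as a direct factor, `p`-elements commute with `q`-elements. -/
theorem commute_of_direct_factor {G : Type*} [Group G] [Finite G] {p : ℕ} [Fact p.Prime]
    (P : Sylow p G) (K : Subgroup G) (hP : (P : Subgroup G).Normal) (hK : K.Normal)
    (hinf : (P : Subgroup G) ⊓ K = ⊥) (hsup : (P : Subgroup G) ⊔ K = ⊤) (x y : G)
    (hx : ∃ a : ℕ, orderOf x = p ^ a) (hy : ∃ q b : ℕ, q.Prime ∧ q ≠ p ∧ orderOf y = q ^ b) :
    x * y = y * x := by
  obtain ⟨a, ha⟩ := hx
  obtain ⟨q, b, hq, hqp, hb⟩ := hy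
  have hxP := mem_normal_sylow_of_orderOf P hP x a ha
  have hyK := mem_complement_of_orderOf P K hsup y q b hq hqp hb
  exact commute_of_normal_of_disjoint _ _ hP hK (disjoint_iff.mpr hinf) x y hxP hyK

/-- For commuting elements of coprime orders, `C(xy) = C(x) ∩ C(y)`. -/
theorem centralizer_mul_of_coprime {G : Type*} [Group G] (x y : G) (hxy : x * y = y * x)
    (hcop : (orderOf x).Coprime (orderOf y)) :
    centralizer ({x * y} : Set G) = centralizer ({x} : Set G) ⊓ centralizer ({y} : Set G) := by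
  have hc : Commute x y := hxy
  apply le_antisymm
  · intro g hg
    rw [mem_centralizer_iff] at hg
    have hg' : Commute g (x * y) := (hg _ rfl).symm
    have hx : Commute g x := by
      obtain ⟨m, hm⟩ := exists_pow_eq_self_of_coprime hcop.symm (x := x)
      have h1 : (x * y) ^ orderOf y = x ^ orderOf y := by
        rw [hc.mul_pow, pow_orderOf_eq_one, mul_one]
      have h2 : Commute g (((x * y) ^ orderOf y) ^ m) := (hg'.pow_right _).pow_right _
      rwa [h1, hm] at h2
    have hy : Commute g y := by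
      obtain ⟨m, hm⟩ := exists_pow_eq_self_of_coprime hcop (x := y)
      have h1 : (x * y) ^ orderOf x = y ^ orderOf x := by
        rw [hc.mul_pow, pow_orderOf_eq_one, one_mul]
      have h2 : Commute g (((x * y) ^ orderOf x) ^ m) := (hg'.pow_right _).pow_right _
      rwa [h1, hm] at h2
    rw [mem_inf]
    refine ⟨?_, ?_⟩
    · rw [mem_centralizer_iff]; intro z hz; rw [Set.mem_singleton_iff] at hz; rw [hz]; exact hx.symm
    · rw [mem_centralizer_iff]; intro z hz; rw [Set.mem_singleton_iff] at hz; rw [hz]; exact hy.symm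
  · intro g hg
    rw [mem_inf] at hg
    obtain ⟨hgx, hgy⟩ := hg
    rw [mem_centralizer_iff] at hgx hgy ⊢
    intro z hz
    rw [Set.mem_singleton_iff] at hz
    rw [hz]
    have h1 : x * g = g * x := hgx x rfl
    have h2 : y * g = g * y := hgy y rfl
    calc x * y * g = x * (y * g) := mul_assoc _ _ _
      _ = x * (g * y) := by rw [h2]
      _ = (x * g) * y := (mul_assoc _ _ _).symm
      _ = g * x * y := by rw [h1]
      _ = g * (x * y) := mul_assoc _ _ _

end Cfsg.Agent.Helper64
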