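import Mathlib

/-!
# Polynomial sequences in a filtered group (Lazard / Leibman), helper64

For a group `K` with a filtration `F : ℕ → Subgroup K` (`F` antitone, `⁅F i, F j⁆ ≤ F (i + j)`,
`F (d + 1) = ⊥`) we call a sequence `s : ℕ → K` *polynomial of level `k`* (`Q F k s`) when all its
mixed (left and right) iterated differences of order `r` take values in `F (k + r)`.

Main result: `Q F k` is closed under pointwise products and inverses and
`⁅Q F i, Q F j⁆ ⊆ Q F (i + j)` (Lazard--Leibman).  This is the engine behind the Hall--Petrescu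
formula, see `HallPetrescu.lean`.
-/

set_option autoImplicit false

namespace Cfsg.Agent.Helper64.PolySeq

open scoped commutatorElement

variable {K : Type*} [Group K]

/-- right difference `s(n)⁻¹ s(n+1)`. -/
def dR (s : ℕ → K) : ℕ → K := fun n => (s n)⁻¹ * s (n + 1)

/-- left difference `s(n+1) s(n)⁻¹`. -/
def dL (s : ℕ → K) : ℕ → K := fun n => s (n + 1) * (s n)⁻¹

/-- right (`true`) or left (`false`) difference. -/
def dB : Bool → (ℕ → K) → (ℕ → K)
  | true, s => dR s
  | false, s => dL s

/-- iterated mixed differences. -/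
def iterD : List Bool → (ℕ → K) → (ℕ → K)
  | [], s => s
  | b :: w, s => iterD w (dB b s)

/-- polynomial sequences of level `k` with respect to the filtration `F`. -/
def Q (F : ℕ → Subgroup K) (k : ℕ) (s : ℕ → K) : Prop :=
  ∀ (w : List Bool) (n : ℕ), iterD w s n ∈ F (k + w.length)

variable {F : ℕ → Subgroup K}

theorem Q_iff (k : ℕ) (s : ℕ → K) :
    Q F k s ↔ (∀ n, s n ∈ F k) ∧ Q F (k + 1) (dR s) ∧ Q F (k + 1) (dL s) := by
  constructor
  · intro h
    refine ⟨fun n => by simpa [iterD] using h [] n, fun w n => ?_, fun w n => ?_⟩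
    · have := h (true :: w) n
      simp only [iterD, dB, List.length_cons] at this
      rwa [show k + 1 + w.length = k + (w.length + 1) by omega]
    · have := h (false :: w) n
      simp only [iterD, dB, List.length_cons] at this
      rwa [show k + 1 + w.length = k + (w.length + 1) by omega]
  · rintro ⟨h0, h1, h2⟩ w n
    cases w with
    | nil => simpa [iterD] using h0 n
    | cons b w =>
      cases b with
      | true =>
        have := h1 w n
        simp only [iterD, dB, List.length_cons]
        rwa [show k + 1 + w.length = k + (w.length + 1) by omega] at this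
      | false =>
        have := h2 w n
        simp only [iterD, dB, List.length_cons]
        rwa [show k + 1 + w.length = k + (w.length + 1) by omega] at this

theorem Q.val {k : ℕ} {s : ℕ → K} (h : Q F k s) (n : ℕ) : s n ∈ F k := ((Q_iff k s).1 h).1 n

theorem Q.dR {k : ℕ} {s : ℕ → K} (h : Q F k s) : Q F (k + 1) (dR s) := ((Q_iff k s).1 h).2.1

theorem Q.dL {k : ℕ} {s : ℕ → K} (h : Q F k s) : Q F (k + 1) (dL s) := ((Q_iff k s).1 h).2.2

theorem dB_one (b : Bool) : dB b (fun _ : ℕ => (1 : K)) = fun _ => 1 := by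
  cases b <;> (funext n; simp [dB, dR, dL])

theorem iterD_one (w : List Bool) : iterD w (fun _ : ℕ => (1 : K)) = fun _ => 1 := by
  induction w with
  | nil => rfl
  | cons b w ih => simp only [iterD, dB_one, ih]

theorem Q_one (k : ℕ) : Q F k (fun _ => 1) := by
  intro w n
  rw [iterD_one]
  exact one_mem _

theorem dB_inv (b : Bool) (s : ℕ → K) :
    dB b (fun n => (s n)⁻¹) = fun n => (dB (!b) s n)⁻¹ := by
  cases b <;> (funext n; simp [dB, dR, dL, mul_inv_rev])

theorem iterD_inv (w : List Bool) (s : ℕ → K) :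
    iterD w (fun n => (s n)⁻¹) = fun n => (iterD (w.map not) s n)⁻¹ := by
  induction w generalizing s with
  | nil => rfl
  | cons b w ih =>
    simp only [iterD, List.map_cons, dB_inv]
    exact ih _

theorem Q.inv {k : ℕ} {s : ℕ → K} (h : Q F k s) : Q F k (fun n => (s n)⁻¹) := by
  intro w n
  rw [iterD_inv]
  have := h (w.map not) n
  rw [List.length_map] at this
  exact inv_mem this

theorem dB_shift (b : Bool) (s : ℕ → K) :
    dB b (fun n => s (n + 1)) = fun n => dB b s (n + 1) := by
  cases b <;> rfl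

theorem iterD_shift (w : List Bool) (s : ℕ → K) :
    iterD w (fun n => s (n + 1)) = fun n => iterD w s (n + 1) := by
  induction w generalizing s with
  | nil => rfl
  | cons b w ih =>
    simp only [iterD, dB_shift]
    exact ih _

theorem Q.shift {k : ℕ} {s : ℕ → K} (h : Q F k s) : Q F k (fun n => s (n + 1)) := by
  intro w n
  rw [iterD_shift]
  exact h w (n + 1)

theorem Q.mono (hanti : Antitone F) {k k' : ℕ} (hk : k ≤ k') {s : ℕ → K} (h : Q F k' s) :
    Q F k s := by
  intro w n
  exact hanti (by omega : k + w.length ≤ k' + w.length) (h w n)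

theorem Q_const {k : ℕ} {t : K} (ht : t ∈ F k) : Q F k (fun _ => t) := by
  rw [Q_iff]
  refine ⟨fun _ => ht, ?_, ?_⟩
  · have : dR (fun _ : ℕ => t) = fun _ => 1 := by funext n; simp [dR]
    rw [this]; exact Q_one _
  · have : dL (fun _ : ℕ => t) = fun _ => 1 := by funext n; simp [dL]
    rw [this]; exact Q_one _

theorem Q.eq_one {d : ℕ} (hbot : F (d + 1) = ⊥) (hanti : Antitone F) {k : ℕ} (hk : d + 1 ≤ k)
    {s : ℕ → K} (h : Q F k s) (n : ℕ) : s n = 1 := by
  have h1 : s n ∈ F (d + 1) := hanti hk (h.val n)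
  rw [hbot] at h1
  exact Subgroup.mem_bot.1 h1

theorem Q.congr {k k' : ℕ} (hk : k = k') {s : ℕ → K} (h : Q F k s) : Q F k' s := hk ▸ h

/-- The closure statement at threshold `s`. -/
structure Main (F : ℕ → Subgroup K) (s : ℕ) : Prop where
  mul : ∀ k, s ≤ k → ∀ g h : ℕ → K, Q F k g → Q F k h → Q F k (fun n => g n * h n)
  comm : ∀ i j, s ≤ i + j → ∀ g h : ℕ → K, Q F i g → Q F j h →
    Q F (i + j) (fun n => ⁅g n, h n⁆)

theorem main_base {d : ℕ} (hbot : F (d + 1) = ⊥) (hanti : Antitone F)
    (hcomm : ∀ i j, ⁅F i, F j⁆ ≤ F (i + j)) (s : ℕ) (hs : d + 1 ≤ s) : Main F s := by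
  constructor
  · intro k hk g h hg hh
    have : (fun n => g n * h n) = fun _ => (1 : K) := by
      funext n
      rw [hg.eq_one hbot hanti (hs.trans hk) n, hh.eq_one hbot hanti (hs.trans hk) n, one_mul]
    rw [this]; exact Q_one _
  · intro i j hij g h hg hh
    have : (fun n => ⁅g n, h n⁆) = fun _ => (1 : K) := by
      funext n
      have h1 : ⁅g n, h n⁆ ∈ F (i + j) :=
        hcomm i j (Subgroup.commutator_mem_commutator (hg.val n) (hh.val n))
      have h2 : ⁅g n, h n⁆ ∈ F (d + 1) := hanti (hs.trans hij) h1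
      rw [hbot] at h2
      exact Subgroup.mem_bot.1 h2
    rw [this]; exact Q_one _

section step

variable {s : ℕ} (hM : Main F (s + 1)) (hanti : Antitone F)
  (hcomm : ∀ i j, ⁅F i, F j⁆ ≤ F (i + j))

include hM hanti in
theorem conj_mem {k i : ℕ} (hk : s + 1 ≤ k) {x g : ℕ → K} (hx : Q F k x) (hg : Q F i g) :
    Q F k (fun n => g n * x n * (g n)⁻¹) := by
  have h1 : Q F (i + k) (fun n => ⁅g n, x n⁆) := hM.comm i k (by omega) g x hg hx
  have h2 : Q F k (fun n => ⁅g n, x n⁆) := h1.mono hanti (by omega)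
  have h3 := hM.mul k hk _ _ h2 hx
  have : (fun n => g n * x n * (g n)⁻¹) = fun n => ⁅g n, x n⁆ * x n := by
    funext n
    simp only [commutatorElement_def]
    group
  rw [this]; exact h3

include hM hanti in
theorem commL {i j : ℕ} (hij : i + j = s) {g h : ℕ → K} (hg : Q F i g) (hh : Q F j h) :
    Q F (s + 1) (dL (fun n => ⁅g n, h n⁆)) := by
  have hA : Q F (s + 1) (fun n => ⁅(g n)⁻¹, dR h n⁆) :=
    (hM.comm i (j + 1) (by omega) _ _ hg.inv hh.dR).congr (by omega)
  have hA' := conj_mem hM hanti (le_refl _) hA hh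
  have hA'' := hA'.inv
  have hB : Q F (s + 1) (fun n => ⁅h (n + 1), dR g n⁆) :=
    (hM.comm j (i + 1) (by omega) _ _ hh.shift hg.dR).congr (by omega)
  have hB' := hB.inv
  have hC := hM.mul (s + 1) (le_refl _) _ _ hB' hA''
  have hD := conj_mem hM hanti (le_refl _) hC hg
  have : dL (fun n => ⁅g n, h n⁆) = fun n => g n *
      ((⁅h (n + 1), dR g n⁆)⁻¹ * (h n * ⁅(g n)⁻¹, dR h n⁆ * (h n)⁻¹)⁻¹) * (g n)⁻¹ := by
    funext n
    simp only [dR, dL, commutatorElement_def]
    group
  rw [this]; exact hD

include hM hanti hcomm in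
theorem commQ {i j : ℕ} (hij : i + j = s) {g h : ℕ → K} (hg : Q F i g) (hh : Q F j h) :
    Q F (i + j) (fun n => ⁅g n, h n⁆) := by
  rw [Q_iff]
  refine ⟨fun n => hcomm i j (Subgroup.commutator_mem_commutator (hg.val n) (hh.val n)), ?_, ?_⟩
  · have h1 : Q F (s + 1) (dL (fun n => ⁅h n, g n⁆)) :=
      commL hM hanti (by omega) hh hg
    have h2 := h1.inv
    have : dR (fun n => ⁅g n, h n⁆) = fun n => (dL (fun n => ⁅h n, g n⁆) n)⁻¹ := by
      funext n
      simp only [dR, dL, commutatorElement_def]
      group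
    rw [this]; exact h2.congr (by omega)
  · exact (commL hM hanti hij hg hh).congr (by omega)

include hM hanti in
theorem mulL {g h : ℕ → K} (hg : Q F s g) (hh : Q F s h) :
    Q F (s + 1) (dL (fun n => g n * h n)) := by
  have h1 := conj_mem hM hanti (le_refl _) hh.dL hg
  have h2 := hM.mul (s + 1) (le_refl _) _ _ hg.dL h1
  have : dL (fun n => g n * h n) = fun n => dL g n * (g n * dL h n * (g n)⁻¹) := by
    funext n
    simp only [dL]
    group
  rw [this]; exact h2

include hM hanti in
theorem mulQ {g h : ℕ → K} (hg : Q F s g) (hh : Q F s h) :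
    Q F s (fun n => g n * h n) := by
  rw [Q_iff]
  refine ⟨fun n => mul_mem (hg.val n) (hh.val n), ?_, mulL hM hanti hg hh⟩
  have h1 := (mulL hM hanti hh.inv hg.inv).inv
  have : dR (fun n => g n * h n) = fun n => (dL (fun n => (h n)⁻¹ * (g n)⁻¹) n)⁻¹ := by
    funext n
    simp only [dR, dL]
    group
  rw [this]; exact h1

include hM hanti hcomm in
theorem main_step : Main F s := by
  constructor
  · intro k hk g h hg hh
    rcases Nat.eq_or_lt_of_le hk with h1 | h1
    · subst h1; exact mulQ hM hanti hg hh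
    · exact hM.mul k h1 g h hg hh
  · intro i j hij g h hg hh
    rcases Nat.eq_or_lt_of_le hij with h1 | h1
    · exact commQ hM hanti hcomm h1.symm hg hh
    · exact hM.comm i j h1 g h hg hh

end step

theorem main_all {d : ℕ} (hbot : F (d + 1) = ⊥) (hanti : Antitone F)
    (hcomm : ∀ i j, ⁅F i, F j⁆ ≤ F (i + j)) : ∀ s, Main F s := by
  have key : ∀ m s, d + 1 ≤ s + m → Main F s := by
    intro m
    induction m with
    | zero => intro s hs; exact main_base hbot hanti hcomm s (by omega)
    | succ m ih =>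
      intro s hs
      exact main_step (ih (s + 1) (by omega)) hanti hcomm
  intro s
  exact key (d + 1) s (by omega)

/-- polynomial sequences are closed under products. -/
theorem Q.mul {d : ℕ} (hbot : F (d + 1) = ⊥) (hanti : Antitone F)
    (hcomm : ∀ i j, ⁅F i, F j⁆ ≤ F (i + j)) {k : ℕ} {g h : ℕ → K} (hg : Q F k g)
    (hh : Q F k h) : Q F k (fun n => g n * h n) :=
  (main_all hbot hanti hcomm 0).mul k (Nat.zero_le _) g h hg hh

/-- commutators of polynomial sequences. -/
theorem Q.commutator {d : ℕ} (hbot : F (d + 1) = ⊥) (hanti : Antitone F)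
    (hcomm : ∀ i j, ⁅F i, F j⁆ ≤ F (i + j)) {i j : ℕ} {g h : ℕ → K} (hg : Q F i g)
    (hh : Q F j h) : Q F (i + j) (fun n => ⁅g n, h n⁆) :=
  (main_all hbot hanti hcomm 0).comm i j (Nat.zero_le _) g h hg hh

end Cfsg.Agent.Helper64.PolySeq
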