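import Mathlib
import Cfsg.Prelude.Def_PLocal
import Cfsg.Agent.Lib.Helper64.PolySeq
import Cfsg.Agent.Lib.Helper62.LowerCentral
import Cfsg.Agent.Lib.Helper70.Kemhadze

/-!
# Hall--Petrescu at a prime, and P. Hall's theorem "class `< p` implies regular" (helper64)

* `taylor_mem` : a polynomial sequence `g` (w.r.t. a filtration of length `d < p`) with
  `g 0 = g 1 = 1` satisfies `g p ∈ ⟨x ^ p | x ∈ F 2⟩`.
* `hall_petrescu_prime` : in a group of class `< p`,
  `((x y)^p)⁻¹ x^p y^p ∈ ⟨c ^ p | c ∈ G'⟩`.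
* `regAt_one_of_class_lt`, `isRegularPGroup_of_class_lt` : finite `p`-groups of class `< p`
  are regular.
-/

set_option autoImplicit false

namespace Cfsg.Agent.Helper64.PolySeq

open scoped commutatorElement

variable {K : Type*} [Group K] {F : ℕ → Subgroup K}

/-- the binomial sequence `n ↦ t ^ (n choose j)`. -/
def binomSeq (j : ℕ) (t : K) : ℕ → K := fun n => t ^ (n.choose j)

theorem dR_binomSeq_succ (j : ℕ) (t : K) : dR (binomSeq (j + 1) t) = binomSeq j t := by
  funext n
  simp only [dR, binomSeq]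
  rw [Nat.choose_succ_succ, pow_add, ← mul_assoc]
  have : Commute (t ^ n.choose (j + 1))⁻¹ (t ^ n.choose j) :=
    ((Commute.refl t).pow_pow _ _).inv_left
  rw [this.eq, mul_assoc, inv_mul_cancel, mul_one]

theorem dL_binomSeq_succ (j : ℕ) (t : K) : dL (binomSeq (j + 1) t) = binomSeq j t := by
  funext n
  simp only [dL, binomSeq]
  rw [Nat.choose_succ_succ, pow_add, mul_assoc, mul_inv_cancel, mul_one]

theorem binomSeq_zero (t : K) : binomSeq 0 t = fun _ => t := by
  funext n
  simp [binomSeq]

theorem Q_binomSeq (hanti : Antitone F) (i : ℕ) : ∀ (k : ℕ) (t : K), t ∈ F (k + i) →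
    Q F k (binomSeq i t) := by
  induction i with
  | zero =>
    intro k t ht
    rw [binomSeq_zero]
    exact Q_const (by simpa using ht)
  | succ i ih =>
    intro k t ht
    rw [Q_iff]
    refine ⟨fun n => ?_, ?_, ?_⟩
    · exact pow_mem (hanti (by omega : k ≤ k + (i + 1)) ht) _
    · rw [dR_binomSeq_succ]
      exact ih (k + 1) t (by rwa [show k + 1 + i = k + (i + 1) by omega])
    · rw [dL_binomSeq_succ]
      exact ih (k + 1) t (by rwa [show k + 1 + i = k + (i + 1) by omega])

theorem iter_dR_zero : ∀ (j : ℕ) (g : ℕ → K), (∀ m < j, g m = 1) → (dR^[j] g) 0 = g j := by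
  intro j
  induction j with
  | zero => intro g _; rfl
  | succ j ih =>
    intro g hg
    rw [Function.iterate_succ_apply, ih (dR g)]
    · simp only [dR]
      rw [hg j (by omega), inv_one, one_mul]
    · intro m hm
      simp only [dR]
      rw [hg m (by omega), hg (m + 1) (by omega), inv_one, one_mul]

theorem Q_iter_dR : ∀ (j k : ℕ) (g : ℕ → K), Q F k g → Q F (k + j) (dR^[j] g) := by
  intro j
  induction j with
  | zero => intro k g hg; exact hg
  | succ j ih =>
    intro k g hg
    rw [Function.iterate_succ_apply]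
    exact (ih (k + 1) (dR g) hg.dR).congr (by omega)

theorem eq_one_of_iter : ∀ (j : ℕ) (g : ℕ → K), (∀ n, (dR^[j] g) n = 1) → (∀ m < j, g m = 1) →
    ∀ n, g n = 1 := by
  intro j
  induction j with
  | zero => intro g h _ n; exact h n
  | succ j ih =>
    intro g h hv
    have h1 : ∀ n, dR g n = 1 := by
      apply ih (dR g)
      · intro n
        have := h n
        rwa [Function.iterate_succ_apply] at this
      · intro m hm
        simp only [dR]
        rw [hv m (by omega), hv (m + 1) (by omega), inv_one, one_mul]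
    intro n
    induction n with
    | zero => exact hv 0 (by omega)
    | succ n ihn =>
      have := h1 n
      simp only [dR] at this
      rw [ihn, inv_one, one_mul] at this
      exact this

theorem taylor_mem {d p : ℕ} (hp : p.Prime) (hd : d < p) (hbot : F (d + 1) = ⊥)
    (hanti : Antitone F) (hcomm : ∀ i j, ⁅F i, F j⁆ ≤ F (i + j)) :
    ∀ (m j : ℕ), j + m = d + 1 → 2 ≤ j → ∀ g : ℕ → K, Q F 0 g → (∀ i < j, g i = 1) →
      g p ∈ Subgroup.closure {y : K | ∃ x ∈ F 2, y = x ^ p} := by
  intro m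
  induction m with
  | zero =>
    intro j hj _ g hg hv
    have h1 : Q F (0 + j) (dR^[j] g) := Q_iter_dR j 0 g hg
    have h2 : ∀ n, (dR^[j] g) n = 1 := fun n => h1.eq_one hbot hanti (by omega) n
    rw [eq_one_of_iter j g h2 hv p]
    exact one_mem _
  | succ m ih =>
    intro j hj hj2 g hg hv
    have hjp : j < p := by omega
    set t := g j with ht
    have htF : t ∈ F j := by
      have h1 : Q F (0 + j) (dR^[j] g) := Q_iter_dR j 0 g hg
      have h2 := h1.val 0
      rw [iter_dR_zero j g hv] at h2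
      simpa using h2
    have he : Q F 0 (binomSeq j t) := Q_binomSeq hanti j 0 t (by simpa using htF)
    have hg' : Q F 0 (fun n => (binomSeq j t n)⁻¹ * g n) :=
      Q.mul hbot hanti hcomm he.inv hg
    have hv' : ∀ i < j + 1, (fun n => (binomSeq j t n)⁻¹ * g n) i = 1 := by
      intro i hi
      rcases Nat.lt_succ_iff_lt_or_eq.1 hi with h | h
      · simp only [binomSeq]
        rw [Nat.choose_eq_zero_of_lt h, pow_zero, inv_one, one_mul, hv i h]
      · subst h
        simp only [binomSeq]
        rw [Nat.choose_self, pow_one, ← ht, inv_mul_cancel]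
    have h3 := ih (j + 1) (by omega) (by omega) _ hg' hv'
    have h4 : g p = binomSeq j t p * ((binomSeq j t p)⁻¹ * g p) := by group
    rw [h4]
    refine mul_mem ?_ h3
    obtain ⟨q, hq⟩ := hp.dvd_choose_self (by omega : j ≠ 0) hjp
    simp only [binomSeq]
    rw [hq, pow_mul']
    exact Subgroup.subset_closure ⟨t ^ q, pow_mem (hanti hj2 htF) _, rfl⟩

end Cfsg.Agent.Helper64.PolySeq

namespace Cfsg.Agent.Helper64

open scoped commutatorElement
open PolySeq

/-- `[γ_{a+1}, γ_{b+1}] ≤ γ_{a+b+2}` (0-indexed lower central series). -/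
theorem commutator_lcs_lcs_le {H : Type*} [Group H] (a b : ℕ) :
    ⁅(⊤ : Subgroup H).lowerCentralSeries a, (⊤ : Subgroup H).lowerCentralSeries b⁆ ≤
      (⊤ : Subgroup H).lowerCentralSeries (a + b + 1) := by
  have h1 := Cfsg.Agent.Helper62.commutator_lcs_le_ic (G := H) b
    ((⊤ : Subgroup H).lowerCentralSeries a)
  have h2 : ∀ k, Cfsg.Agent.Helper62.ic ((⊤ : Subgroup H).lowerCentralSeries a) k =
      (⊤ : Subgroup H).lowerCentralSeries (a + k) := by
    intro k
    induction k with
    | zero => rfl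
    | succ k ih =>
      rw [Cfsg.Agent.Helper62.ic_succ, ih]
      rfl
  rw [h2] at h1
  exact h1

/-- the filtration `γ_i` with `γ_0 = γ_1 = ⊤`. -/
def lcsFilt (H : Type*) [Group H] (i : ℕ) : Subgroup H :=
  (⊤ : Subgroup H).lowerCentralSeries (i - 1)

theorem lcsFilt_antitone (H : Type*) [Group H] : Antitone (lcsFilt H) := by
  intro i j hij
  exact (Subgroup.lowerCentralSeries_antitone ⊤) (Nat.sub_le_sub_right hij 1)

theorem lcsFilt_comm (H : Type*) [Group H] (i j : ℕ) :
    ⁅lcsFilt H i, lcsFilt H j⁆ ≤ lcsFilt H (i + j) := by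
  unfold lcsFilt
  rcases Nat.eq_zero_or_pos i with hi | hi
  · subst hi
    simp only [zero_add]
    exact Subgroup.commutator_le_right _ _
  rcases Nat.eq_zero_or_pos j with hj | hj
  · subst hj
    simp only [add_zero]
    exact Subgroup.commutator_le_left _ _
  obtain ⟨a, rfl⟩ : ∃ a, i = a + 1 := ⟨i - 1, by omega⟩
  obtain ⟨b, rfl⟩ : ∃ b, j = b + 1 := ⟨j - 1, by omega⟩
  have := commutator_lcs_lcs_le (H := H) a b
  rwa [show a + 1 + (b + 1) - 1 = a + b + 1 by omega, Nat.add_sub_cancel, Nat.add_sub_cancel]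

/-- Hall--Petrescu at the prime `p` for groups of class `< p`. -/
theorem hall_petrescu_prime {H : Type*} [Group H] {p : ℕ} (hp : p.Prime)
    (hcl : (⊤ : Subgroup H).lowerCentralSeries (p - 1) = ⊥) (x y : H) :
    ((x * y) ^ p)⁻¹ * (x ^ p * y ^ p) ∈
      Subgroup.closure {z : H | ∃ c ∈ commutator H, z = c ^ p} := by
  have hp1 : 1 ≤ p := hp.one_lt.le
  have hbot : lcsFilt H ((p - 1) + 1) = ⊥ := by
    unfold lcsFilt
    rw [Nat.add_sub_cancel]; exact hcl
  have hanti := lcsFilt_antitone H
  have hcomm := lcsFilt_comm H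
  have hF0 : ∀ z : H, z ∈ lcsFilt H 0 := fun z => by simp [lcsFilt]
  have hF1 : ∀ z : H, z ∈ lcsFilt H 1 := fun z => by simp [lcsFilt]
  have hpow : ∀ z : H, Q (lcsFilt H) 0 (fun n => z ^ n) := by
    intro z
    rw [Q_iff]
    refine ⟨fun n => hF0 _, ?_, ?_⟩
    · have : dR (fun n => z ^ n) = fun _ => z := by
        funext n
        simp only [dR]
        rw [pow_succ, ← mul_assoc, inv_mul_cancel, one_mul]
      rw [this]; exact Q_const (hF1 z)
    · have : dL (fun n => z ^ n) = fun _ => z := by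
        funext n
        simp only [dL]
        rw [pow_succ', mul_assoc, mul_inv_cancel, mul_one]
      rw [this]; exact Q_const (hF1 z)
  have hg : Q (lcsFilt H) 0 (fun n => ((x * y) ^ n)⁻¹ * (x ^ n * y ^ n)) :=
    Q.mul hbot hanti hcomm (hpow (x * y)).inv (Q.mul hbot hanti hcomm (hpow x) (hpow y))
  have hv : ∀ i < 2, (fun n => ((x * y) ^ n)⁻¹ * (x ^ n * y ^ n)) i = 1 := by
    intro i hi
    interval_cases i
    · simp
    · simp
  have h2 : 2 ≤ p := hp.two_le
  have := taylor_mem hp (by omega : p - 1 < p) hbot hanti hcomm (p - 2) 2 (by omega) (le_refl _)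
    _ hg hv
  have hF2 : lcsFilt H 2 = commutator H := rfl
  rw [hF2] at this
  exact this

/-- P. Hall: a `p`-group of class `< p` is regular (level one). -/
theorem regAt_one_of_class_lt {G : Type*} [Group G] {p : ℕ} [hp : Fact p.Prime]
    (hG : IsPGroup p G) (hcl : (⊤ : Subgroup G).lowerCentralSeries (p - 1) = ⊥) :
    Cfsg.Agent.Helper70.RegAt p 1 G := by
  refine ⟨hG, fun a b => ?_⟩
  set H : Subgroup G := Subgroup.closure ({a, b} : Set G) with hH
  have hclH : (⊤ : Subgroup H).lowerCentralSeries (p - 1) = ⊥ := by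
    rw [← Subgroup.map_subtype_inj, Subgroup.map_bot, Subgroup.top_subtype_lowerCentralSeries,
      eq_bot_iff, ← hcl]
    exact Subgroup.lowerCentralSeries_mono (p - 1) le_top
  have ha : a ∈ H := Subgroup.subset_closure (by simp)
  have hb : b ∈ H := Subgroup.subset_closure (by simp)
  have key := hall_petrescu_prime hp.out hclH (⟨a, ha⟩ : H) ⟨b, hb⟩
  have hpc : Subgroup.closure {z : H | ∃ c ∈ commutator H, z = c ^ p} =
      Cfsg.powerClosure p 1 (commutator H) := by
    unfold Cfsg.powerClosure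
    simp only [pow_one]
  rw [hpc] at key
  have hmap : ⁅H, H⁆ = (commutator H).map H.subtype := by
    rw [commutator_def, Subgroup.map_commutator, ← MonoidHom.range_eq_map, Subgroup.range_subtype]
  refine ⟨((((⟨a, ha⟩ : H) * ⟨b, hb⟩) ^ p)⁻¹ * ((⟨a, ha⟩ : H) ^ p * (⟨b, hb⟩ : H) ^ p) : H)⁻¹, ?_, ?_⟩
  · rw [hmap, Cfsg.Agent.Helper70.powerClosure_map]
    exact Subgroup.mem_map_of_mem _ (inv_mem key)
  · simp only [pow_one]
    push_cast
    group

/-- P. Hall: a finite `p`-group of class `< p` is regular. -/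
theorem isRegularPGroup_of_class_lt {G : Type*} [Group G] [Finite G] {p : ℕ} [hp : Fact p.Prime]
    (hG : IsPGroup p G) (hcl : (⊤ : Subgroup G).lowerCentralSeries (p - 1) = ⊥) :
    Cfsg.IsRegularPGroup p G :=
  Cfsg.Agent.Helper70.isRegularPGroup_iff_regAt_one.2 (regAt_one_of_class_lt hG hcl)

end Cfsg.Agent.Helper64
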