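import Mathlib
import Cfsg.Prelude.Def_PLocal
import Cfsg.Agent.Lib.Helper64.HallPetrescu
import Cfsg.Agent.S4225
import Cfsg.Agent.S0636
import Cfsg.Agent.Lib.Helper53.MaxClass
import Cfsg.Agent.Lib.Helper32.PGroupCenter

/-!
# Huppert's lemma on `Ω₁` for `p > 3` (helper64)

For `p > 3` a `p`-group with `|Ω₁(R)| ≤ p²` has `|Ω₁(Q)| ≤ p²` for every quotient `Q`.
Proof: a hypothetical section of order `p⁴` is regular (class `< p`, P. Hall), which gives too many
elements of order `p`.
-/

set_option autoImplicit false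

namespace Cfsg.Agent.Helper64.Huppert

universe u v

/-- groups of order `p ^ r`, `2 ≤ r ≤ p`, are regular. -/
theorem regular_of_card {G : Type u} [Group G] [Finite G] {p : ℕ} [hp : Fact p.Prime] {r : ℕ}
    (hcard : Nat.card G = p ^ r) (h2 : 2 ≤ r) (hr : r ≤ p) : Cfsg.IsRegularPGroup p G := by
  have hG : IsPGroup p G := IsPGroup.of_card hcard
  apply Cfsg.Agent.Helper64.isRegularPGroup_of_class_lt hG
  haveI : Group.IsNilpotent G := hG.isNilpotent
  rw [Subgroup.lowerCentralSeries_eq_bot_iff_nilpotencyClass_le]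
  have := Cfsg.Agent.Helper53.nilpotencyClass_add_one_le (p := p) r G h2 hcard
  omega

theorem omegaOne_top_normal (p : ℕ) (Q : Type*) [Group Q] :
    (Cfsg.omegaOne p (⊤ : Subgroup Q)).Normal := by
  refine ⟨fun n hn g => ?_⟩
  unfold Cfsg.omegaOne at hn ⊢
  induction hn using Subgroup.closure_induction with
  | mem s hs =>
    refine Subgroup.subset_closure ⟨Subgroup.mem_top _, ?_⟩
    rw [conj_pow, hs.2]; simp
  | one => simp
  | mul x y _ _ ihx ihy =>
    have : g * (x * y) * g⁻¹ = (g * x * g⁻¹) * (g * y * g⁻¹) := by group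
    rw [this]; exact mul_mem ihx ihy
  | inv x _ ih =>
    have : g * x⁻¹ * g⁻¹ = (g * x * g⁻¹)⁻¹ := by group
    rw [this]; exact inv_mem ih

theorem mem_omegaOne_top {p : ℕ} {Q : Type*} [Group Q] {x : Q} (hx : x ^ p = 1) :
    x ∈ Cfsg.omegaOne p (⊤ : Subgroup Q) :=
  Subgroup.subset_closure ⟨Subgroup.mem_top _, hx⟩

theorem card_comap_mk' {G : Type*} [Group G] [Finite G] (N : Subgroup G) [N.Normal]
    (K : Subgroup (G ⧸ N)) :
    Nat.card (K.comap (QuotientGroup.mk' N)) = Nat.card N * Nat.card K := by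
  have h1 : (K.comap (QuotientGroup.mk' N)).index = K.index :=
    Subgroup.index_comap_of_surjective K (QuotientGroup.mk'_surjective N)
  have h2 := (K.comap (QuotientGroup.mk' N)).card_mul_index
  have h3 := K.card_mul_index
  have h4 := Subgroup.card_eq_card_quotient_mul_card_subgroup N
  have h5 : K.index ≠ 0 := Subgroup.index_ne_zero_of_finite
  rw [h1] at h2
  have : Nat.card (K.comap (QuotientGroup.mk' N)) * K.index =
      (Nat.card N * Nat.card K) * K.index := by
    rw [h2, h4, ← h3]; ring
  exact Nat.eq_of_mul_eq_mul_right (Nat.pos_of_ne_zero h5) this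

theorem zpowers_normal_of_mem_center {G : Type*} [Group G] {z : G} (hz : z ∈ Subgroup.center G) :
    (Subgroup.zpowers z).Normal := by
  refine ⟨fun n hn g => ?_⟩
  obtain ⟨k, rfl⟩ := hn
  have hc : Commute g z := (Subgroup.mem_center_iff.1 hz g)
  have hc' : Commute g (z ^ k) := hc.zpow_right k
  have : g * z ^ k * g⁻¹ = z ^ k := by rw [hc'.eq, mul_assoc, mul_inv_cancel, mul_one]
  rw [this]
  exact ⟨k, rfl⟩

/-- the key step: a normal subgroup of order `p`. -/
theorem key_quotient {X : Type u} [Group X] [Finite X] {p : ℕ} [hp : Fact p.Prime] (hp3 : 3 < p)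
    (hX : IsPGroup p X) (hO : Nat.card (Cfsg.omegaOne p (⊤ : Subgroup X)) ≤ p ^ 2)
    (Z : Subgroup X) [hZn : Z.Normal] (hZc : Nat.card Z = p) :
    Nat.card (Cfsg.omegaOne p (⊤ : Subgroup (X ⧸ Z))) ≤ p ^ 2 := by
  classical
  by_contra hcon
  push Not at hcon
  have hpp : p.Prime := hp.out
  have hQ : IsPGroup p (X ⧸ Z) := hX.to_quotient Z
  haveI hΩn : (Cfsg.omegaOne p (⊤ : Subgroup (X ⧸ Z))).Normal := omegaOne_top_normal p (X ⧸ Z)
  -- not cyclic
  have hnc : ¬ IsCyclic (Cfsg.omegaOne p (⊤ : Subgroup (X ⧸ Z))) := by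
    intro hc
    obtain ⟨g, hg⟩ := hc.exists_generator
    have hcomm : ∀ a b : (Cfsg.omegaOne p (⊤ : Subgroup (X ⧸ Z))), a * b = b * a := by
      intro a b
      obtain ⟨i, rfl⟩ := Subgroup.mem_zpowers_iff.1 (hg a)
      obtain ⟨j, rfl⟩ := Subgroup.mem_zpowers_iff.1 (hg b)
      rw [← zpow_add, ← zpow_add, add_comm]
    have hexp : ∀ y ∈ Cfsg.omegaOne p (⊤ : Subgroup (X ⧸ Z)), y ^ p = 1 := by
      intro y hy
      unfold Cfsg.omegaOne at hy
      induction hy using Subgroup.closure_induction with
      | mem s hs => exact hs.2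
      | one => simp
      | mul a b ha hb iha ihb =>
        have hab : a * b = b * a := by
          have := hcomm ⟨a, ha⟩ ⟨b, hb⟩
          exact congrArg Subtype.val this
        rw [(show Commute a b from hab).mul_pow, iha, ihb, one_mul]
      | inv a _ ih => rw [inv_pow, ih, inv_one]
    have hgp : g ^ p = 1 := by
      apply Subtype.ext
      have := hexp g g.2
      simpa using this
    have hcard : Nat.card (Cfsg.omegaOne p (⊤ : Subgroup (X ⧸ Z))) = orderOf g :=
      (orderOf_eq_card_of_forall_mem_zpowers hg).symm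
    have hle : orderOf g ≤ p := Nat.le_of_dvd hpp.pos (orderOf_dvd_of_pow_eq_one hgp)
    have : p < p ^ 2 := by nlinarith [hpp.two_le]
    omega
  obtain ⟨A, hAle, hAn, hAea, hAcard⟩ :=
    Cfsg.Agent.S0636.result (p := p) (by omega) hQ (Cfsg.omegaOne p (⊤ : Subgroup (X ⧸ Z))) hnc
  haveI := hAn
  -- an element of order p outside A
  obtain ⟨x, hxp, hxA⟩ : ∃ x : X ⧸ Z, x ^ p = 1 ∧ x ∉ A := by
    by_contra hno
    push Not at hno
    have hle : Cfsg.omegaOne p (⊤ : Subgroup (X ⧸ Z)) ≤ A := by
      unfold Cfsg.omegaOne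
      rw [Subgroup.closure_le]
      intro s hs
      exact hno s hs.2
    have := Subgroup.card_le_of_le hle
    omega
  -- C = A ⟨x⟩ of order p^3
  set y : (X ⧸ Z) ⧸ A := QuotientGroup.mk' A x with hy
  have hy1 : y ≠ 1 := by
    rw [hy, QuotientGroup.mk'_apply, Ne, QuotientGroup.eq_one_iff]
    exact hxA
  have hyp : y ^ p = 1 := by rw [hy, ← map_pow, hxp, map_one]
  have hoy : orderOf y = p := orderOf_eq_prime hyp hy1
  set C : Subgroup (X ⧸ Z) := (Subgroup.zpowers y).comap (QuotientGroup.mk' A) with hC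
  have hCcard : Nat.card C = p ^ 3 := by
    rw [hC, card_comap_mk', hAcard, Nat.card_zpowers, hoy]; ring
  have hCeq : C = Subgroup.zpowers x ⊔ A := by
    rw [hC, hy, ← MonoidHom.map_zpowers, Subgroup.comap_map_eq, QuotientGroup.ker_mk']
  have hregC : Cfsg.IsRegularPGroup p C := regular_of_card hCcard (by omega) (by omega)
  -- exponent of C
  have hCexp : ∀ c ∈ C, c ^ p = 1 := by
    obtain ⟨H, -, hH⟩ := Cfsg.Agent.S4225.result hregC 1
    have hmemH : ∀ c : C, c ∈ H ↔ (c : X ⧸ Z) ^ p = 1 := by
      intro c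
      rw [← SetLike.mem_coe, hH]
      simp only [Set.mem_ofPred_eq, pow_one]
      constructor
      · intro h; have := congrArg Subtype.val h; simpa using this
      · intro h; apply Subtype.ext; simpa using h
    have hle : C ≤ H.map C.subtype := by
      have hxC : x ∈ C := by rw [hCeq]; exact Subgroup.mem_sup_left (Subgroup.mem_zpowers x)
      have hAC : A ≤ C := by rw [hCeq]; exact le_sup_right
      conv_lhs => rw [hCeq]
      refine sup_le ?_ ?_
      · rw [Subgroup.zpowers_le]
        exact ⟨⟨x, hxC⟩, (hmemH _).2 hxp, rfl⟩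
      · intro a ha
        exact ⟨⟨a, hAC ha⟩, (hmemH _).2 (hAea.2 a ha), rfl⟩
    intro c hc
    obtain ⟨h, hhH, rfl⟩ := hle hc
    exact (hmemH h).1 hhH
  -- B, the preimage of C, of order p^4
  set B : Subgroup X := C.comap (QuotientGroup.mk' Z) with hB
  have hBcard : Nat.card B = p ^ 4 := by
    rw [hB, card_comap_mk', hZc, hCcard]; ring
  have hregB : Cfsg.IsRegularPGroup p B := regular_of_card hBcard (by omega) (by omega)
  have hBpow : ∀ b : B, (b : X) ^ p ∈ Z := by
    intro b
    have h1 : QuotientGroup.mk' Z (b : X) ∈ C := b.2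
    have h2 := hCexp _ h1
    rw [← map_pow, QuotientGroup.mk'_apply, QuotientGroup.eq_one_iff] at h2
    exact h2
  obtain ⟨HB, hHBchar, hHB⟩ := Cfsg.Agent.S4225.result hregB 1
  have hmemHB : ∀ b : B, b ∈ HB ↔ b ^ p = 1 := by
    intro b
    rw [← SetLike.mem_coe, hHB]
    simp only [Set.mem_ofPred_eq, pow_one]
  have hkey := Cfsg.Agent.Helper70.powEqIff_of_regular hregB
  -- the quotient B / HB injects into Z
  have hquot : Nat.card (B ⧸ HB) ≤ p := by
    rw [← hZc]
    let f : B ⧸ HB → Z := Quotient.lift (fun b : B => (⟨(b : X) ^ p, hBpow b⟩ : Z)) (by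
      intro a b hab
      have hab' : a⁻¹ * b ∈ HB := QuotientGroup.leftRel_apply.1 hab
      rw [hmemHB] at hab'
      have h1 := (hkey a⁻¹ b⁻¹ 1).2 (by simpa using hab')
      simp only [pow_one, inv_pow, inv_inj] at h1
      apply Subtype.ext
      show (a : X) ^ p = (b : X) ^ p
      have := congrArg Subtype.val h1
      simpa using this)
    refine Nat.card_le_card_of_injective f ?_
    intro q1 q2 hq
    induction q1 using Quotient.inductionOn with
    | h a =>
      induction q2 using Quotient.inductionOn with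
      | h b =>
        apply Quotient.sound
        apply QuotientGroup.leftRel_apply.2
        rw [hmemHB]
        have h1 : (a : X) ^ p = (b : X) ^ p := congrArg Subtype.val hq
        have h2 : a ^ p = b ^ p := by apply Subtype.ext; simpa using h1
        have h3 := (hkey a⁻¹ b⁻¹ 1).1 (by simp only [pow_one, inv_pow, inv_inj]; exact h2)
        simpa using h3
  have hHBle : Nat.card HB ≤ p ^ 2 := by
    refine le_trans ?_ hO
    have hinj : Function.Injective (B.subtype.comp HB.subtype) :=
      (Subgroup.subtype_injective B).comp (Subgroup.subtype_injective HB)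
    let g : HB → Cfsg.omegaOne p (⊤ : Subgroup X) := fun h =>
      ⟨((h : B) : X), mem_omegaOne_top (by
        have := (hmemHB (h : B)).1 h.2
        have := congrArg Subtype.val this
        simpa using this)⟩
    refine Nat.card_le_card_of_injective g ?_
    intro h1 h2 h12
    apply Subtype.ext
    apply Subtype.ext
    have h3 : ((g h1 : Cfsg.omegaOne p (⊤ : Subgroup X)) : X) = (g h2 : Cfsg.omegaOne p (⊤ : Subgroup X)) :=
      congrArg Subtype.val h12
    exact h3
  have hfin := Subgroup.card_eq_card_quotient_mul_card_subgroup HB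
  rw [hBcard] at hfin
  have : p ^ 4 ≤ p * p ^ 2 := by
    rw [hfin]
    exact Nat.mul_le_mul hquot hHBle
  have h5 : p * p ^ 2 < p ^ 4 := by
    have : p ^ 4 = p * p ^ 2 * p := by ring
    rw [this]
    have hpos : 0 < p * p ^ 2 := by positivity
    nlinarith [hpp.two_le]
  omega

/-- `|Ω₁| ≤ p²` passes to homomorphic images, `p > 3`. -/
theorem card_omegaOne_le_of_surjective {p : ℕ} [hp : Fact p.Prime] (hp3 : 3 < p)
    (Q : Type v) [Group Q] :
    ∀ (n : ℕ) (R : Type u) [Group R] [Finite R] (f : R →* Q),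
      Function.Surjective f → Nat.card f.ker = n → IsPGroup p R →
      Nat.card (Cfsg.omegaOne p (⊤ : Subgroup R)) ≤ p ^ 2 →
      Nat.card (Cfsg.omegaOne p (⊤ : Subgroup Q)) ≤ p ^ 2 := by
  intro n
  induction n using Nat.strong_induction_on with
  | _ n ih =>
    intro R _ _ f hf hn hR hO
    have hpp : p.Prime := hp.out
    by_cases hker : f.ker = ⊥
    · -- injective: isomorphism
      have hinj : Function.Injective f := (MonoidHom.ker_eq_bot_iff f).1 hker
      have hmap : Cfsg.omegaOne p (⊤ : Subgroup Q) =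
          (Cfsg.omegaOne p (⊤ : Subgroup R)).map f := by
        unfold Cfsg.omegaOne
        rw [MonoidHom.map_closure]
        congr 1
        ext y
        constructor
        · rintro ⟨-, hy⟩
          obtain ⟨x, rfl⟩ := hf y
          refine ⟨x, ⟨Subgroup.mem_top _, ?_⟩, rfl⟩
          apply hinj
          rw [map_pow, hy, map_one]
        · rintro ⟨x, ⟨-, hx⟩, rfl⟩
          exact ⟨Subgroup.mem_top _, by rw [← map_pow, hx, map_one]⟩
      rw [hmap, Subgroup.card_map_of_injective hinj]
      exact hO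
    · obtain ⟨z, hzk, hz1, hzc⟩ :=
        Cfsg.Agent.Helper32.exists_ne_one_mem_center_of_normal hR f.ker hker
      obtain ⟨k, hk⟩ := IsPGroup.iff_orderOf.1 hR z
      have hk0 : k ≠ 0 := by
        rintro rfl
        rw [pow_zero, orderOf_eq_one_iff] at hk
        exact hz1 hk
      have hdvd : p ∣ orderOf z := by rw [hk]; exact dvd_pow_self p hk0
      set z' := z ^ (orderOf z / p) with hz'
      have hoz' : orderOf z' = p :=
        orderOf_pow_orderOf_div (orderOf_pos z).ne' hdvd
      have hz'c : z' ∈ Subgroup.center R := Subgroup.pow_mem _ hzc _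
      have hz'k : z' ∈ f.ker := Subgroup.pow_mem _ hzk _
      haveI hZn : (Subgroup.zpowers z').Normal := zpowers_normal_of_mem_center hz'c
      have hZc : Nat.card (Subgroup.zpowers z') = p := by rw [Nat.card_zpowers, hoz']
      have hZle : Subgroup.zpowers z' ≤ f.ker := by rw [Subgroup.zpowers_le]; exact hz'k
      have hO' := key_quotient hp3 hR hO (Subgroup.zpowers z') hZc
      set fbar : R ⧸ Subgroup.zpowers z' →* Q := QuotientGroup.lift (Subgroup.zpowers z') f hZle
        with hfbar
      have hfbs : Function.Surjective fbar := by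
        intro q
        obtain ⟨r, rfl⟩ := hf q
        exact ⟨QuotientGroup.mk r, by simp [hfbar]⟩
      have hcomap : fbar.ker.comap (QuotientGroup.mk' (Subgroup.zpowers z')) = f.ker := by
        ext r
        simp [hfbar, MonoidHom.mem_ker]
      have hcard := card_comap_mk' (Subgroup.zpowers z') fbar.ker
      rw [hcomap, hZc, hn] at hcard
      have hlt : Nat.card fbar.ker < n := by
        have hpos : 0 < Nat.card fbar.ker := Nat.card_pos
        rw [hcard]
        nlinarith [hpp.two_le]
      exact ih _ hlt (R ⧸ Subgroup.zpowers z') fbar hfbs rfl (hR.to_quotient _) hO'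

end Cfsg.Agent.Helper64.Huppert
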