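import Mathlib
import Cfsg.Prelude.Def_PLocal
import Cfsg.Prelude.Def_OddOrderLocal
import Cfsg.Agent.Lib.Helper64.Huppert
import Cfsg.Agent.Lib.Helper35.CyclicMax
import Cfsg.Agent.S0014

/-!
# Huppert's criterion: `p > 3`, `|Ω₁(R)| ≤ p²` implies `R` metacyclic (helper64)

* `metacyclic_of_two_gen` : `R = ⟨n, m⟩` with `R' ≤ ⟨n⟩` is metacyclic.
* `metacyclic_of_classTwo` : (Huppert III.11.4, reduced case) `p` odd, `R' ≤ Z(R)` of exponent
  `p` and `|R : ℧₁(R)| ≤ p²` implies metacyclic.
* `blackburn_step` : (Blackburn's lemma) if `R ⧸ ⟨z⟩` is metacyclic for a central `z ∈ R'` of order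
  `p`, then `R` is metacyclic or `R' ≤ ⟨z⟩`.
* `metacyclic_of_card_omegaOne_le` : the criterion.
-/

set_option autoImplicit false

namespace Cfsg.Agent.Helper64.Huppert

open scoped commutatorElement

universe u

/-- If generators commute modulo the normal subgroup `N`, then `G' ≤ N`. -/
theorem commutator_le_of_closure {G : Type*} [Group G] (N : Subgroup G) [N.Normal] (S : Set G)
    (htop : Subgroup.closure S = ⊤) (h : ∀ s ∈ S, ∀ t ∈ S, ⁅s, t⁆ ∈ N) :
    commutator G ≤ N := by
  rw [← Subgroup.Normal.quotient_commutative_iff_commutator_le]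
  have hgen : Subgroup.closure ((QuotientGroup.mk' N) '' S) = ⊤ := by
    rw [← MonoidHom.map_closure, htop, ← MonoidHom.range_eq_map, MonoidHom.range_eq_top]
    exact QuotientGroup.mk'_surjective N
  have hc : ∀ s ∈ (QuotientGroup.mk' N) '' S, ∀ t ∈ (QuotientGroup.mk' N) '' S, s * t = t * s := by
    rintro _ ⟨s, hs, rfl⟩ _ ⟨t, ht, rfl⟩
    have h1 : QuotientGroup.mk' N ⁅s, t⁆ = 1 := (QuotientGroup.eq_one_iff _).mpr (h s hs t ht)
    rw [map_commutatorElement, commutatorElement_eq_one_iff_mul_comm] at h1
    exact h1
  refine ⟨⟨fun x y => ?_⟩⟩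
  have hx : x ∈ Subgroup.closure ((QuotientGroup.mk' N) '' S) := hgen ▸ Subgroup.mem_top x
  have hy : y ∈ Subgroup.closure ((QuotientGroup.mk' N) '' S) := hgen ▸ Subgroup.mem_top y
  have hI := Subgroup.isMulCommutative_closure hc
  have := hI.is_comm.comm (⟨x, hx⟩ : Subgroup.closure ((QuotientGroup.mk' N) '' S)) ⟨y, hy⟩
  exact congrArg Subtype.val this

theorem comm_mem_commutator {G : Type*} [Group G] (x y : G) : ⁅x, y⁆ ∈ commutator G := by
  rw [commutator_def]
  exact Subgroup.commutator_mem_commutator (Subgroup.mem_top x) (Subgroup.mem_top y)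

theorem metacyclic_of_two_gen {R : Type*} [Group R] (n m : R)
    (hgen : Subgroup.closure ({n, m} : Set R) = ⊤) (hK : commutator R ≤ Subgroup.zpowers n) :
    Cfsg.IsMetacyclic R := by
  have hN : (Subgroup.zpowers n).Normal := by
    refine ⟨fun x hx g => ?_⟩
    have h1 : ⁅g, x⁆ ∈ Subgroup.zpowers n := hK (comm_mem_commutator g x)
    have : g * x * g⁻¹ = ⁅g, x⁆ * x := by simp [commutatorElement_def]
    rw [this]; exact mul_mem h1 hx
  refine ⟨Subgroup.zpowers n, hN, inferInstance, ?_⟩
  rw [isCyclic_iff_exists_zpowers_eq_top]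
  refine ⟨QuotientGroup.mk m, ?_⟩
  rw [Subgroup.eq_top_iff']
  intro q
  obtain ⟨g, rfl⟩ := QuotientGroup.mk_surjective q
  have hg : g ∈ Subgroup.closure ({n, m} : Set R) := hgen ▸ Subgroup.mem_top g
  induction hg using Subgroup.closure_induction with
  | mem s hs =>
    rcases hs with rfl | hs
    · have : (QuotientGroup.mk s : R ⧸ Subgroup.zpowers s) = 1 :=
        (QuotientGroup.eq_one_iff _).2 (Subgroup.mem_zpowers s)
      rw [this]; exact one_mem _
    · rw [Set.mem_singleton_iff] at hs
      subst hs
      exact Subgroup.mem_zpowers _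
  | one => exact one_mem _
  | mul x y _ _ ihx ihy => exact mul_mem ihx ihy
  | inv x _ ih => exact inv_mem ih

/-- Huppert III.11.4, the reduced case. -/
theorem metacyclic_of_classTwo {R : Type u} [Group R] [Finite R] {p : ℕ} [hp : Fact p.Prime]
    (hodd : p ≠ 2) (hR : IsPGroup p R) (hcen : commutator R ≤ Subgroup.center R)
    (hexp : ∀ c ∈ commutator R, c ^ p = 1)
    (hidx : (Subgroup.closure {y : R | ∃ x : R, y = x ^ p}).index ≤ p ^ 2) :
    Cfsg.IsMetacyclic R := by
  classical
  have hpp : p.Prime := hp.out
  have hmul : ∀ x y : R, (x * y) ^ p = x ^ p * y ^ p :=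
    Cfsg.Agent.Helper35.mul_pow_prime hpp hodd (commutator R) hcen hexp (fun x y => by
      have := comm_mem_commutator x y
      rwa [commutatorElement_def] at this)
  let φ : R →* R := { toFun := fun x => x ^ p, map_one' := one_pow p, map_mul' := hmul }
  have hφ : ∀ x, φ x = x ^ p := fun _ => rfl
  have hrange : φ.range = Subgroup.closure {y : R | ∃ x : R, y = x ^ p} := by
    apply le_antisymm
    · rintro _ ⟨x, rfl⟩; exact Subgroup.subset_closure ⟨x, rfl⟩
    · rw [Subgroup.closure_le]; rintro _ ⟨x, rfl⟩; exact ⟨x, rfl⟩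
  have hφidx : φ.range.index ≤ p ^ 2 := by rw [hrange]; exact hidx
  have hrf : φ.range ≤ frattini R := by
    rintro _ ⟨x, rfl⟩
    have := (Cfsg.Agent.S4208.frattini_quot_props hR).2 (QuotientGroup.mk x)
    rw [← QuotientGroup.mk_pow, QuotientGroup.eq_one_iff] at this
    exact this
  obtain ⟨r, hr⟩ := hR.index (frattini R)
  have hfidx : (frattini R).index ≤ p ^ 2 := by
    have h1 : (frattini R).index ∣ φ.range.index := Subgroup.index_dvd_of_le hrf
    exact le_trans (Nat.le_of_dvd (Nat.pos_of_ne_zero Subgroup.index_ne_zero_of_finite) h1) hφidx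
  have hr2 : r ≤ 2 := by
    rw [hr] at hfidx
    exact (Nat.pow_le_pow_iff_right hpp.one_lt).1 hfidx
  obtain ⟨y, hy⟩ := Cfsg.Agent.S4207.exists_generators_of_frattini_index hr
  -- two generators
  set u : R := if h : 0 < r then y ⟨0, h⟩ else 1 with hu
  set v : R := if h : 1 < r then y ⟨1, h⟩ else 1 with hv
  have huv : Subgroup.closure ({u, v} : Set R) = ⊤ := by
    rw [eq_top_iff, ← hy, Subgroup.closure_le]
    rintro _ ⟨i, rfl⟩
    apply Subgroup.subset_closure
    have hi := i.2
    have hi2 : i.val = 0 ∨ i.val = 1 := by omega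
    rcases hi2 with h0 | h1
    · left
      have hpos : 0 < r := by omega
      rw [hu, dif_pos hpos]
      congr 1
      exact Fin.ext h0
    · right
      have hpos : 1 < r := by omega
      rw [Set.mem_singleton_iff, hv, dif_pos hpos]
      congr 1
      exact Fin.ext h1
  by_cases hc : ⁅u, v⁆ = 1
  · have hab : commutator R ≤ ⊥ :=
      commutator_le_of_closure ⊥ {u, v} huv (by
        intro s hs t ht
        rw [Subgroup.mem_bot]
        rcases hs with rfl | hs <;> rcases ht with rfl | ht
        · exact commutatorElement_self _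
        · rw [Set.mem_singleton_iff] at ht; subst ht; exact hc
        · rw [Set.mem_singleton_iff] at hs; subst hs
          rw [← commutatorElement_inv, hc, inv_one]
        · rw [Set.mem_singleton_iff] at hs ht; subst hs; subst ht
          exact commutatorElement_self _)
    exact metacyclic_of_two_gen u v huv (hab.trans bot_le)
  · set c : R := ⁅u, v⁆ with hcdef
    have hcc : c ∈ commutator R := comm_mem_commutator u v
    have hccen : c ∈ Subgroup.center R := hcen hcc
    haveI hcn : (Subgroup.zpowers c).Normal := zpowers_normal_of_mem_center hccen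
    have hK : commutator R ≤ Subgroup.zpowers c :=
      commutator_le_of_closure (Subgroup.zpowers c) {u, v} huv (by
        intro s hs t ht
        rcases hs with rfl | hs <;> rcases ht with rfl | ht
        · rw [commutatorElement_self]; exact one_mem _
        · rw [Set.mem_singleton_iff] at ht; subst ht; exact Subgroup.mem_zpowers _
        · rw [Set.mem_singleton_iff] at hs; subst hs
          rw [← commutatorElement_inv]; exact inv_mem (Subgroup.mem_zpowers _)
        · rw [Set.mem_singleton_iff] at hs ht; subst hs; subst ht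
          rw [commutatorElement_self]; exact one_mem _)
    -- r = 2
    have hr2' : r = 2 := by
      by_contra hne
      have hr1 : r ≤ 1 := by omega
      apply hc
      have hv1 : v = 1 := by rw [hv, dif_neg (by omega)]
      rw [hcdef, hv1]
      simp [commutatorElement_def]
    have hfi : (frattini R).index = p ^ 2 := by rw [hr, hr2']
    -- frattini = range
    have hfr : frattini R = φ.range := by
      have h1 : (frattini R).index ∣ φ.range.index := Subgroup.index_dvd_of_le hrf
      have h2 : φ.range.index = p ^ 2 := by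
        apply le_antisymm hφidx
        rw [← hfi]
        exact Nat.le_of_dvd (Nat.pos_of_ne_zero Subgroup.index_ne_zero_of_finite) h1
      have h3 := (frattini R).card_mul_index
      have h4 := φ.range.card_mul_index
      rw [hfi] at h3
      rw [h2] at h4
      have h5 : Nat.card (frattini R) = Nat.card φ.range := by
        have hpos : 0 < p ^ 2 := pow_pos hpp.pos 2
        exact Nat.eq_of_mul_eq_mul_right hpos (h3.trans h4.symm)
      exact (Subgroup.eq_of_le_of_card_ge hrf (le_of_eq h5)).symm
    -- choose n of maximal order with c ∈ ⟨n⟩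
    haveI := Fintype.ofFinite R
    obtain ⟨n, hn, hmax⟩ := Finset.exists_max_image
      (Finset.univ.filter (fun n : R => c ∈ Subgroup.zpowers n)) orderOf
      ⟨c, by simp⟩
    have hn' : c ∈ Subgroup.zpowers n := (Finset.mem_filter.1 hn).2
    have hnf : n ∉ frattini R := by
      intro hnf
      rw [hfr] at hnf
      obtain ⟨n', hn'eq⟩ := hnf
      rw [hφ] at hn'eq
      have hle : Subgroup.zpowers n ≤ Subgroup.zpowers n' := by
        rw [Subgroup.zpowers_le, ← hn'eq]
        exact Subgroup.pow_mem _ (Subgroup.mem_zpowers n') p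
      have h1 := hmax n' (Finset.mem_filter.2 ⟨Finset.mem_univ _, hle hn'⟩)
      obtain ⟨k, hk⟩ := IsPGroup.iff_orderOf.1 hR n'
      have hk0 : k ≠ 0 := by
        rintro rfl
        rw [pow_zero, orderOf_eq_one_iff] at hk
        rw [hk, one_pow] at hn'eq
        rw [← hn'eq, Subgroup.zpowers_one_eq_bot, Subgroup.mem_bot] at hn'
        exact hc hn'
      have h2 : orderOf n = p ^ (k - 1) := by
        rw [← hn'eq, orderOf_pow, hk]
        have : Nat.gcd (p ^ k) p = p := by
          apply Nat.gcd_eq_right
          exact dvd_pow_self p hk0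
        rw [this]
        obtain ⟨k', rfl⟩ : ∃ k', k = k' + 1 := ⟨k - 1, by omega⟩
        rw [pow_succ, Nat.mul_div_cancel _ hpp.pos, Nat.add_sub_cancel]
      rw [h2, hk] at h1
      have : p ^ (k - 1) < p ^ k := Nat.pow_lt_pow_right hpp.one_lt (by omega)
      omega
    -- find m
    have hVcard : Nat.card (R ⧸ frattini R) = p ^ 2 := by
      rw [← Subgroup.index_eq_card]; exact hfi
    have hVexp := (Cfsg.Agent.S4208.frattini_quot_props hR).2
    set nb : R ⧸ frattini R := QuotientGroup.mk n with hnb
    have hnb1 : nb ≠ 1 := by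
      rw [hnb, Ne, QuotientGroup.eq_one_iff]; exact hnf
    have honb : orderOf nb = p := orderOf_eq_prime (hVexp nb) hnb1
    obtain ⟨mb, hmb⟩ : ∃ mb : R ⧸ frattini R, mb ∉ Subgroup.zpowers nb := by
      by_contra hno
      push Not at hno
      have htop : Subgroup.zpowers nb = ⊤ := by
        rw [eq_top_iff]; intro x _; exact hno x
      have h1 : Nat.card (Subgroup.zpowers nb) = p := by rw [Nat.card_zpowers, honb]
      rw [htop, Subgroup.card_top, hVcard] at h1
      have : p < p ^ 2 := by nlinarith [hpp.two_le]
      omega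
    obtain ⟨m, rfl⟩ := QuotientGroup.mk_surjective mb
    have hgenV : Subgroup.closure ({nb, (QuotientGroup.mk m : R ⧸ frattini R)} : Set _) = ⊤ := by
      have hle : Subgroup.zpowers nb ≤
          Subgroup.closure ({nb, (QuotientGroup.mk m : R ⧸ frattini R)} : Set _) := by
        rw [Subgroup.zpowers_le]; exact Subgroup.subset_closure (by simp)
      have hlt : Subgroup.zpowers nb <
          Subgroup.closure ({nb, (QuotientGroup.mk m : R ⧸ frattini R)} : Set _) := by
        refine lt_of_le_of_ne hle ?_
        intro heq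
        apply hmb
        rw [heq]
        exact Subgroup.subset_closure (by simp)
      have hcl : Nat.card (Subgroup.zpowers nb) <
          Nat.card (Subgroup.closure ({nb, (QuotientGroup.mk m : R ⧸ frattini R)} : Set _)) := by
        by_contra hge
        push Not at hge
        exact hlt.ne (Subgroup.eq_of_le_of_card_ge hle hge)
      rw [Nat.card_zpowers, honb] at hcl
      have hdvd := Subgroup.card_subgroup_dvd_card
        (Subgroup.closure ({nb, (QuotientGroup.mk m : R ⧸ frattini R)} : Set _))
      rw [hVcard] at hdvd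
      obtain ⟨k, hk2, hk⟩ := (Nat.dvd_prime_pow hpp).1 hdvd
      have hk' : k = 2 := by
        by_contra hne
        have hk1 : k ≤ 1 := by omega
        have : p ^ k ≤ p ^ 1 := Nat.pow_le_pow_right hpp.pos hk1
        rw [pow_one] at this
        omega
      apply Subgroup.eq_top_of_card_eq
      rw [hk, hk', hVcard]
    have hgen : Subgroup.closure ({n, m} : Set R) = ⊤ := by
      apply Cfsg.Agent.S0014.closure_eq_top_of_image
      rw [Set.image_pair]
      exact hgenV
    exact metacyclic_of_two_gen n m hgen (hK.trans (by rw [Subgroup.zpowers_le]; exact hn'))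

end Cfsg.Agent.Helper64.Huppert
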