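import Mathlib
import Cfsg.Agent.Lib.Helper64.Huppert2
import Cfsg.Agent.Lib.Helper24.ClassTwo

/-!
# Blackburn's lemma and Huppert's criterion (helper64)

* `blackburn_step` : if `R ⧸ ⟨z⟩` is metacyclic for a central `z ∈ R'` of order `p`, then `R` is
  metacyclic or `R' ≤ ⟨z⟩`.
* `metacyclic_of_card_omegaOne_le` : `p > 3`, `|Ω₁(R)| ≤ p²` implies `R` metacyclic.
-/

set_option autoImplicit false

namespace Cfsg.Agent.Helper64.Huppert

open scoped commutatorElement

universe u

theorem blackburn_step {R : Type u} [Group R] [Finite R] {p : ℕ} [hp : Fact p.Prime]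
    (hR : IsPGroup p R) (z : R) (hzc : z ∈ Subgroup.center R) (hoz : orderOf z = p)
    (hzR : z ∈ commutator R) [hZn : (Subgroup.zpowers z).Normal]
    (hQ : Cfsg.IsMetacyclic (R ⧸ Subgroup.zpowers z)) :
    Cfsg.IsMetacyclic R ∨ commutator R ≤ Subgroup.zpowers z := by
  classical
  have hpp : p.Prime := hp.out
  obtain ⟨Ab, hAbn, hAbc, hQc⟩ := hQ
  haveI := hAbn
  set A : Subgroup R := Ab.comap (QuotientGroup.mk' (Subgroup.zpowers z)) with hA
  haveI hAn : A.Normal := by rw [hA]; infer_instance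
  -- R/A cyclic
  have hRA : IsCyclic (R ⧸ A) := by
    obtain ⟨gb, hgb⟩ := (isCyclic_iff_exists_zpowers_eq_top
      (α := (R ⧸ Subgroup.zpowers z) ⧸ Ab)).1 hQc
    obtain ⟨g1, rfl⟩ := QuotientGroup.mk_surjective gb
    obtain ⟨b, rfl⟩ := QuotientGroup.mk_surjective g1
    rw [isCyclic_iff_exists_zpowers_eq_top]
    refine ⟨QuotientGroup.mk b, ?_⟩
    rw [Subgroup.eq_top_iff']
    intro q
    obtain ⟨r, rfl⟩ := QuotientGroup.mk_surjective q
    have h1 : (QuotientGroup.mk (QuotientGroup.mk r : R ⧸ Subgroup.zpowers z) :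
        (R ⧸ Subgroup.zpowers z) ⧸ Ab) ∈
        Subgroup.zpowers (QuotientGroup.mk (QuotientGroup.mk b : R ⧸ Subgroup.zpowers z) :
          (R ⧸ Subgroup.zpowers z) ⧸ Ab) := hgb ▸ Subgroup.mem_top _
    obtain ⟨k, hk⟩ := Subgroup.mem_zpowers_iff.1 h1
    rw [Subgroup.mem_zpowers_iff]
    refine ⟨k, ?_⟩
    rw [← QuotientGroup.mk_zpow, QuotientGroup.eq]
    have h2 : (QuotientGroup.mk (QuotientGroup.mk ((b ^ k)⁻¹ * r) : R ⧸ Subgroup.zpowers z) :
        (R ⧸ Subgroup.zpowers z) ⧸ Ab) = 1 := by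
      rw [QuotientGroup.mk_mul, QuotientGroup.mk_mul, QuotientGroup.mk_inv, QuotientGroup.mk_inv,
        QuotientGroup.mk_zpow, QuotientGroup.mk_zpow, hk, inv_mul_cancel]
    show QuotientGroup.mk' (Subgroup.zpowers z) ((b ^ k)⁻¹ * r) ∈ Ab
    exact (QuotientGroup.eq_one_iff _).1 h2
  by_cases hAc : IsCyclic A
  · left; exact ⟨A, hAn, hAc, hRA⟩
  right
  obtain ⟨ab, hab⟩ := (isCyclic_iff_exists_zpowers_eq_top (α := Ab)).1 hAbc
  obtain ⟨a, ha⟩ := QuotientGroup.mk_surjective (ab : R ⧸ Subgroup.zpowers z)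
  have haA : a ∈ A := by
    rw [hA, Subgroup.mem_comap, QuotientGroup.mk'_apply, ha]; exact ab.2
  have hstar : ∀ x ∈ A, ∃ i j : ℕ, x = a ^ i * z ^ j := by
    intro x hx
    have hx' : (⟨QuotientGroup.mk' (Subgroup.zpowers z) x, hx⟩ : Ab) ∈ Subgroup.zpowers ab :=
      hab ▸ Subgroup.mem_top _
    rw [← mem_powers_iff_mem_zpowers] at hx'
    obtain ⟨i, hi⟩ := hx'
    have h1 : (QuotientGroup.mk (a ^ i) : R ⧸ Subgroup.zpowers z) = QuotientGroup.mk x := by
      have h0 := congrArg Subtype.val hi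
      rw [QuotientGroup.mk_pow, ha]
      simpa using h0
    have h2 : (a ^ i)⁻¹ * x ∈ Subgroup.zpowers z := QuotientGroup.eq.1 h1
    rw [← mem_powers_iff_mem_zpowers] at h2
    obtain ⟨j, hj⟩ := h2
    refine ⟨i, j, ?_⟩
    have hj' : z ^ j = (a ^ i)⁻¹ * x := hj
    rw [hj']; group
  have hzp : z ^ p = 1 := hoz ▸ pow_orderOf_eq_one z
  have hz1 : z ≠ 1 := by
    intro h; rw [h, orderOf_one] at hoz; exact hpp.one_lt.ne hoz
  have hzC : ∀ g : R, Commute g z := fun g => Subgroup.mem_center_iff.1 hzc g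
  have hAcomm : ∀ x ∈ A, ∀ y ∈ A, x * y = y * x := by
    intro x hx y hy
    obtain ⟨i, j, rfl⟩ := hstar x hx
    obtain ⟨k, l, rfl⟩ := hstar y hy
    have h1 : Commute (a ^ i) (a ^ k) := (Commute.refl a).pow_pow i k
    have h2 : Commute (a ^ i) (z ^ l) := (hzC a).pow_pow i l
    have h3 : Commute (z ^ j) (a ^ k) := ((hzC a).pow_pow k j).symm
    have h4 : Commute (z ^ j) (z ^ l) := (Commute.refl z).pow_pow j l
    exact ((h1.mul_right h2).mul_left (h3.mul_right h4)).eq
  have hdia : ∀ w, w ∈ Subgroup.zpowers a → w ∈ Subgroup.zpowers z → w = 1 := by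
    intro w hwa hwz
    by_contra hw1
    apply hAc
    have hZle : Subgroup.zpowers z ≤ Subgroup.zpowers a := by
      have hle : Subgroup.zpowers w ≤ Subgroup.zpowers z := by
        rw [Subgroup.zpowers_le]; exact hwz
      have hcard : Nat.card (Subgroup.zpowers z) ≤ Nat.card (Subgroup.zpowers w) := by
        rw [Nat.card_zpowers, Nat.card_zpowers, hoz]
        have h1 : orderOf w ∣ p := by
          have := Subgroup.card_dvd_of_le hle
          rwa [Nat.card_zpowers, Nat.card_zpowers, hoz] at this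
        rcases (Nat.dvd_prime hpp).1 h1 with h2 | h2
        · exfalso; exact hw1 (orderOf_eq_one_iff.1 h2)
        · rw [h2]
      have := Subgroup.eq_of_le_of_card_ge hle hcard
      rw [← this, Subgroup.zpowers_le]; exact hwa
    have hAeq : A = Subgroup.zpowers a := by
      apply le_antisymm
      · intro x hx
        obtain ⟨i, j, rfl⟩ := hstar x hx
        exact mul_mem (Subgroup.pow_mem _ (Subgroup.mem_zpowers a) i)
          (hZle (Subgroup.pow_mem _ (Subgroup.mem_zpowers z) j))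
      · rw [Subgroup.zpowers_le]; exact haA
    rw [hAeq]; infer_instance
  obtain ⟨bq, hbq⟩ := (isCyclic_iff_exists_zpowers_eq_top (α := R ⧸ A)).1 hRA
  obtain ⟨b, rfl⟩ := QuotientGroup.mk_surjective bq
  have hform : ∀ r : R, ∃ k : ℕ, ∃ x ∈ A, r = b ^ k * x := by
    intro r
    have h1 : (QuotientGroup.mk r : R ⧸ A) ∈ Subgroup.zpowers (QuotientGroup.mk b : R ⧸ A) :=
      hbq ▸ Subgroup.mem_top _
    rw [← mem_powers_iff_mem_zpowers] at h1
    obtain ⟨k, hk⟩ := h1
    have hk' : (QuotientGroup.mk (b ^ k) : R ⧸ A) = QuotientGroup.mk r := by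
      rw [QuotientGroup.mk_pow]; exact hk
    exact ⟨k, (b ^ k)⁻¹ * r, QuotientGroup.eq.1 hk', by group⟩
  set c : R := ⁅a, b⁆ with hc
  have hcA : c ∈ A := by
    have : c = a * (b * a⁻¹ * b⁻¹) := by rw [hc, commutatorElement_def]; group
    rw [this]; exact mul_mem haA (hAn.conj_mem _ (inv_mem haA) b)
  have hconj : ∀ g : R, g * b = b * g → g * c * g⁻¹ ∈ Subgroup.zpowers c := by
    intro g hgb
    have hgA : g * a * g⁻¹ ∈ A := hAn.conj_mem a haA g
    obtain ⟨i, j, hij⟩ := hstar _ hgA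
    have hgb' : g * b * g⁻¹ = b := by rw [hgb]; group
    have h1 : g * c * g⁻¹ = ⁅g * a * g⁻¹, b⁆ := by
      rw [hc, commutatorElement_def, commutatorElement_def]
      calc g * (a * b * a⁻¹ * b⁻¹) * g⁻¹
          = (g * a * g⁻¹) * (g * b * g⁻¹) * (g * a * g⁻¹)⁻¹ * (g * b * g⁻¹)⁻¹ := by group
        _ = (g * a * g⁻¹) * b * (g * a * g⁻¹)⁻¹ * b⁻¹ := by rw [hgb']
    have hζ : z ^ j * b * (z ^ j)⁻¹ = b := by
      have : Commute b (z ^ j) := (hzC b).pow_right j
      rw [← this.eq]; group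
    have h2 : ⁅a ^ i * z ^ j, b⁆ = a ^ i * b * (a ^ i)⁻¹ * b⁻¹ := by
      rw [commutatorElement_def]
      calc a ^ i * z ^ j * b * (a ^ i * z ^ j)⁻¹ * b⁻¹
          = a ^ i * (z ^ j * b * (z ^ j)⁻¹) * (a ^ i)⁻¹ * b⁻¹ := by group
        _ = a ^ i * b * (a ^ i)⁻¹ * b⁻¹ := by rw [hζ]
    have h3 : a ^ i * b * (a ^ i)⁻¹ * b⁻¹ = c ^ i := by
      have hca : Commute (a * b * a⁻¹ * b⁻¹) a := by
        have := hAcomm c hcA a haA
        rw [hc, commutatorElement_def] at this
        exact this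
      have := Cfsg.Agent.Helper24.commutator_pow_left_of_commute b a hca i
      rw [hc, commutatorElement_def]; exact this
    rw [h1, hij, h2, h3]
    exact Subgroup.pow_mem _ (Subgroup.mem_zpowers c) i
  have hcn : (Subgroup.zpowers c).Normal := by
    have hall : ∀ g : R, g * c * g⁻¹ ∈ Subgroup.zpowers c := by
      intro g
      obtain ⟨k, x, hx, rfl⟩ := hform g
      have h1 : x * c * x⁻¹ = c := by rw [hAcomm x hx c hcA]; group
      have h2 : b ^ k * x * c * (b ^ k * x)⁻¹ = b ^ k * (x * c * x⁻¹) * (b ^ k)⁻¹ := by group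
      rw [h2, h1]
      exact hconj (b ^ k) ((Commute.refl b).pow_left k).eq
    refine ⟨fun h hh g => ?_⟩
    obtain ⟨t, rfl⟩ := hh
    have : g * c ^ t * g⁻¹ = (g * c * g⁻¹) ^ t := by rw [conj_zpow]
    rw [this]
    exact Subgroup.zpow_mem _ (hall g) t
  have hK : commutator R ≤ Subgroup.zpowers c := by
    haveI := hcn
    apply commutator_le_of_closure (Subgroup.zpowers c) ({a, b, z} : Set R)
    · rw [Subgroup.eq_top_iff']
      intro g
      obtain ⟨k, x, hx, rfl⟩ := hform g
      obtain ⟨i, j, rfl⟩ := hstar x hx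
      have hS : ∀ s ∈ ({a, b, z} : Set R), s ∈ Subgroup.closure ({a, b, z} : Set R) :=
        fun s hs => Subgroup.subset_closure hs
      exact mul_mem (Subgroup.pow_mem _ (hS b (by simp)) k)
        (mul_mem (Subgroup.pow_mem _ (hS a (by simp)) i) (Subgroup.pow_mem _ (hS z (by simp)) j))
    · have hzl : ∀ t : R, ⁅z, t⁆ = 1 := fun t =>
        commutatorElement_eq_one_iff_commute.2 (hzC t).symm
      have hzr : ∀ s : R, ⁅s, z⁆ = 1 := fun s =>
        commutatorElement_eq_one_iff_commute.2 (hzC s)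
      intro s hs t ht
      simp only [Set.mem_insert_iff, Set.mem_singleton_iff] at hs ht
      rcases hs with rfl | rfl | rfl <;> rcases ht with rfl | rfl | rfl
      · rw [commutatorElement_self]; exact one_mem _
      · exact Subgroup.mem_zpowers _
      · rw [hzr]; exact one_mem _
      · rw [← commutatorElement_inv]; exact inv_mem (Subgroup.mem_zpowers _)
      · rw [commutatorElement_self]; exact one_mem _
      · rw [hzr]; exact one_mem _
      · rw [hzl]; exact one_mem _
      · rw [hzl]; exact one_mem _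
      · rw [hzl]; exact one_mem _
  have hzc' : z ∈ Subgroup.zpowers c := hK hzR
  obtain ⟨i, j, hcij⟩ := hstar c hcA
  rw [← mem_powers_iff_mem_zpowers] at hzc'
  obtain ⟨m, hm⟩ := hzc'
  have hm' : c ^ m = z := hm
  have hcm : c ^ m = a ^ (i * m) * z ^ (j * m) := by
    rw [hcij, ((hzC a).pow_pow i j).mul_pow, ← pow_mul, ← pow_mul]
  have h1 : a ^ (i * m) = z * (z ^ (j * m))⁻¹ := by
    have h0 : z = a ^ (i * m) * z ^ (j * m) := hm'.symm.trans hcm
    rw [eq_mul_inv_iff_mul_eq]; exact h0.symm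
  have h2 : a ^ (i * m) = 1 := by
    apply hdia _ (Subgroup.pow_mem _ (Subgroup.mem_zpowers a) _)
    rw [h1]
    exact mul_mem (Subgroup.mem_zpowers z)
      (inv_mem (Subgroup.pow_mem _ (Subgroup.mem_zpowers z) _))
  have h3 : z ^ (j * m) = z := by
    rw [h2, one_mul] at hcm
    rw [← hcm, hm']
  have hpm : ¬ p ∣ m := by
    rintro ⟨m', rfl⟩
    apply hz1
    rw [← h3, ← mul_assoc, mul_comm j p, mul_assoc, pow_mul, hzp, one_pow]
  have hai : a ^ i = 1 := by
    have h4 : (a ^ i) ^ m = 1 := by rw [← pow_mul]; exact h2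
    obtain ⟨k, hk⟩ := IsPGroup.iff_orderOf.1 hR (a ^ i)
    have h5 : orderOf (a ^ i) ∣ m := orderOf_dvd_of_pow_eq_one h4
    rcases k with _ | k
    · rwa [pow_zero, orderOf_eq_one_iff] at hk
    · exfalso
      apply hpm
      rw [hk] at h5
      exact (dvd_pow_self p (Nat.succ_ne_zero k)).trans h5
  have hcZ : c ∈ Subgroup.zpowers z := by
    rw [hcij, hai, one_mul]
    exact Subgroup.pow_mem _ (Subgroup.mem_zpowers z) j
  exact hK.trans (by rw [Subgroup.zpowers_le]; exact hcZ)

theorem metacyclic_aux {p : ℕ} [hp : Fact p.Prime] (hp3 : 3 < p) :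
    ∀ (n : ℕ) (R : Type u) [Group R] [Finite R], Nat.card R = n → IsPGroup p R →
      Nat.card (Cfsg.omegaOne p (⊤ : Subgroup R)) ≤ p ^ 2 → Cfsg.IsMetacyclic R := by
  intro n
  induction n using Nat.strong_induction_on with
  | _ n ih =>
    intro R _ _ hn hR hO
    have hpp : p.Prime := hp.out
    have hidx : (Subgroup.closure {y : R | ∃ x : R, y = x ^ p}).index ≤ p ^ 2 := by
      haveI hMn : (Subgroup.closure {y : R | ∃ x : R, y = x ^ p}).Normal := by
        refine ⟨fun n hn g => ?_⟩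
        induction hn using Subgroup.closure_induction with
        | mem s hs =>
          obtain ⟨x, rfl⟩ := hs
          exact Subgroup.subset_closure ⟨g * x * g⁻¹, by rw [conj_pow]⟩
        | one => simp
        | mul x y _ _ ihx ihy =>
          have : g * (x * y) * g⁻¹ = (g * x * g⁻¹) * (g * y * g⁻¹) := by group
          rw [this]; exact mul_mem ihx ihy
        | inv x _ ih =>
          have : g * x⁻¹ * g⁻¹ = (g * x * g⁻¹)⁻¹ := by group
          rw [this]; exact inv_mem ih
      have h1 := card_omegaOne_le_of_surjective hp3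
        (R ⧸ Subgroup.closure {y : R | ∃ x : R, y = x ^ p}) _ R
        (QuotientGroup.mk' _) (QuotientGroup.mk'_surjective _) rfl hR hO
      have h2 : Cfsg.omegaOne p
          (⊤ : Subgroup (R ⧸ Subgroup.closure {y : R | ∃ x : R, y = x ^ p})) = ⊤ := by
        rw [Subgroup.eq_top_iff']
        intro q
        obtain ⟨r, rfl⟩ := QuotientGroup.mk_surjective q
        apply mem_omegaOne_top
        rw [← QuotientGroup.mk_pow, QuotientGroup.eq_one_iff]
        exact Subgroup.subset_closure ⟨r, rfl⟩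
      rw [h2, Subgroup.card_top, ← Subgroup.index_eq_card] at h1
      exact h1
    by_cases hab : commutator R = ⊥
    · exact metacyclic_of_classTwo (by omega) hR (by rw [hab]; exact bot_le)
        (by intro c hc; rw [hab, Subgroup.mem_bot] at hc; rw [hc, one_pow]) hidx
    · obtain ⟨z0, hz0R, hz01, hz0c⟩ :=
        Cfsg.Agent.Helper32.exists_ne_one_mem_center_of_normal hR (commutator R) hab
      obtain ⟨k, hk⟩ := IsPGroup.iff_orderOf.1 hR z0
      have hk0 : k ≠ 0 := by
        rintro rfl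
        rw [pow_zero, orderOf_eq_one_iff] at hk
        exact hz01 hk
      have hdvd : p ∣ orderOf z0 := by rw [hk]; exact dvd_pow_self p hk0
      set z := z0 ^ (orderOf z0 / p) with hz
      have hoz : orderOf z = p := orderOf_pow_orderOf_div (orderOf_pos z0).ne' hdvd
      have hzc : z ∈ Subgroup.center R := Subgroup.pow_mem _ hz0c _
      have hzR : z ∈ commutator R := Subgroup.pow_mem _ hz0R _
      haveI hZn : (Subgroup.zpowers z).Normal := zpowers_normal_of_mem_center hzc
      have hZc : Nat.card (Subgroup.zpowers z) = p := by rw [Nat.card_zpowers, hoz]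
      have hcardQ : Nat.card (R ⧸ Subgroup.zpowers z) < n := by
        have := Subgroup.card_eq_card_quotient_mul_card_subgroup (Subgroup.zpowers z)
        rw [hn, hZc] at this
        have hpos : 0 < Nat.card (R ⧸ Subgroup.zpowers z) := Nat.card_pos
        rw [this]; nlinarith [hpp.two_le]
      have hQm := ih _ hcardQ (R ⧸ Subgroup.zpowers z) rfl (hR.to_quotient _)
        (key_quotient hp3 hR hO _ hZc)
      rcases blackburn_step hR z hzc hoz hzR hQm with h | h
      · exact h
      · refine metacyclic_of_classTwo (by omega) hR (h.trans ?_) ?_ hidx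
        · rw [Subgroup.zpowers_le]; exact hzc
        · intro c hc
          obtain ⟨t, rfl⟩ := h hc
          rw [← zpow_natCast, ← zpow_mul, mul_comm, zpow_mul, zpow_natCast, ← hoz,
            pow_orderOf_eq_one, one_zpow]

/-- Huppert's criterion. -/
theorem metacyclic_of_card_omegaOne_le {R : Type u} [Group R] [Finite R] {p : ℕ} [Fact p.Prime]
    (hp3 : 3 < p) (hR : IsPGroup p R)
    (hO : Nat.card (Cfsg.omegaOne p (⊤ : Subgroup R)) ≤ p ^ 2) : Cfsg.IsMetacyclic R :=
  metacyclic_aux hp3 _ R rfl hR hO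

end Cfsg.Agent.Helper64.Huppert
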