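import Mathlib

/-!
# BG Theorem 3.6, step C: the linear representation on an elementary abelian section

An action on a commutative group of exponent `p` is repackaged as a `ZMod p`-linear
representation, in an abstract (existential) form.
-/

set_option autoImplicit false

universe u

namespace Cfsg.Agent.Helper64.BG36

open Subgroup

/-- an action on `A` as `ZMod p`-linear maps on `Additive A` -/
noncomputable def linRepC {Γ : Type*} [Group Γ] (p : ℕ) {A : Type*} [CommGroup A]
    [Module (ZMod p) (Additive A)] (ψ : Γ →* MulAut A) :
    Γ →* Module.End (ZMod p) (Additive A) where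
  toFun h := AddMonoidHom.toZModLinearMap p (MonoidHom.toAdditive (ψ h).toMonoidHom)
  map_one' := by
    ext v
    simp
  map_mul' := by
    intro g h
    ext v
    simp

lemma linRepC_apply {Γ : Type*} [Group Γ] (p : ℕ) {A : Type*} [CommGroup A]
    [Module (ZMod p) (Additive A)] (ψ : Γ →* MulAut A) (h : Γ) (w : A) :
    Additive.toMul (linRepC p ψ h (Additive.ofMul w)) = ψ h w := rfl

/-- an action on a commutative group of exponent `p` is a `ZMod p`-linear representation -/
theorem exists_rep_of_commGroup {Γ : Type u} [Group Γ] {p : ℕ} [Fact p.Prime] (A : Type u)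
    [CommGroup A] [Finite A] (hexp : ∀ a : A, a ^ p = 1) (ψ : Γ →* MulAut A) :
    ∃ (W : Type u) (_ : AddCommGroup W) (_ : Module (ZMod p) W) (_ : Finite W)
      (φ : Γ →* Module.End (ZMod p) W) (e : A →* Multiplicative W),
      Function.Bijective e ∧ ∀ (g : Γ) (a : A), φ g (Multiplicative.toAdd (e a)) =
        Multiplicative.toAdd (e (ψ g a)) := by
  let _inst : Module (ZMod p) (Additive A) := AddCommGroup.zmodModule (by
    intro v
    induction v using Additive.rec with
    | ofMul w =>
      rw [← ofMul_pow, hexp w]
      rfl)
  refine ⟨Additive A, inferInstance, _inst, inferInstance, linRepC p ψ,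
    (MulEquiv.multiplicativeAdditive A).symm.toMonoidHom,
    (MulEquiv.multiplicativeAdditive A).symm.bijective, ?_⟩
  intro g a
  rfl

end Cfsg.Agent.Helper64.BG36
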