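import Mathlib
import Cfsg.Agent.Lib.Helper64.BG36stepCa

/-!
# BG Theorem 3.6, step C: the module `V / Φ` and the representation of `G ⧸ V` on it
-/

set_option autoImplicit false

universe u

namespace Cfsg.Agent.Helper64.BG36

open Subgroup

/-- the representation of `G ⧸ V` on the elementary abelian section `V / Φ`, abstractly -/
theorem exists_section_rep {G : Type u} [Group G] [Finite G] {p : ℕ} [Fact p.Prime]
    (V Φ : Subgroup G) [hV : V.Normal] [hΦ : Φ.Normal]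
    (hcomm : ∀ u ∈ V, ∀ v ∈ V, u * v * u⁻¹ * v⁻¹ ∈ Φ) (hpow : ∀ v ∈ V, v ^ p ∈ Φ) :
    ∃ (W : Type u) (_ : AddCommGroup W) (_ : Module (ZMod p) W) (_ : Finite W)
      (φ : G ⧸ V →* Module.End (ZMod p) W) (ι : ↥V →* Multiplicative W),
      Function.Surjective ι ∧ (∀ v : ↥V, ι v = 1 ↔ (v : G) ∈ Φ) ∧
      ∀ (g : G) (v : ↥V), φ (QuotientGroup.mk' V g) (Multiplicative.toAdd (ι v)) =
        Multiplicative.toAdd (ι ⟨g * v * g⁻¹, hV.conj_mem v v.2 g⟩) := by
  set mk := QuotientGroup.mk' Φ with hmk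
  have hmk1 : ∀ g : G, mk g = 1 ↔ g ∈ Φ := fun g => QuotientGroup.eq_one_iff g
  have hn : (V.map mk).Normal := hV.map mk (QuotientGroup.mk'_surjective Φ)
  have hAc : ∀ a ∈ V.map mk, ∀ b ∈ V.map mk, a * b = b * a := by
    rintro _ ⟨v, hv, rfl⟩ _ ⟨v', hv', rfl⟩
    have h3 := (hmk1 _).mpr (hcomm v hv v' hv')
    rw [map_mul, map_mul, map_mul, map_inv, map_inv] at h3
    calc mk v * mk v' = (mk v * mk v' * (mk v)⁻¹ * (mk v')⁻¹) * (mk v' * mk v) := by group
      _ = mk v' * mk v := by rw [h3, one_mul]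
  have hAp : ∀ a ∈ V.map mk, a ^ p = 1 := by
    rintro _ ⟨v, hv, rfl⟩
    rw [← map_pow]
    exact (hmk1 _).mpr (hpow v hv)
  have hUcomm : ∀ u u' : ↥(V.map mk), u * u' = u' * u := by
    rintro ⟨a, ha⟩ ⟨b, hb⟩
    exact Subtype.ext (hAc a ha b hb)
  let _ : CommGroup ↥(V.map mk) :=
    { (inferInstance : Group ↥(V.map mk)) with mul_comm := hUcomm }
  have hWexp : ∀ w : ↥(V.map mk), w ^ p = 1 := by
    rintro ⟨a, ha⟩
    apply Subtype.ext
    exact hAp a ha
  set ψ₀ : G →* MulAut ↥(V.map mk) := (MulAut.conjNormal (H := V.map mk)).comp mk with hψ₀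
  have hψ₀_apply : ∀ (g : G) (u : ↥(V.map mk)),
      ((ψ₀ g u : ↥(V.map mk)) : G ⧸ Φ) = mk g * (u : G ⧸ Φ) * (mk g)⁻¹ := fun g u => rfl
  have hker : V ≤ ψ₀.ker := by
    intro v hv
    rw [MonoidHom.mem_ker]
    ext ⟨u, hu⟩
    rw [hψ₀_apply, MulAut.one_apply]
    show mk v * u * (mk v)⁻¹ = u
    rw [hAc (mk v) (Subgroup.mem_map_of_mem _ hv) u hu, mul_inv_cancel_right]
  set ψ : G ⧸ V →* MulAut ↥(V.map mk) := QuotientGroup.lift V ψ₀ hker with hψ
  obtain ⟨W, i1, i2, i3, φ, e, he, hφ⟩ := exists_rep_of_commGroup (p := p) ↥(V.map mk) hWexp ψ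
  refine ⟨W, i1, i2, i3, φ, e.comp (mk.subgroupMap V), ?_, ?_, ?_⟩
  · exact he.surjective.comp (MonoidHom.subgroupMap_surjective mk V)
  · intro v
    rw [MonoidHom.comp_apply]
    constructor
    · intro h1
      have h2 : mk.subgroupMap V v = 1 := he.injective (by rw [h1, map_one])
      have h3 := congrArg (fun x : ↥(V.map mk) => (x : G ⧸ Φ)) h2
      exact (hmk1 _).mp h3
    · intro h1
      have h2 : mk.subgroupMap V v = 1 := by
        apply Subtype.ext
        exact (hmk1 _).mpr h1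
      rw [h2, map_one]
  · intro g v
    rw [MonoidHom.comp_apply, hφ, MonoidHom.comp_apply]
    congr 2

end Cfsg.Agent.Helper64.BG36
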