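import Mathlib
import Cfsg.Agent.Lib.Helper48.BG36EndCtx
import Cfsg.Agent.Lib.Helper57.BG36M
import Cfsg.Agent.Lib.Helper11.BG36D
import Cfsg.Agent.Lib.Helper24.HH125
import Cfsg.Agent.Lib.Helper52.Coprime
import Cfsg.Agent.Lib.Helper54.PSolv
import Cfsg.Agent.Lib.Helper55.Cores
import Cfsg.Agent.Lib.Helper76.SolvPSolv
import Cfsg.Agent.Lib.Helper63.PLen
import Cfsg.Agent.S4208
import Cfsg.Agent.Lib.Helper64.BG36stepCb

/-!
# BG Theorem 3.6, step C of the main induction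

`H = [H, R]`, `O_{p'}(H) = 1`: with `V = O_p(H)`, `Φ = Φ(V)`, `W = V / Φ` and `Γ = G ⧸ V` we build
the context `EndCtx` of the endgame, apply the endgame theorem and conclude that `H / V` is a
`p'`-group, so `H` has `p`-length at most one.
-/

set_option autoImplicit false
set_option maxHeartbeats 400000

universe u

namespace Cfsg.Agent.Helper64.BG36

open Subgroup Cfsg Cfsg.Agent.Helper48.BG36

/-- A characteristic subgroup of a characteristic subgroup is characteristic. -/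
theorem char_map_subtype {S : Type*} [Group S] (H : Subgroup S) [hH : H.Characteristic]
    (K₁ : Subgroup ↥H) [hK : K₁.Characteristic] : (K₁.map H.subtype).Characteristic := by
  rw [Subgroup.characteristic_iff_map_le]
  intro φ
  rintro _ ⟨_, ⟨k, hk, rfl⟩, rfl⟩
  have hHφ : H.map φ.toMonoidHom = H := Subgroup.characteristic_iff_map_eq.mp hH φ
  let ψ : ↥H ≃* ↥H := (φ.subgroupMap H).trans (MulEquiv.subgroupCongr hHφ)
  have hψ : K₁.map ψ.toMonoidHom = K₁ := Subgroup.characteristic_iff_map_eq.mp hK ψ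
  refine ⟨ψ k, ?_, ?_⟩
  · rw [← hψ]; exact ⟨k, hk, rfl⟩
  · rfl

/-- a normal `p`-subgroup of index prime to `p` gives `p`-length at most one -/
theorem plen_of_normal_pgroup {X : Type*} [Group X] [Finite X] {p : ℕ} [hp : Fact p.Prime]
    (P : Subgroup X) [hPn : P.Normal] (hP : IsPGroup p P) (hidx : (P.index).Coprime p) :
    PLengthLE p 1 X := by
  have h0 : Cfsg.Agent.Helper63.PL p 0 (⊥ : Subgroup X) ⊥ :=
    Cfsg.Agent.Helper63.PL.base _ _ le_rfl inferInstance inferInstance (by simp)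
  have h1 : Cfsg.Agent.Helper63.PL p 1 (⊥ : Subgroup X) ⊤ := by
    refine Cfsg.Agent.Helper63.PL.step 0 ⊥ ⊥ P ⊤ h0 bot_le le_top hPn inferInstance ?_ ?_
    · rw [Subgroup.relIndex_bot_left]
      exact IsPGroup.iff_card.mp hP
    · rw [Subgroup.relIndex_top_right]; exact hidx
  exact Cfsg.Agent.Helper63.PLengthLE_of_PL p h1

/-- (F) step C of the main induction of BG Theorem 3.6. -/
theorem stepC {p n : ℕ} [hp : Fact p.Prime] (hEND : ENDProp.{u} p) (IH : P2.{u} p n)
    {G : Type u} [Group G] [Finite G] [Group.IsSolvable G] (hodd : Odd (Nat.card G))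
    (H R : Subgroup G) [hHn : H.Normal] (a : G) (r : ℕ) (h : Conf H R a r)
    (hn : Nat.card H * Nat.card R ≤ n + 1) (hHR : H ≤ ⁅H, R⁆)
    (hOp' : ∀ N : Subgroup G, N ≤ H → (Nat.card N).Coprime p →
      (∀ u ∈ H, ∀ x ∈ N, u * x * u⁻¹ ∈ N) → N = ⊥) :
    Cfsg.PLengthLE p 1 ↥H := by
  classical
  -- the cores of `H`
  set P : Subgroup ↥H := pCore p ↥H with hP
  have hPn : P.Normal := inferInstance
  have hPp : IsPGroup p P := Cfsg.Agent.Helper55.isPGroup_pCore
  have hPc : P.Characteristic := Cfsg.Agent.Helper54.pCore_characteristic p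
  set F : Subgroup ↥H := (frattini ↥P).map P.subtype with hF
  have hFc : F.Characteristic := char_map_subtype P (frattini ↥P)
  set V : Subgroup G := P.map H.subtype with hVdef
  set Φ : Subgroup G := F.map H.subtype with hΦdef
  have hVH : V ≤ H := Subgroup.map_subtype_le _
  have hVp : IsPGroup p V := hPp.map _
  have hFP : F ≤ P := Subgroup.map_subtype_le _
  have hΦV : Φ ≤ V := Subgroup.map_mono hFP
  have hVn : V.Normal := by
    rw [← Subgroup.normalizer_eq_top_iff, eq_top_iff]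
    have h1 := Cfsg.Agent.Helper24.normalizer_le_normalizer_map_subtype_of_characteristic H P
    rwa [Subgroup.normalizer_eq_top_iff.mpr hHn] at h1
  have hΦn : Φ.Normal := by
    rw [← Subgroup.normalizer_eq_top_iff, eq_top_iff]
    have h1 := Cfsg.Agent.Helper24.normalizer_le_normalizer_map_subtype_of_characteristic H F
    rwa [Subgroup.normalizer_eq_top_iff.mpr hHn] at h1
  -- `p`-solvability and `O_{p'}(H) = 1`
  have hsolH : IsPSolvable p ↥H := Cfsg.Agent.Helper76.isPSolvable_of_isSolvable' p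
  have hcoreH : pPrimeCore p ↥H = ⊥ := by
    have hKn : (pPrimeCore p ↥H).Normal := inferInstance
    have h1 := hOp' ((pPrimeCore p ↥H).map H.subtype) (Subgroup.map_subtype_le _) ?_ ?_
    · exact (Subgroup.map_eq_bot_iff_of_injective _ H.subtype_injective).mp h1
    · rw [Subgroup.card_map_of_injective H.subtype_injective]
      exact Cfsg.Agent.Helper55.pPrimeCore_coprime p
    · rintro u hu _ ⟨k, hk, rfl⟩
      refine ⟨⟨u, hu⟩ * k * ⟨u, hu⟩⁻¹, hKn.conj_mem k hk ⟨u, hu⟩, rfl⟩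
  -- Hall–Higman 1.2.5
  have hHH : ∀ g ∈ H, (∀ v ∈ V, g * v * g⁻¹ * v⁻¹ ∈ Φ) → g ∈ V := by
    intro g hg hgv
    have h1 := Cfsg.Agent.Helper24.mem_pCore_of_commutator_mem_frattini hsolH hcoreH ⟨g, hg⟩ ?_
    · exact ⟨⟨g, hg⟩, h1, rfl⟩
    · intro x hx
      obtain ⟨y, hy, hyx⟩ := hgv (x : G) ⟨x, hx, rfl⟩
      have h2 : y = ⟨g, hg⟩ * x * ⟨g, hg⟩⁻¹ * x⁻¹ := Subtype.ext hyx
      rw [← h2]
      exact hy
  -- `V / Φ` is elementary abelian
  obtain ⟨hfc, hfe⟩ := Cfsg.Agent.S4208.frattini_quot_props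
    (IsPGroup.of_equiv hPp (MulEquiv.refl _) : IsPGroup p ↥P)
  have hΦ1 : ∀ u ∈ V, ∀ v ∈ V, u * v * u⁻¹ * v⁻¹ ∈ Φ := by
    rintro _ ⟨u, hu, rfl⟩ _ ⟨v, hv, rfl⟩
    refine ⟨u * v * u⁻¹ * v⁻¹, ⟨⟨u, hu⟩ * ⟨v, hv⟩ * ⟨u, hu⟩⁻¹ * ⟨v, hv⟩⁻¹, ?_, rfl⟩, rfl⟩
    rw [SetLike.mem_coe, ← QuotientGroup.eq_one_iff, QuotientGroup.mk_mul, QuotientGroup.mk_mul,
      QuotientGroup.mk_mul, QuotientGroup.mk_inv, QuotientGroup.mk_inv,
      hfc (⟨u, hu⟩ : ↥P) (⟨v, hv⟩ : ↥P)]
    group
  have hΦ2 : ∀ v ∈ V, v ^ p ∈ Φ := by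
    rintro _ ⟨v, hv, rfl⟩
    refine ⟨v ^ p, ⟨⟨v, hv⟩ ^ p, ?_, rfl⟩, rfl⟩
    rw [SetLike.mem_coe, ← QuotientGroup.eq_one_iff, QuotientGroup.mk_pow]
    exact hfe _
  -- `C_H(V) ≤ V`
  have hCV : ∀ u ∈ H, (∀ v ∈ V, u * v = v * u) → u ∈ V := by
    intro u hu huv
    apply hHH u hu
    intro v hv
    rw [huv v hv, mul_inv_cancel_right, mul_inv_cancel]
    exact Φ.one_mem
  -- maximality of `V`
  have hmax : ∀ N : Subgroup G, N ≤ H → IsPGroup p N → (∀ u ∈ H, ∀ x ∈ N, u * x * u⁻¹ ∈ N) →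
      N ≤ V := by
    intro N hNH hNp hNn x hx
    have h1 : (N.subgroupOf H).Normal := by
      constructor
      intro y hy g
      rw [Subgroup.mem_subgroupOf] at hy ⊢
      exact hNn g g.2 y hy
    have h2 : IsPGroup p (N.subgroupOf H) := hNp.comap_subtype
    have h3 : N.subgroupOf H ≤ P := Cfsg.Agent.Helper54.le_pCore h1 h2
    exact ⟨⟨x, hNH hx⟩, h3 (Subgroup.mem_subgroupOf.mpr hx), rfl⟩
  -- the module `W = V / Φ`
  obtain ⟨W, i1, i2, i3, φ, ι, hιs, hι1, hφ⟩ := exists_section_rep (p := p) V Φ hΦ1 hΦ2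
  have hkey : ∀ (g : G) (v : ↥V), ι ⟨g * v * g⁻¹, hVn.conj_mem v v.2 g⟩ = ι v →
      g * (v : G) * g⁻¹ * (v : G)⁻¹ ∈ Φ := by
    intro g v hgv
    have h1 : ι (⟨g * v * g⁻¹, hVn.conj_mem v v.2 g⟩ * v⁻¹) = 1 := by
      rw [map_mul, map_inv, hgv, mul_inv_cancel]
    exact (hι1 _).mp h1
  have hfixΦ : ∀ (g : G) (v : ↥V), φ (QuotientGroup.mk' V g) (Multiplicative.toAdd (ι v)) =
      Multiplicative.toAdd (ι v) → g * (v : G) * g⁻¹ * (v : G)⁻¹ ∈ Φ := by
    intro g v hgv
    apply hkey g v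
    rw [hφ] at hgv
    exact Multiplicative.toAdd.injective hgv
  -- the quotient
  set π := QuotientGroup.mk' V with hπ
  have hπ1 : ∀ g : G, π g = 1 ↔ g ∈ V := fun g => QuotientGroup.eq_one_iff g
  set L := H.map π with hL
  set Rb := R.map π with hRb
  have hLn : L.Normal := hHn.map π (QuotientGroup.mk'_surjective V)
  have hsolv : Group.IsSolvable (G ⧸ V) := inferInstance
  have hoddΓ : Odd (Nat.card (G ⧸ V)) :=
    Odd.of_dvd_nat hodd (Subgroup.card_quotient_dvd_card V)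
  have ctx : EndCtx φ L Rb (π a) r := by
    refine
      { conf := Cfsg.Agent.Helper57.BG36.conf_quot h V hVH
        comm := ?_
        faith := ?_
        op := ?_
        fix := ?_
        ihc := ?_ }
    · -- comm
      rw [hL, hRb, ← Subgroup.map_commutator]
      exact Subgroup.map_mono hHR
    · -- faith
      rintro _ ⟨g, hg, rfl⟩ hφg
      rw [hπ1]
      apply hHH g hg
      intro v hv
      apply hfixΦ g ⟨v, hv⟩
      rw [hφg]
      rfl
    · -- op
      intro N hNL hNp hNn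
      set N' := N.comap π ⊓ H with hN'
      have h1 : IsPGroup p N' := by
        have h2 : IsPGroup p (N.comap π) := by
          apply hNp.comap_of_ker_isPGroup π
          rw [hπ, QuotientGroup.ker_mk']
          exact hVp
        exact h2.to_le inf_le_left
      have h3 : N' ≤ V := by
        apply hmax N' inf_le_right h1
        intro u hu x hx
        refine ⟨?_, hHn.conj_mem x hx.2 u⟩
        show π (u * x * u⁻¹) ∈ N
        rw [map_mul, map_mul, map_inv]
        exact hNn (π u) (Subgroup.mem_map_of_mem _ hu) (π x) hx.1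
      rw [eq_bot_iff]
      intro y hy
      obtain ⟨g, hg, rfl⟩ := hNL hy
      rw [Subgroup.mem_bot, hπ1]
      exact h3 ⟨hy, hg⟩
    · -- fix
      set A := Subgroup.zpowers a with hA
      have hAR : A ≤ R := (Subgroup.zpowers_le).mpr h.mem
      set C := V ⊓ centralizer (A : Set G) with hC
      have hCcyc : IsCyclic ↥C := by
        apply h.cyc p hp.out C (inf_le_left.trans hVH) (hVp.to_le inf_le_left)
        intro u hu
        exact Subgroup.mem_centralizer_iff.mp hu.2 a (Subgroup.mem_zpowers a)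
      obtain ⟨c₀, hc₀⟩ := hCcyc.exists_generator
      have hc₀V : (c₀ : G) ∈ V := c₀.2.1
      refine ⟨Multiplicative.toAdd (ι ⟨c₀, hc₀V⟩), ?_⟩
      intro w hw
      obtain ⟨v, hv⟩ := hιs (Multiplicative.ofAdd w)
      have hwv : w = Multiplicative.toAdd (ι v) := by rw [hv]; rfl
      rw [hwv] at hw
      have h1 : a * (v : G) * a⁻¹ * (v : G)⁻¹ ∈ Φ := hfixΦ a v hw
      set mkΦ := QuotientGroup.mk' Φ with hmkΦ
      have hmk1 : ∀ g : G, mkΦ g = 1 ↔ g ∈ Φ := fun g => QuotientGroup.eq_one_iff g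
      have h2 : Commute (mkΦ a) (mkΦ v) := by
        have h3 := (hmk1 _).mpr h1
        rw [map_mul, map_mul, map_mul, map_inv, map_inv] at h3
        show mkΦ a * mkΦ v = mkΦ v * mkΦ a
        calc mkΦ a * mkΦ v = (mkΦ a * mkΦ v * (mkΦ a)⁻¹ * (mkΦ v)⁻¹) * (mkΦ v * mkΦ a) := by
              group
          _ = mkΦ v * mkΦ a := by rw [h3, one_mul]
      have hcomm : ∀ a' ∈ A, (v : G) * a' * (v : G)⁻¹ * a'⁻¹ ∈ Φ := by
        intro a' ha'
        obtain ⟨k, rfl⟩ := Subgroup.mem_zpowers_iff.mp ha'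
        rw [← hmk1, map_mul, map_mul, map_mul, map_inv, map_inv, map_zpow]
        have h4 : Commute (mkΦ a ^ k) (mkΦ v) := h2.zpow_left k
        rw [← h4.eq, mul_inv_cancel_right, mul_inv_cancel]
      have hcopAV : (Nat.card A).Coprime (Nat.card V) := by
        have h5 : Nat.card A ∣ Nat.card R := Subgroup.card_dvd_of_le hAR
        have h6 : Nat.card V ∣ Nat.card H := Subgroup.card_dvd_of_le hVH
        exact (Nat.Coprime.coprime_dvd_left h6 (Nat.Coprime.coprime_dvd_right h5 h.cop)).symm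
      obtain ⟨n', hn', c, hc, hvnc⟩ :=
        Cfsg.Agent.Helper52.exists_mul_centralizer_of_comm_mem V Φ A hΦV
          (by rw [Subgroup.normalizer_eq_top_iff.mpr hVn]; exact le_top)
          (by rw [Subgroup.normalizer_eq_top_iff.mpr hΦn]; exact le_top) hcopAV
          (Or.inl inferInstance) (v : G) v.2 hcomm
      obtain ⟨k, hk⟩ := Subgroup.mem_zpowers_iff.mp (hc₀ ⟨c, hc⟩)
      have hck : c = (c₀ : G) ^ k := by
        have := congrArg (fun x : ↥C => (x : G)) hk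
        simpa using this.symm
      have hvV : v = ⟨n', hΦV hn'⟩ * (⟨c₀, hc₀V⟩ : ↥V) ^ k := by
        apply Subtype.ext
        rw [Subgroup.coe_mul, Subgroup.coe_zpow]
        rw [hvnc, hck]
      have hιn : ι ⟨n', hΦV hn'⟩ = 1 := (hι1 _).mpr hn'
      refine ⟨(k : ZMod p), ?_⟩
      rw [hwv, Int.cast_smul_eq_zsmul, ← toAdd_zpow, ← map_zpow]
      conv_lhs => rw [hvV, map_mul, hιn, one_mul]
    · -- ihc
      intro X R' hX hR' haR' hinv hne P₁ hP₁ hP₁p
      exact Cfsg.Agent.Helper11.BG36.ihc hodd IH h hn V hVH hVp hCV X R' hX hR' haR' hinv hne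
        P₁ hP₁ hP₁p
  have hcop : (Nat.card L).Coprime p := @hEND (G ⧸ V) _ _ hsolv hoddΓ W i1 i2 i3 φ L Rb hLn (π a) r ctx
  -- conclusion
  apply plen_of_normal_pgroup P hPp
  have h1 : P.index = V.relIndex H := by
    rw [Subgroup.relIndex, hVdef, Subgroup.subgroupOf,
      Subgroup.comap_map_eq_self_of_injective H.subtype_injective]
  have h2 : V.relIndex H = Nat.card L := by
    rw [hL, ← Subgroup.relIndex_ker, hπ, QuotientGroup.ker_mk']
  rw [h1, h2]
  exact hcop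

end Cfsg.Agent.Helper64.BG36
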