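import Mathlib

set_option autoImplicit false

/-!
# S4017 (boundary case): the setting, as produced by the front end

`Setting a p Q x` is the situation in a minimal counterexample to S4017 in the boundary case
`q = 2`, `p = 2 ^ a - 1`: `G` is simple, `Q` is an elementary abelian Sylow `2`-subgroup of order
`2 ^ a = p + 1`, every proper subgroup of even order is a `{2, p}`-group, the Sylow `p`-subgroups
are abelian and `x` is a `p`-element normalising `Q` and transitive on `Q \ {1}`.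
The goal of the middle part is `Setting a p Q x → False`.
-/

namespace Cfsg.Agent.Helper64.S4017

variable {G : Type*} [Group G]

/-- `z` is a `p`-element. -/
def IsPel (p : ℕ) (z : G) : Prop := ∃ j : ℕ, orderOf z = p ^ j

/-- `u` is an involution. -/
def IsInv (u : G) : Prop := u ≠ 1 ∧ u * u = 1

/-- The boundary setting. -/
structure Setting [Finite G] (a p : ℕ) (Q : Subgroup G) (x : G) : Prop where
  simple : IsSimpleGroup G
  two_le : 2 ≤ a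
  prime : p.Prime
  p_eq : p + 1 = 2 ^ a
  card_Q : Nat.card Q = 2 ^ a
  sylow : ¬ 2 ^ (a + 1) ∣ Nat.card G
  elem : ∀ g ∈ Q, g * g = 1
  star : ∀ H : Subgroup G, H ≠ ⊤ → 2 ∣ Nat.card H →
    ∀ r : ℕ, r.Prime → r ∣ Nat.card H → r = 2 ∨ r = p
  abel : ∀ P : Sylow p G, ∀ g ∈ P, ∀ h ∈ P, g * h = h * g
  x_norm : ∀ s ∈ Q, x * s * x⁻¹ ∈ Q
  x_pel : IsPel p x
  x_trans : ∀ t ∈ Q, t ≠ 1 → ∀ s ∈ Q, s ≠ 1 → ∃ i : ℕ, x ^ i * t * (x ^ i)⁻¹ = s

/-- `C_G(Q)` contains a nontrivial `p`-element (`P₁ ≠ 1`). -/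
def P1ne (p : ℕ) (Q : Subgroup G) : Prop :=
  ∃ c : G, c ≠ 1 ∧ IsPel p c ∧ ∀ s ∈ Q, c * s = s * c

/-- The toolkit for one setting `(Q, x)`: Lemma H, the structure of `C(t)`, `t ∈ Q \ {1}`, and of
`N(Q)`. -/
structure Tools (a p : ℕ) (Q : Subgroup G) (x : G) : Prop where
  /-- Lemma H: a proper subgroup containing `Q` and `x` normalises `Q`. -/
  lemmaH : ∀ H : Subgroup G, H ≠ ⊤ → Q ≤ H → x ∈ H → ∀ g ∈ H, ∀ s ∈ Q, g * s * g⁻¹ ∈ Q
  /-- (CT): the `p`-elements of `C(t)` form an abelian subgroup `Z_t`. -/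
  ct : ∀ t ∈ Q, t ≠ 1 → ∃ Z : Subgroup G,
    (∀ z, z ∈ Z ↔ (z * t = t * z ∧ IsPel p z)) ∧ ∀ z ∈ Z, ∀ z' ∈ Z, z * z' = z' * z
  /-- (CT1): `C(t) = Z_t Q`. -/
  ct1 : ∀ t ∈ Q, t ≠ 1 → ∀ g : G, g * t = t * g →
    ∃ z s : G, IsPel p z ∧ z * t = t * z ∧ s ∈ Q ∧ g = z * s
  /-- (M2): `N(Q) ∩ C(t) ≤ C(Q)`. -/
  m2 : ∀ t ∈ Q, t ≠ 1 → ∀ g : G, (∀ s ∈ Q, g * s * g⁻¹ ∈ Q) → g * t = t * g →
    ∀ s ∈ Q, g * s = s * g
  /-- (M3): the `p`-elements of `C(Q)` commute with `x`. -/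
  m3 : ∀ c : G, IsPel p c → (∀ s ∈ Q, c * s = s * c) → c * x = x * c
  /-- (N2): the `2`-elements of `N(Q)` lie in `Q`. -/
  n2 : ∀ g : G, (∀ s ∈ Q, g * s * g⁻¹ ∈ Q) → (∃ j : ℕ, orderOf g = 2 ^ j) → g ∈ Q

/-- `w` is an eigenvector for the conjugation action of `Q`. -/
def IsEig (Q : Subgroup G) (w : G) : Prop := ∀ s ∈ Q, s * w * s⁻¹ = w ∨ s * w * s⁻¹ = w⁻¹

end Cfsg.Agent.Helper64.S4017
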