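import Mathlib
import Cfsg.Prelude.Def_OddOrderLocal
import Cfsg.Agent.Lib.Helper64.Basic

set_option autoImplicit false

namespace Cfsg.Agent.Helper64

open Subgroup
open scoped commutatorElement

/-- Explicit data for a finite metacyclic group: `⟨a⟩` normal, `G = ⟨a⟩⟨b⟩`, `b a b⁻¹ = a ^ t`. -/
structure MCData (G : Type*) [Group G] where
  a : G
  b : G
  t : ℕ
  ht : 0 < t
  hconj : b * a * b⁻¹ = a ^ t
  hgen : ∀ g : G, ∃ i j : ℕ, g = a ^ i * b ^ j

theorem exists_mcData {G : Type*} [Group G] [Finite G] (hmc : Cfsg.IsMetacyclic G) :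
    Nonempty (MCData G) := by
  obtain ⟨N, hNn, hNc, hQc⟩ := hmc
  obtain ⟨a, ha⟩ := hNc.exists_generator
  obtain ⟨bq, hb⟩ := hQc.exists_generator
  obtain ⟨b, rfl⟩ := QuotientGroup.mk_surjective bq
  have hconjN : b * (a : G) * b⁻¹ ∈ N := hNn.conj_mem a a.2 b
  have hmemN : ∀ x : G, x ∈ N → ∃ i : ℕ, x = (a : G) ^ i := by
    intro x hx
    have h1 : (⟨x, hx⟩ : N) ∈ zpowers a := ha _
    rw [← mem_powers_iff_mem_zpowers] at h1
    obtain ⟨i, hi⟩ := h1
    refine ⟨i, ?_⟩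
    have := congrArg Subtype.val hi
    simpa using this.symm
  obtain ⟨t, ht⟩ := hmemN _ hconjN
  have ht' : b * (a : G) * b⁻¹ = (a : G) ^ (t + orderOf (a : G)) := by
    rw [pow_add, pow_orderOf_eq_one, mul_one]; exact ht
  refine ⟨⟨(a : G), b, t + orderOf (a : G), Nat.add_pos_right t (orderOf_pos _), ht', ?_⟩⟩
  intro g
  have h1 : (QuotientGroup.mk g : G ⧸ N) ∈ zpowers (QuotientGroup.mk b : G ⧸ N) := hb _
  rw [← mem_powers_iff_mem_zpowers] at h1
  obtain ⟨j, hj⟩ := h1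
  have h2 : (QuotientGroup.mk (b ^ j) : G ⧸ N) = QuotientGroup.mk g := by
    rw [QuotientGroup.mk_pow]; exact hj
  have h3 : g * (b ^ j)⁻¹ ∈ N := by
    have : ((b ^ j)⁻¹ * g) ∈ N := QuotientGroup.eq.mp h2
    have h4 := hNn.conj_mem _ this (b ^ j)
    simpa [mul_assoc] using h4
  obtain ⟨i, hi⟩ := hmemN _ h3
  refine ⟨i, j, ?_⟩
  rw [← hi]
  group

/-- The size of a conjugacy class is the index of the centralizer. -/
theorem ncard_conj_eq_index {G : Type*} [Group G] (g : G) :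
    {x : G | ∃ c : G, c * g * c⁻¹ = x}.ncard = (Subgroup.centralizer ({g} : Set G)).index := by
  have h0 : (Subgroup.centralizer ({g} : Set G)).index =
      (MulAction.stabilizer (ConjAct G) g).index := by
    rw [Subgroup.centralizer_eq_comap_stabilizer]
    exact Subgroup.index_comap_of_surjective (MulAction.stabilizer (ConjAct G) g)
      (f := (ConjAct.toConjAct (G := G)).toMonoidHom) (ConjAct.toConjAct (G := G)).surjective
  rw [h0, MulAction.index_stabilizer]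
  congr 1

namespace MCData

variable {G : Type*} [Group G] (D : MCData G)

theorem conj_a_pow (i : ℕ) : D.b * D.a ^ i * D.b⁻¹ = D.a ^ (D.t * i) := by
  rw [pow_mul, ← D.hconj, conj_pow]

theorem conj_bpow_a (j : ℕ) : D.b ^ j * D.a * (D.b ^ j)⁻¹ = D.a ^ (D.t ^ j) := by
  induction j with
  | zero => simp
  | succ j ih =>
    have h : D.b ^ (j + 1) * D.a * (D.b ^ (j + 1))⁻¹ =
        D.b * (D.b ^ j * D.a * (D.b ^ j)⁻¹) * D.b⁻¹ := by
      rw [pow_succ']; group
    rw [h, ih, conj_a_pow, pow_succ']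

theorem conj_bpow_apow (j i : ℕ) :
    D.b ^ j * D.a ^ i * (D.b ^ j)⁻¹ = D.a ^ (D.t ^ j * i) := by
  rw [pow_mul, ← conj_bpow_a, conj_pow]

theorem conj_a_by (i j : ℕ) :
    (D.a ^ i * D.b ^ j) * D.a * (D.a ^ i * D.b ^ j)⁻¹ = D.a ^ (D.t ^ j) := by
  have h : (D.a ^ i * D.b ^ j) * D.a * (D.a ^ i * D.b ^ j)⁻¹ =
      D.a ^ i * (D.b ^ j * D.a * (D.b ^ j)⁻¹) * (D.a ^ i)⁻¹ := by group
  rw [h, conj_bpow_a, ← pow_add, add_comm, pow_add, mul_inv_cancel_right]

theorem conj_b_by (i j : ℕ) :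
    (D.a ^ i * D.b ^ j) * D.b * (D.a ^ i * D.b ^ j)⁻¹ =
      D.a ^ i * (D.a ^ (D.t * i))⁻¹ * D.b := by
  have h0 : D.b ^ j * D.b * (D.b ^ j)⁻¹ = D.b := by
    rw [← pow_succ, pow_succ', mul_inv_cancel_right]
  have h1 : (D.a ^ i * D.b ^ j) * D.b * (D.a ^ i * D.b ^ j)⁻¹ =
      D.a ^ i * D.b * (D.a ^ i)⁻¹ := by
    calc (D.a ^ i * D.b ^ j) * D.b * (D.a ^ i * D.b ^ j)⁻¹
        = D.a ^ i * (D.b ^ j * D.b * (D.b ^ j)⁻¹) * (D.a ^ i)⁻¹ := by group
      _ = D.a ^ i * D.b * (D.a ^ i)⁻¹ := by rw [h0]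
  have h2 : D.b * (D.a ^ i)⁻¹ = (D.a ^ (D.t * i))⁻¹ * D.b := by
    rw [← conj_a_pow]; group
  rw [h1, mul_assoc, h2, ← mul_assoc]

theorem conjClass_a : {x : G | ∃ c : G, c * D.a * c⁻¹ = x} = {x : G | ∃ j : ℕ, x = D.a ^ (D.t ^ j)} := by
  ext x
  constructor
  · rintro ⟨c, rfl⟩
    obtain ⟨i, j, rfl⟩ := D.hgen c
    exact ⟨j, D.conj_a_by i j⟩
  · rintro ⟨j, rfl⟩
    exact ⟨D.b ^ j, D.conj_bpow_a j⟩

theorem conjClass_b : {x : G | ∃ c : G, c * D.b * c⁻¹ = x} =
    {x : G | ∃ i : ℕ, x = D.a ^ i * (D.a ^ (D.t * i))⁻¹ * D.b} := by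
  ext x
  constructor
  · rintro ⟨c, rfl⟩
    obtain ⟨i, j, rfl⟩ := D.hgen c
    exact ⟨i, D.conj_b_by i j⟩
  · rintro ⟨i, rfl⟩
    refine ⟨D.a ^ i * D.b ^ 0, ?_⟩
    exact D.conj_b_by i 0

/-- `a ^ i * (a ^ (t i))⁻¹` is the inverse of the `i`-th power of `a ^ (t - 1)`. -/
theorem a_pow_mul_inv (i : ℕ) :
    D.a ^ i * (D.a ^ (D.t * i))⁻¹ = ((D.a ^ (D.t - 1)) ^ i)⁻¹ := by
  have h : D.t * i = (D.t - 1) * i + i := by
    have := D.ht
    nth_rewrite 1 [show D.t = (D.t - 1) + 1 by omega]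
    ring
  rw [h, pow_add, mul_inv_rev, mul_inv_cancel_left, pow_mul]

variable [Finite G]

theorem conjClass_b_eq_image : {x : G | ∃ c : G, c * D.b * c⁻¹ = x} =
    (fun y => y * D.b) '' (zpowers (D.a ^ (D.t - 1)) : Set G) := by
  rw [conjClass_b]
  ext x
  constructor
  · rintro ⟨i, rfl⟩
    refine ⟨D.a ^ i * (D.a ^ (D.t * i))⁻¹, ?_, rfl⟩
    rw [a_pow_mul_inv]
    exact Subgroup.inv_mem _ (Subgroup.pow_mem _ (mem_zpowers _) _)
  · rintro ⟨y, hy, rfl⟩
    have hy' : y⁻¹ ∈ zpowers (D.a ^ (D.t - 1)) := Subgroup.inv_mem _ hy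
    rw [← mem_powers_iff_mem_zpowers] at hy'
    obtain ⟨i, hi⟩ := hy'
    refine ⟨i, ?_⟩
    rw [a_pow_mul_inv]
    show y * D.b = _
    have hi' : (D.a ^ (D.t - 1)) ^ i = y⁻¹ := hi
    rw [hi', inv_inv]

theorem index_centralizer_b :
    (Subgroup.centralizer ({D.b} : Set G)).index = orderOf (D.a ^ (D.t - 1)) := by
  rw [← ncard_conj_eq_index, conjClass_b_eq_image,
    Set.ncard_image_of_injective _ (mul_left_injective D.b), ← Nat.card_zpowers]
  exact (Nat.card_coe_set_eq _).symm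

theorem coprime_t : Nat.Coprime D.t (orderOf D.a) := by
  have h1 : orderOf (D.a ^ D.t) = orderOf D.a := by
    rw [← D.hconj]
    have := (MulAut.conj D.b).orderOf_eq D.a
    rwa [MulAut.conj_apply] at this
  rw [orderOf_pow' _ D.ht.ne'] at h1
  have hn : 0 < orderOf D.a := orderOf_pos _
  rcases Nat.div_eq_self.mp h1 with h | h
  · omega
  · rw [Nat.coprime_comm]; exact h

/-- The unit of `ZMod (orderOf a)` by which `b` acts on `⟨a⟩`. -/
noncomputable def u : (ZMod (orderOf D.a))ˣ := ZMod.unitOfCoprime D.t D.coprime_t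

theorem a_pow_u_pow (j : ℕ) :
    D.a ^ (((D.u ^ j : (ZMod (orderOf D.a))ˣ) : ZMod (orderOf D.a)).val) = D.a ^ (D.t ^ j) := by
  have : NeZero (orderOf D.a) := ⟨(orderOf_pos _).ne'⟩
  rw [Units.val_pow_eq_pow_val, u, ZMod.coe_unitOfCoprime, ← Nat.cast_pow, ZMod.val_natCast,
    pow_mod_orderOf]

theorem conjClass_a_eq_image : {x : G | ∃ c : G, c * D.a * c⁻¹ = x} =
    (fun v : (ZMod (orderOf D.a))ˣ => D.a ^ ((v : ZMod (orderOf D.a)).val)) ''
      (zpowers D.u : Set (ZMod (orderOf D.a))ˣ) := by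
  have : NeZero (orderOf D.a) := ⟨(orderOf_pos _).ne'⟩
  rw [conjClass_a]
  ext x
  constructor
  · rintro ⟨j, rfl⟩
    exact ⟨D.u ^ j, Subgroup.pow_mem _ (mem_zpowers _) _, D.a_pow_u_pow j⟩
  · rintro ⟨v, hv, rfl⟩
    have hv' : v ∈ zpowers D.u := hv
    rw [← mem_powers_iff_mem_zpowers] at hv'
    obtain ⟨j, rfl⟩ := hv'
    exact ⟨j, D.a_pow_u_pow j⟩

theorem index_centralizer_a :
    (Subgroup.centralizer ({D.a} : Set G)).index = orderOf D.u := by
  have : NeZero (orderOf D.a) := ⟨(orderOf_pos _).ne'⟩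
  have hinj : Function.Injective
      (fun v : (ZMod (orderOf D.a))ˣ => D.a ^ ((v : ZMod (orderOf D.a)).val)) := by
    intro v w hvw
    have h1 : ((v : ZMod (orderOf D.a)).val) = ((w : ZMod (orderOf D.a)).val) :=
      pow_injOn_Iio_orderOf (ZMod.val_lt _) (ZMod.val_lt _) hvw
    exact Units.ext (ZMod.val_injective _ h1)
  rw [← ncard_conj_eq_index, conjClass_a_eq_image, Set.ncard_image_of_injective _ hinj]
  have h2 : Nat.card (zpowers D.u) = orderOf D.u := Nat.card_zpowers D.u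
  rw [← h2]
  exact (Nat.card_coe_set_eq _).symm

omit [Finite G] in
theorem center_eq :
    Subgroup.center G = centralizer ({D.a} : Set G) ⊓ centralizer ({D.b} : Set G) := by
  ext g
  rw [Subgroup.mem_center_iff, Subgroup.mem_inf, Subgroup.mem_centralizer_iff,
    Subgroup.mem_centralizer_iff]
  constructor
  · intro h
    refine ⟨fun x hx => ?_, fun x hx => ?_⟩
    · exact h x
    · exact h x
  · rintro ⟨ha, hb⟩ x
    obtain ⟨i, j, rfl⟩ := D.hgen x
    have ha' : Commute D.a g := ha D.a rfl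
    have hb' : Commute D.b g := hb D.b rfl
    exact ((ha'.pow_left i).mul_left (hb'.pow_left j)).eq

omit [Finite G] in
theorem conj_mem_zpowers_a (g x : G) (hx : x ∈ zpowers D.a) : g * x * g⁻¹ ∈ zpowers D.a := by
  obtain ⟨k, rfl⟩ := mem_zpowers_iff.mp hx
  obtain ⟨i, j, rfl⟩ := D.hgen g
  have h1 : (D.a ^ i * D.b ^ j) * D.a ^ k * (D.a ^ i * D.b ^ j)⁻¹ =
      ((D.a ^ i * D.b ^ j) * D.a * (D.a ^ i * D.b ^ j)⁻¹) ^ k := by
    rw [conj_zpow]
  rw [h1, D.conj_a_by]
  exact Subgroup.zpow_mem _ (Subgroup.pow_mem _ (mem_zpowers _) _) _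

omit [Finite G] in
theorem normal_zpowers_a : (zpowers D.a).Normal :=
  ⟨fun x hx g => D.conj_mem_zpowers_a g x hx⟩

omit [Finite G] in
theorem centralizer_a_eq :
    centralizer ({D.a} : Set G) = centralizer ((zpowers D.a : Subgroup G) : Set G) := by
  rw [zpowers_eq_closure, Subgroup.centralizer_closure]

omit [Finite G] in
theorem normal_centralizer_a : (centralizer ({D.a} : Set G)).Normal := by
  rw [centralizer_a_eq]
  have := D.normal_zpowers_a
  infer_instance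

omit [Finite G] in
theorem centralizer_sup_eq_top :
    centralizer ({D.b} : Set G) ⊔ centralizer ({D.a} : Set G) = ⊤ := by
  rw [eq_top_iff]
  intro g _
  obtain ⟨i, j, rfl⟩ := D.hgen g
  have ha : D.a ^ i ∈ centralizer ({D.a} : Set G) := by
    rw [Subgroup.mem_centralizer_iff]
    intro x hx
    rw [Set.mem_singleton_iff] at hx
    rw [hx]
    exact ((Commute.refl D.a).pow_right i).eq
  have hb : D.b ^ j ∈ centralizer ({D.b} : Set G) := by
    rw [Subgroup.mem_centralizer_iff]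
    intro x hx
    rw [Set.mem_singleton_iff] at hx
    rw [hx]
    exact ((Commute.refl D.b).pow_right j).eq
  rw [sup_comm]
  exact Subgroup.mul_mem_sup ha hb

theorem index_center :
    (Subgroup.center G).index = orderOf (D.a ^ (D.t - 1)) * orderOf D.u := by
  have hn := D.normal_centralizer_a
  have h1 := inf_relIndex_eq_relIndex_sup (centralizer ({D.b} : Set G))
    (centralizer ({D.a} : Set G))
  rw [D.centralizer_sup_eq_top, Subgroup.relIndex_top_right] at h1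
  have h2 := Subgroup.relIndex_mul_index
    (inf_le_right : centralizer ({D.b} : Set G) ⊓ centralizer ({D.a} : Set G) ≤
      centralizer ({D.a} : Set G))
  rw [D.center_eq, inf_comm, ← h2, h1, D.index_centralizer_a, D.index_centralizer_b]

omit [Finite G] in
theorem normal_zpowers_comm : (zpowers (D.a ^ (D.t - 1))).Normal := by
  refine ⟨fun x hx g => ?_⟩
  obtain ⟨k, rfl⟩ := mem_zpowers_iff.mp hx
  obtain ⟨i, j, rfl⟩ := D.hgen g
  have h1 : (D.a ^ i * D.b ^ j) * (D.a ^ (D.t - 1)) ^ k * (D.a ^ i * D.b ^ j)⁻¹ =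
      (((D.a ^ i * D.b ^ j) * D.a * (D.a ^ i * D.b ^ j)⁻¹) ^ (D.t - 1)) ^ k := by
    rw [conj_pow, conj_zpow]
  rw [h1, D.conj_a_by, ← pow_mul, mul_comm, pow_mul]
  exact Subgroup.zpow_mem _ (Subgroup.pow_mem _ (mem_zpowers _) _) _

omit [Finite G] in
theorem commutator_eq : commutator G = zpowers (D.a ^ (D.t - 1)) := by
  have hDn := D.normal_zpowers_comm
  have hat : D.a ^ D.t = D.a ^ (D.t - 1) * D.a := by
    rw [← pow_succ, Nat.sub_add_cancel D.ht]
  apply le_antisymm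
  · rw [← Subgroup.Normal.quotient_commutative_iff_commutator_le]
    have hab : Commute (QuotientGroup.mk D.b : G ⧸ zpowers (D.a ^ (D.t - 1)))
        (QuotientGroup.mk D.a) := by
      have h1 : (QuotientGroup.mk (D.b * D.a * D.b⁻¹) : G ⧸ zpowers (D.a ^ (D.t - 1))) =
          QuotientGroup.mk D.a := by
        rw [D.hconj, hat, QuotientGroup.mk_mul,
          (QuotientGroup.eq_one_iff _).mpr (mem_zpowers (D.a ^ (D.t - 1))), one_mul]
      rw [QuotientGroup.mk_mul, QuotientGroup.mk_mul, QuotientGroup.mk_inv] at h1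
      exact mul_inv_eq_iff_eq_mul.mp h1
    refine ⟨⟨fun x y => ?_⟩⟩
    obtain ⟨g, rfl⟩ := QuotientGroup.mk_surjective x
    obtain ⟨h, rfl⟩ := QuotientGroup.mk_surjective y
    obtain ⟨i, j, rfl⟩ := D.hgen g
    obtain ⟨k, l, rfl⟩ := D.hgen h
    simp only [QuotientGroup.mk_mul, QuotientGroup.mk_pow]
    have hc : Commute
        ((QuotientGroup.mk D.a : G ⧸ zpowers (D.a ^ (D.t - 1))) ^ i * (QuotientGroup.mk D.b) ^ j)
        ((QuotientGroup.mk D.a) ^ k * (QuotientGroup.mk D.b) ^ l) := by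
      apply Commute.mul_left
      · apply Commute.mul_right
        · exact (Commute.refl _).pow_pow i k
        · exact hab.symm.pow_pow i l
      · apply Commute.mul_right
        · exact hab.pow_pow j k
        · exact (Commute.refl _).pow_pow j l
    exact hc.eq
  · rw [zpowers_le]
    have h1 : D.a ^ (D.t - 1) = ⁅D.b, D.a⁆ := by
      rw [commutatorElement_def, D.hconj, hat, mul_inv_cancel_right]
    rw [h1, commutator_def]
    exact Subgroup.commutator_mem_commutator (mem_top _) (mem_top _)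

end MCData

/-- The order of `t ≡ 1 (mod p)` modulo a power `n` of the odd prime `p`. -/
theorem orderOf_unitOfCoprime_eq {p n t : ℕ} (hp : p.Prime) (hp2 : p ≠ 2) (hn : ∃ m, n = p ^ m)
    (ht : 0 < t) (htp : n ≠ 1 → t % p = 1) (hcop : Nat.Coprime t n) :
    orderOf (ZMod.unitOfCoprime t hcop) = n / Nat.gcd n (t - 1) := by
  obtain ⟨m, rfl⟩ := hn
  have hpos : 0 < p ^ m := pow_pos hp.pos m
  rw [← orderOf_units, ZMod.coe_unitOfCoprime]
  by_cases ht1 : t = 1
  · subst ht1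
    simp [Nat.div_self hpos]
  by_cases hm0 : m = 0
  · subst hm0
    have hss : Subsingleton (ZMod (p ^ 0)) := by rw [pow_zero]; infer_instance
    have : (t : ZMod (p ^ 0)) = 1 := Subsingleton.elim _ _
    rw [this, orderOf_one]
    simp
  have hn1 : p ^ m ≠ 1 := by
    intro h
    have := Nat.pow_eq_one.mp h
    rcases this with h | h
    · exact hp.one_lt.ne' h
    · exact hm0 h
  have htp' := htp hn1
  obtain ⟨r, w, hw, hrw⟩ := Nat.exists_eq_pow_mul_and_not_dvd (n := t - 1) (by omega) p hp.ne_one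
  have hr0 : r ≠ 0 := by
    intro h0
    rw [h0, pow_zero, one_mul] at hrw
    apply hw
    rw [← hrw]
    exact (Nat.modEq_iff_dvd' (by omega)).mp (by
      show 1 % p = t % p
      rw [htp', Nat.mod_eq_of_lt hp.one_lt])
  have htw : t = 1 + p ^ r * w := by omega
  rcases Nat.lt_or_ge r m with hrm | hrm
  · obtain ⟨k, rfl⟩ : ∃ k, m = k + r := ⟨m - r, by omega⟩
    have hgcd : Nat.gcd (p ^ (k + r)) (t - 1) = p ^ r := by
      rw [hrw, pow_add, mul_comm (p ^ k), Nat.gcd_mul_left,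
        Nat.Coprime.gcd_eq_one (Nat.Coprime.pow_left k ((Nat.Prime.coprime_iff_not_dvd hp).mpr hw)),
        mul_one]
    rw [hgcd, pow_add, Nat.mul_div_cancel _ (pow_pos hp.pos r), ← pow_add]
    have h3 := ZMod.orderOf_one_add_mul_prime_pow hp r hr0
      (by
        have h3p : 3 ≤ p := by
          have := hp.two_le
          omega
        have : 1 ≤ r := Nat.one_le_iff_ne_zero.mpr hr0
        nlinarith) (w : ℤ) (by exact_mod_cast hw) k
    rw [htw]
    push_cast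
    rw [Int.cast_natCast] at h3
    exact h3
  · have hdvd : p ^ m ∣ t - 1 := by
      rw [hrw]
      exact Dvd.dvd.mul_right (pow_dvd_pow p hrm) w
    have h1 : (t : ZMod (p ^ m)) = 1 := by
      have : ((t - 1 : ℕ) : ZMod (p ^ m)) = 0 := (ZMod.natCast_eq_zero_iff _ _).mpr hdvd
      rw [Nat.cast_sub ht, sub_eq_zero] at this
      simpa using this
    rw [h1, orderOf_one, Nat.gcd_eq_left hdvd, Nat.div_self hpos]

namespace MCData

variable {G : Type*} [Group G] [Finite G] (D : MCData G)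

omit [Finite G] in
theorem t_mod_p {p : ℕ} [hp : Fact p.Prime] (hG : IsPGroup p G) (h1 : orderOf D.a ≠ 1) :
    D.t % p = 1 := by
  obtain ⟨k, hk⟩ := hG D.b
  obtain ⟨m, hm⟩ := (IsPGroup.iff_orderOf.mp hG) D.a
  have hm0 : m ≠ 0 := by
    intro h0
    rw [h0, pow_zero] at hm
    exact h1 hm
  have h2 := D.conj_bpow_a (p ^ k)
  rw [hk, one_mul, inv_one, mul_one] at h2
  have h3 : D.a ^ 1 = D.a ^ (D.t ^ (p ^ k)) := by rw [pow_one]; exact h2
  rw [pow_eq_pow_iff_modEq, hm] at h3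
  have h4 : 1 ≡ D.t ^ p ^ k [MOD p] := h3.of_dvd (dvd_pow_self p hm0)
  have h5 : ((D.t : ZMod p)) ^ p ^ k = 1 := by
    have := (ZMod.natCast_eq_natCast_iff _ _ _).mpr h4
    push_cast at this
    exact this.symm
  rw [ZMod.pow_card_pow] at h5
  have h6 : ((D.t : ℕ) : ZMod p) = ((1 : ℕ) : ZMod p) := by rw [h5]; simp
  rw [ZMod.natCast_eq_natCast_iff] at h6
  have : D.t % p = 1 % p := h6
  rwa [Nat.mod_eq_of_lt hp.out.one_lt] at this

theorem orderOf_u_eq {p : ℕ} [hp : Fact p.Prime] (hp2 : p ≠ 2) (hG : IsPGroup p G) :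
    orderOf D.u = orderOf (D.a ^ (D.t - 1)) := by
  have hn : ∃ m, orderOf D.a = p ^ m := (IsPGroup.iff_orderOf.mp hG) D.a
  have h1 := orderOf_unitOfCoprime_eq hp.out hp2 hn D.ht (D.t_mod_p hG) D.coprime_t
  rw [u, h1]
  by_cases ht1 : D.t = 1
  · rw [ht1]
    simp [Nat.div_self (orderOf_pos D.a)]
  · rw [orderOf_pow' _ (by have := D.ht; omega)]

end MCData

/-- For an odd prime `p` and a finite metacyclic `p`-group, `|G : Z(G)| = |G'|²`. -/
theorem index_center_eq_sq_of_metacyclic {G : Type*} [Group G] [Finite G] {p : ℕ} [Fact p.Prime]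
    (hp : p ≠ 2) (hG : IsPGroup p G) (hmc : Cfsg.IsMetacyclic G) :
    (Subgroup.center G).index = Nat.card ↥(commutator G) ^ 2 := by
  obtain ⟨D⟩ := exists_mcData hmc
  rw [D.index_center, D.commutator_eq, Nat.card_zpowers, sq, D.orderOf_u_eq hp hG]

end Cfsg.Agent.Helper64
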