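import Mathlib
import Cfsg.Agent.Lib.Helper64.Metacyclic
import Cfsg.Agent.S3910

set_option autoImplicit false

namespace Cfsg.Agent.Helper64

open Subgroup

/-- The number of distinct `x ^ (T ^ y)` is the order of `T` modulo the order of `x`. -/
theorem ncard_pow_pow_orbit {G : Type*} [Group G] (x : G) (hx : 0 < orderOf x) (T : ℕ)
    (hcop : T.Coprime (orderOf x)) :
    {z : G | ∃ y : ℕ, z = x ^ (T ^ y)}.ncard = orderOf (ZMod.unitOfCoprime T hcop) := by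
  have : NeZero (orderOf x) := ⟨hx.ne'⟩
  have hpow : ∀ j : ℕ, x ^ (((ZMod.unitOfCoprime T hcop ^ j : (ZMod (orderOf x))ˣ) :
      ZMod (orderOf x)).val) = x ^ (T ^ j) := by
    intro j
    rw [Units.val_pow_eq_pow_val, ZMod.coe_unitOfCoprime, ← Nat.cast_pow, ZMod.val_natCast,
      pow_mod_orderOf]
  have himg : {z : G | ∃ y : ℕ, z = x ^ (T ^ y)} =
      (fun v : (ZMod (orderOf x))ˣ => x ^ ((v : ZMod (orderOf x)).val)) ''
        (zpowers (ZMod.unitOfCoprime T hcop) : Set (ZMod (orderOf x))ˣ) := by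
    ext z
    constructor
    · rintro ⟨j, rfl⟩
      exact ⟨ZMod.unitOfCoprime T hcop ^ j, Subgroup.pow_mem _ (mem_zpowers _) _, hpow j⟩
    · rintro ⟨v, hv, rfl⟩
      have hv' : v ∈ zpowers (ZMod.unitOfCoprime T hcop) := hv
      rw [← mem_powers_iff_mem_zpowers] at hv'
      obtain ⟨j, rfl⟩ := hv'
      exact ⟨j, hpow j⟩
  have hinj : Function.Injective
      (fun v : (ZMod (orderOf x))ˣ => x ^ ((v : ZMod (orderOf x)).val)) := by
    intro v w hvw
    have h1 : ((v : ZMod (orderOf x)).val) = ((w : ZMod (orderOf x)).val) :=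
      pow_injOn_Iio_orderOf (ZMod.val_lt _) (ZMod.val_lt _) hvw
    exact Units.ext (ZMod.val_injective _ h1)
  rw [himg, Set.ncard_image_of_injective _ hinj]
  have h2 : Nat.card (zpowers (ZMod.unitOfCoprime T hcop)) =
      orderOf (ZMod.unitOfCoprime T hcop) := Nat.card_zpowers _
  rw [← h2]
  exact (Nat.card_coe_set_eq _).symm

/-- For `x` of `p`-power order, `p` odd, and `T ≡ 1 (mod p)`: the order of `T` modulo the order
of `x` is the order of `x ^ (T - 1)`. -/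
theorem orderOf_unit_eq_orderOf_pow {G : Type*} [Group G] {p : ℕ} (hp : p.Prime) (hp2 : p ≠ 2)
    (x : G) (hx : ∃ e, orderOf x = p ^ e) (T : ℕ) (hT : 0 < T)
    (hTp : orderOf x ≠ 1 → T % p = 1) (hcop : T.Coprime (orderOf x)) :
    orderOf (ZMod.unitOfCoprime T hcop) = orderOf (x ^ (T - 1)) := by
  rw [orderOf_unitOfCoprime_eq hp hp2 hx hT hTp hcop]
  have hpos : 0 < orderOf x := by
    obtain ⟨e, he⟩ := hx
    rw [he]; exact pow_pos hp.pos e
  by_cases hT1 : T = 1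
  · rw [hT1]
    simp [Nat.div_self hpos]
  · rw [orderOf_pow' _ (by omega)]

/-- Arithmetic: `p ^ n / gcd (p ^ n) k > p ^ (n - s)` when `p ^ s ∤ k` and `s ≤ n`. -/
theorem lt_div_gcd_of_not_dvd {p n s k : ℕ} (hp : p.Prime) (hs : s ≤ n) (hk : ¬ p ^ s ∣ k) :
    p ^ (n - s) < p ^ n / Nat.gcd (p ^ n) k := by
  obtain ⟨e, he, heq⟩ := (Nat.dvd_prime_pow hp).mp (Nat.gcd_dvd_left (p ^ n) k)
  rw [heq, Nat.pow_div he hp.pos]
  apply Nat.pow_lt_pow_right hp.one_lt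
  have hes : e < s := by
    by_contra hcon
    push Not at hcon
    apply hk
    have h1 : p ^ e ∣ k := heq ▸ Nat.gcd_dvd_right (p ^ n) k
    exact dvd_trans (pow_dvd_pow p hcon) h1
  omega

theorem geom_sum_prime_dvd {p : ℕ} (hp : p.Prime) (T : ℕ) (hT : T % p = 1) :
    p ∣ ∑ l ∈ Finset.range p, T ^ l := by
  rw [← ZMod.natCast_eq_zero_iff]
  have h1 : ((T : ℕ) : ZMod p) = 1 := by
    have : ((T : ℕ) : ZMod p) = ((1 : ℕ) : ZMod p) := by
      rw [ZMod.natCast_eq_natCast_iff]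
      show T % p = 1 % p
      rw [hT, Nat.mod_eq_of_lt hp.one_lt]
    simpa using this
  push_cast
  rw [h1]
  simp

theorem geom_sum_prime_pow_dvd {p : ℕ} (hp : p.Prime) (T : ℕ) (hT : T % p = 1) (s : ℕ) :
    p ^ s ∣ ∑ l ∈ Finset.range (p ^ s), T ^ l := by
  induction s with
  | zero => simp
  | succ s ih =>
    by_cases hT1 : T = 1
    · subst hT1; simp
    have hT0 : 0 < T := by
      rcases Nat.eq_zero_or_pos T with h | h
      · rw [h, Nat.zero_mod] at hT; omega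
      · exact h
    have key : (∑ l ∈ Finset.range (p ^ (s + 1)), T ^ l) =
        (∑ l ∈ Finset.range (p ^ s), T ^ l) * (∑ k ∈ Finset.range p, (T ^ (p ^ s)) ^ k) := by
      have hz : ((∑ l ∈ Finset.range (p ^ (s + 1)), T ^ l : ℕ) : ℤ) =
          ((∑ l ∈ Finset.range (p ^ s), T ^ l : ℕ) : ℤ) *
            ((∑ k ∈ Finset.range p, (T ^ (p ^ s)) ^ k : ℕ) : ℤ) := by
        push_cast
        have hne : ((T : ℤ) - 1) ≠ 0 := by
          intro h
          apply hT1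
          have : (T : ℤ) = 1 := by linarith
          exact_mod_cast this
        have hA := geom_sum_mul (T : ℤ) (p ^ (s + 1))
        have hB := geom_sum_mul (T : ℤ) (p ^ s)
        have hC := geom_sum_mul ((T : ℤ) ^ (p ^ s)) p
        apply mul_right_cancel₀ hne
        rw [hA, mul_assoc, mul_comm (∑ k ∈ Finset.range p, ((T : ℤ) ^ (p ^ s)) ^ k), ← mul_assoc, hB,
          mul_comm, hC, ← pow_mul, ← pow_succ]
      exact_mod_cast hz
    rw [key, pow_succ]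
    refine mul_dvd_mul ih (geom_sum_prime_dvd hp _ ?_)
    rw [Nat.pow_mod, hT, one_pow, Nat.mod_eq_of_lt hp.one_lt]

theorem conj_pow_of_conj {G : Type*} [Group G] (y z : G) (T : ℕ) (h : y * z * y⁻¹ = z ^ T)
    (k : ℕ) : y ^ k * z * (y ^ k)⁻¹ = z ^ (T ^ k) := by
  induction k with
  | zero => simp
  | succ k ih =>
    have h1 : y ^ (k + 1) * z * (y ^ (k + 1))⁻¹ = y ^ k * (y * z * y⁻¹) * (y ^ k)⁻¹ := by
      rw [pow_succ]; group
    rw [h1, h, ← conj_pow, ih, ← pow_mul, pow_succ]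

theorem mul_pow_of_conj {G : Type*} [Group G] (y z : G) (T : ℕ) (h : y * z * y⁻¹ = z ^ T)
    (k : ℕ) : (z * y) ^ k = z ^ (∑ l ∈ Finset.range k, T ^ l) * y ^ k := by
  induction k with
  | zero => simp
  | succ k ih =>
    rw [pow_succ, ih, Finset.sum_range_succ, pow_add, ← conj_pow_of_conj y z T h k, pow_succ]
    group

theorem pow_mul_inv_pow {G : Type*} [Group G] (a : G) (T x : ℕ) (hT : 0 < T) :
    a ^ x * (a ^ (T * x))⁻¹ = ((a ^ (T - 1)) ^ x)⁻¹ := by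
  have h : T * x = (T - 1) * x + x := by
    nth_rewrite 1 [show T = (T - 1) + 1 by omega]
    ring
  rw [h, pow_add, mul_inv_rev, mul_inv_cancel_left, pow_mul]

theorem comm_mem_of_mem_closure {G : Type*} [Group G] (W : Subgroup G) [hW : W.Normal] (S : Set G)
    (hS : ∀ x ∈ S, ∀ h : G, h * x * h⁻¹ * x⁻¹ ∈ W) (g : G) (hg : g ∈ closure S) (h : G) :
    h * g * h⁻¹ * g⁻¹ ∈ W := by
  induction hg using Subgroup.closure_induction generalizing h with
  | mem x hx => exact hS x hx h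
  | one => simp
  | mul x y _ _ ihx ihy =>
    have : h * (x * y) * h⁻¹ * (x * y)⁻¹ =
        (h * x * h⁻¹ * x⁻¹) * (x * (h * y * h⁻¹ * y⁻¹) * x⁻¹) := by group
    rw [this]
    exact W.mul_mem (ihx h) (hW.conj_mem _ (ihy h) x)
  | inv x _ ih =>
    have : h * x⁻¹ * h⁻¹ * x⁻¹⁻¹ = x⁻¹ * (h * x * h⁻¹ * x⁻¹)⁻¹ * x⁻¹⁻¹ := by group
    rw [this]
    exact hW.conj_mem _ (W.inv_mem (ih h)) x⁻¹

theorem index_centralizer_le_card {G : Type*} [Group G] [Finite G] (W : Subgroup G) (g : G)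
    (hg : ∀ h : G, h * g * h⁻¹ * g⁻¹ ∈ W) :
    (centralizer ({g} : Set G)).index ≤ Nat.card W := by
  rw [← ncard_conj_eq_index]
  have hsub : {x : G | ∃ c : G, c * g * c⁻¹ = x} ⊆ (fun w => w * g) '' (W : Set G) := by
    rintro x ⟨c, rfl⟩
    exact ⟨c * g * c⁻¹ * g⁻¹, hg c, by group⟩
  calc {x : G | ∃ c : G, c * g * c⁻¹ = x}.ncard
      ≤ ((fun w => w * g) '' (W : Set G)).ncard := Set.ncard_le_ncard hsub (Set.toFinite _)
    _ = (W : Set G).ncard := Set.ncard_image_of_injective _ (mul_left_injective g)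
    _ = Nat.card W := (Nat.card_coe_set_eq _).symm

namespace MCData

variable {G : Type*} [Group G] (D : MCData G)

theorem conj_zpowers_a (i j : ℕ) (z : G) (hz : z ∈ zpowers D.a) :
    (D.a ^ i * D.b ^ j) * z * (D.a ^ i * D.b ^ j)⁻¹ = z ^ (D.t ^ j) := by
  obtain ⟨k, rfl⟩ := mem_zpowers_iff.mp hz
  rw [← conj_zpow, D.conj_a_by, ← zpow_natCast D.a, ← zpow_natCast (D.a ^ k), ← zpow_mul,
    ← zpow_mul, mul_comm]

theorem normal_of_le_zpowers_a (W : Subgroup G) (hW : W ≤ zpowers D.a) : W.Normal := by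
  refine ⟨fun x hx g => ?_⟩
  obtain ⟨i, j, rfl⟩ := D.hgen g
  rw [D.conj_zpowers_a i j x (hW hx)]
  exact W.pow_mem hx _

theorem comm_mem (h y : G) : h * y * h⁻¹ * y⁻¹ ∈ zpowers (D.a ^ (D.t - 1)) := by
  rw [← D.commutator_eq, commutator_def]
  have := Subgroup.commutator_mem_commutator (Subgroup.mem_top h) (Subgroup.mem_top y)
  rwa [commutatorElement_def] at this

theorem zpowers_comm_le : zpowers (D.a ^ (D.t - 1)) ≤ zpowers D.a :=
  zpowers_le.mpr (Subgroup.pow_mem _ (mem_zpowers _) _)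

theorem comm_pow_mem {p : ℕ} [hp : Fact p.Prime] (hG : IsPGroup p G) (s : ℕ) (h y : G) :
    h * y ^ (p ^ s) * h⁻¹ * (y ^ (p ^ s))⁻¹ ∈ zpowers ((D.a ^ (D.t - 1)) ^ (p ^ s)) := by
  have hzc : h * y * h⁻¹ * y⁻¹ ∈ zpowers (D.a ^ (D.t - 1)) := D.comm_mem h y
  have hza : h * y * h⁻¹ * y⁻¹ ∈ zpowers D.a := D.zpowers_comm_le hzc
  obtain ⟨i, j, hy⟩ := D.hgen y
  have hconj : y * (h * y * h⁻¹ * y⁻¹) * y⁻¹ = (h * y * h⁻¹ * y⁻¹) ^ (D.t ^ j) := by
    have := D.conj_zpowers_a i j _ hza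
    rwa [← hy] at this
  have h1 : h * y ^ (p ^ s) * h⁻¹ = ((h * y * h⁻¹ * y⁻¹) * y) ^ (p ^ s) := by
    rw [← conj_pow]; congr 1; group
  rw [h1, mul_pow_of_conj y _ _ hconj, mul_inv_cancel_right]
  by_cases ha1 : orderOf D.a = 1
  · have : D.a = 1 := orderOf_eq_one_iff.mp ha1
    rw [this, zpowers_one_eq_bot, mem_bot] at hza
    rw [hza, one_pow]; exact one_mem _
  · have hT : (D.t ^ j) % p = 1 := by
      rw [Nat.pow_mod, D.t_mod_p hG ha1, one_pow, Nat.mod_eq_of_lt hp.out.one_lt]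
    obtain ⟨σ', hσ⟩ := geom_sum_prime_pow_dvd hp.out _ hT s
    obtain ⟨e, he⟩ := mem_zpowers_iff.mp hzc
    have h2 : ((D.a ^ (D.t - 1)) ^ e) ^ (p ^ s * σ') =
        ((((D.a ^ (D.t - 1)) ^ (p ^ s)) ^ e) ^ σ') := by
      rw [pow_mul, ← zpow_natCast ((D.a ^ (D.t - 1)) ^ e), ← zpow_mul, mul_comm, zpow_mul,
        zpow_natCast]
    rw [hσ, ← he, h2]
    exact Subgroup.pow_mem _ (Subgroup.zpow_mem _ (mem_zpowers _) _) _

variable [Finite G]

theorem le_index_centralizer_of_b (i j : ℕ) :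
    {z : G | ∃ y : ℕ, z = (D.a ^ i) ^ (D.t ^ y)}.ncard ≤
      (centralizer ({D.a ^ i * D.b ^ j} : Set G)).index := by
  rw [← ncard_conj_eq_index]
  have hsub : (fun w => w * D.b ^ j) '' {z : G | ∃ y : ℕ, z = (D.a ^ i) ^ (D.t ^ y)} ⊆
      {x | ∃ c, c * (D.a ^ i * D.b ^ j) * c⁻¹ = x} := by
    rintro _ ⟨z, ⟨y, rfl⟩, rfl⟩
    refine ⟨D.b ^ y, ?_⟩
    have h1 : D.b ^ y * (D.a ^ i * D.b ^ j) * (D.b ^ y)⁻¹ =
        (D.b ^ y * D.a ^ i * (D.b ^ y)⁻¹) * (D.b ^ y * D.b ^ j * (D.b ^ y)⁻¹) := by group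
    have hb : D.b ^ y * D.b ^ j * (D.b ^ y)⁻¹ = D.b ^ j := by
      rw [← pow_add, add_comm, pow_add, mul_inv_cancel_right]
    rw [h1, D.conj_bpow_apow, hb, ← pow_mul, mul_comm]
  calc {z : G | ∃ y : ℕ, z = (D.a ^ i) ^ (D.t ^ y)}.ncard
      = ((fun w => w * D.b ^ j) '' {z : G | ∃ y : ℕ, z = (D.a ^ i) ^ (D.t ^ y)}).ncard :=
        (Set.ncard_image_of_injective _ (mul_left_injective _)).symm
    _ ≤ _ := Set.ncard_le_ncard hsub (Set.toFinite _)

theorem le_index_centralizer_of_a (i j : ℕ) :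
    orderOf (D.a ^ (D.t ^ j - 1)) ≤ (centralizer ({D.a ^ i * D.b ^ j} : Set G)).index := by
  rw [← ncard_conj_eq_index]
  have hT : 0 < D.t ^ j := pow_pos D.ht j
  have hsub : (fun w => w * (D.a ^ i * D.b ^ j)) '' (zpowers (D.a ^ (D.t ^ j - 1)) : Set G) ⊆
      {x | ∃ c, c * (D.a ^ i * D.b ^ j) * c⁻¹ = x} := by
    rintro _ ⟨w, hw, rfl⟩
    have hw' : w⁻¹ ∈ zpowers (D.a ^ (D.t ^ j - 1)) := Subgroup.inv_mem _ hw
    rw [← mem_powers_iff_mem_zpowers] at hw'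
    obtain ⟨x, hx⟩ := hw'
    have hx' : (D.a ^ (D.t ^ j - 1)) ^ x = w⁻¹ := hx
    refine ⟨D.a ^ x, ?_⟩
    have h2 : D.b ^ j * (D.a ^ x)⁻¹ = (D.a ^ (D.t ^ j * x))⁻¹ * D.b ^ j := by
      rw [← D.conj_bpow_apow]; group
    have hc : D.a ^ i * (D.a ^ (D.t ^ j * x))⁻¹ = (D.a ^ (D.t ^ j * x))⁻¹ * D.a ^ i :=
      (((Commute.refl D.a).pow_pow i (D.t ^ j * x)).inv_right).eq
    calc D.a ^ x * (D.a ^ i * D.b ^ j) * (D.a ^ x)⁻¹
        = D.a ^ x * D.a ^ i * (D.b ^ j * (D.a ^ x)⁻¹) := by group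
      _ = D.a ^ x * (D.a ^ i * (D.a ^ (D.t ^ j * x))⁻¹) * D.b ^ j := by rw [h2]; group
      _ = (D.a ^ x * (D.a ^ (D.t ^ j * x))⁻¹) * (D.a ^ i * D.b ^ j) := by rw [hc]; group
      _ = w * (D.a ^ i * D.b ^ j) := by rw [pow_mul_inv_pow _ _ _ hT, hx', inv_inv]
  calc orderOf (D.a ^ (D.t ^ j - 1)) = Nat.card (zpowers (D.a ^ (D.t ^ j - 1))) :=
        (Nat.card_zpowers _).symm
    _ = (zpowers (D.a ^ (D.t ^ j - 1)) : Set G).ncard := Nat.card_coe_set_eq _
    _ = ((fun w => w * (D.a ^ i * D.b ^ j)) '' (zpowers (D.a ^ (D.t ^ j - 1)) : Set G)).ncard :=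
        (Set.ncard_image_of_injective _ (mul_left_injective _)).symm
    _ ≤ _ := Set.ncard_le_ncard hsub (Set.toFinite _)

theorem unitOfCoprime_pow_eq (j : ℕ) :
    ZMod.unitOfCoprime (D.t ^ j) (Nat.Coprime.pow_left j D.coprime_t) = D.u ^ j := by
  ext
  simp [u]

theorem mem_closure_pow_iff {p : ℕ} [hp : Fact p.Prime] (hp2 : p ≠ 2) (hG : IsPGroup p G)
    (n : ℕ) (hGn : orderOf (D.a ^ (D.t - 1)) = p ^ n) (s : ℕ) (hs : s ≤ n) (g : G) :
    g ∈ Subgroup.closure {x : G | ∃ y : G, y ^ p ^ s = x} ↔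
      (Subgroup.centralizer ({g} : Set G)).index ≤ p ^ (n - s) := by
  have hpa : ∃ m, orderOf D.a = p ^ m := (IsPGroup.iff_orderOf.mp hG) D.a
  constructor
  · intro hg
    have hWn : (zpowers ((D.a ^ (D.t - 1)) ^ (p ^ s))).Normal :=
      D.normal_of_le_zpowers_a _
        (zpowers_le.mpr (Subgroup.pow_mem _ (D.zpowers_comm_le (mem_zpowers _)) _))
    have h1 := index_centralizer_le_card (zpowers ((D.a ^ (D.t - 1)) ^ (p ^ s))) g
      (comm_mem_of_mem_closure _ _ (by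
        rintro x ⟨y, rfl⟩ h
        exact D.comm_pow_mem hG s h y) g hg)
    rw [Nat.card_zpowers, orderOf_pow' _ (pow_pos hp.out.pos s).ne', hGn,
      Nat.gcd_eq_right (pow_dvd_pow p hs), Nat.pow_div hs hp.out.pos] at h1
    exact h1
  · intro hidx
    by_contra hg
    obtain ⟨i, j, rfl⟩ := D.hgen g
    have hij : ¬ (p ^ s ∣ i ∧ p ^ s ∣ j) := by
      rintro ⟨⟨i', rfl⟩, ⟨j', rfl⟩⟩
      apply hg
      rw [pow_mul', pow_mul']
      exact Subgroup.mul_mem _ (Subgroup.subset_closure ⟨_, rfl⟩) (Subgroup.subset_closure ⟨_, rfl⟩)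
    have ht1 : orderOf D.a ≠ 1 → D.t % p = 1 := D.t_mod_p hG
    by_cases hi : p ^ s ∣ i
    · have hj : ¬ p ^ s ∣ j := fun h => hij ⟨hi, h⟩
      have hj0 : j ≠ 0 := by rintro rfl; exact hj (dvd_zero _)
      have h1 := D.le_index_centralizer_of_a i j
      have hTp : orderOf D.a ≠ 1 → D.t ^ j % p = 1 := by
        intro h
        rw [Nat.pow_mod, ht1 h, one_pow, Nat.mod_eq_of_lt hp.out.one_lt]
      rw [← orderOf_unit_eq_orderOf_pow hp.out hp2 D.a hpa (D.t ^ j) (pow_pos D.ht j) hTp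
        (Nat.Coprime.pow_left j D.coprime_t), D.unitOfCoprime_pow_eq, orderOf_pow' _ hj0,
        D.orderOf_u_eq hp2 hG, hGn] at h1
      have h2 := lt_div_gcd_of_not_dvd hp.out hs hj
      omega
    · have hi0 : i ≠ 0 := by rintro rfl; exact hi (dvd_zero _)
      have h1 := D.le_index_centralizer_of_b i j
      have hcop : Nat.Coprime D.t (orderOf (D.a ^ i)) :=
        Nat.Coprime.coprime_dvd_right (orderOf_pow_dvd i) D.coprime_t
      have hpai : ∃ e, orderOf (D.a ^ i) = p ^ e := (IsPGroup.iff_orderOf.mp hG) (D.a ^ i)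
      have hTp : orderOf (D.a ^ i) ≠ 1 → D.t % p = 1 := by
        intro h
        apply ht1
        intro h1
        apply h
        rw [orderOf_eq_one_iff] at h1 ⊢
        rw [h1, one_pow]
      rw [ncard_pow_pow_orbit (D.a ^ i) (orderOf_pos _) D.t hcop,
        orderOf_unit_eq_orderOf_pow hp.out hp2 (D.a ^ i) hpai D.t D.ht hTp hcop,
        ← pow_mul, mul_comm, pow_mul, orderOf_pow' _ hi0, hGn] at h1
      have h2 := lt_div_gcd_of_not_dvd hp.out hs hi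
      omega

end MCData

end Cfsg.Agent.Helper64
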