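import Mathlib
import Cfsg.Agent.Lib.Helper64.Metacyclic2

set_option autoImplicit false

namespace Cfsg.Agent.Helper64

open Subgroup

/-- Number of multiples of `d` below `d * q`. -/
theorem card_filter_dvd_range (d q : ℕ) (hd : 0 < d) :
    ((Finset.range (d * q)).filter (fun i => d ∣ i)).card = q := by
  have h : (Finset.range (d * q)).filter (fun i => d ∣ i) = (Finset.range q).image (fun i => d * i) := by
    ext x
    simp only [Finset.mem_filter, Finset.mem_range, Finset.mem_image]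
    constructor
    · rintro ⟨hx, ⟨y, rfl⟩⟩
      exact ⟨y, lt_of_mul_lt_mul_left hx (Nat.zero_le d), rfl⟩
    · rintro ⟨y, hy, rfl⟩
      exact ⟨Nat.mul_lt_mul_of_pos_left hy hd |>.trans_le le_rfl, dvd_mul_right _ _⟩
  rw [h, Finset.card_image_of_injective _ (fun x y hxy => Nat.eq_of_mul_eq_mul_left hd hxy),
    Finset.card_range]

namespace MCData

variable {G : Type*} [Group G] [Finite G] (D : MCData G)

/-- `b ^ j ∈ ⟨a⟩` iff the index of `⟨a⟩` divides `j`. -/
theorem bpow_mem_iff (j : ℕ) : D.b ^ j ∈ zpowers D.a ↔ (zpowers D.a).index ∣ j := by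
  haveI := D.normal_zpowers_a
  have hgen : ∀ q : G ⧸ zpowers D.a, q ∈ zpowers (QuotientGroup.mk D.b : G ⧸ zpowers D.a) := by
    intro q
    obtain ⟨g, rfl⟩ := QuotientGroup.mk_surjective q
    obtain ⟨i, j, rfl⟩ := D.hgen g
    rw [QuotientGroup.mk_mul, QuotientGroup.mk_pow, QuotientGroup.mk_pow,
      (QuotientGroup.eq_one_iff _).mpr (mem_zpowers D.a), one_pow, one_mul]
    exact Subgroup.pow_mem _ (mem_zpowers _) _
  have hord : orderOf (QuotientGroup.mk D.b : G ⧸ zpowers D.a) = (zpowers D.a).index := by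
    rw [orderOf_eq_card_of_forall_mem_zpowers hgen, Subgroup.index_eq_card]
  rw [← hord, orderOf_dvd_iff_pow_eq_one, ← QuotientGroup.mk_pow, QuotientGroup.eq_one_iff]

theorem card_eq : Nat.card G = orderOf D.a * (zpowers D.a).index := by
  rw [← Nat.card_zpowers, Subgroup.card_mul_index]

theorem coord_injOn : Set.InjOn (fun ij : ℕ × ℕ => D.a ^ ij.1 * D.b ^ ij.2)
    ((Finset.range (orderOf D.a) ×ˢ Finset.range (zpowers D.a).index : Finset (ℕ × ℕ)) :
      Set (ℕ × ℕ)) := by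
  rintro ⟨i, j⟩ hij ⟨i', j'⟩ hij' h
  simp only [Finset.coe_product, Finset.coe_range, Set.mem_prod, Set.mem_Iio] at hij hij'
  simp only at h
  have key : ∀ i j i' j' : ℕ, j ≤ j' → j' < (zpowers D.a).index →
      D.a ^ i * D.b ^ j = D.a ^ i' * D.b ^ j' → j = j' := by
    intro i j i' j' hle hlt h
    have h1 : D.b ^ (j' - j) ∈ zpowers D.a := by
      have h2 : D.b ^ (j' - j) = (D.a ^ i')⁻¹ * D.a ^ i := by
        have h3 : D.b ^ j' = D.b ^ (j' - j) * D.b ^ j := by
          rw [← pow_add, Nat.sub_add_cancel hle]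
        rw [h3] at h
        have h4 : D.a ^ i = D.a ^ i' * D.b ^ (j' - j) := by
          have := congrArg (· * (D.b ^ j)⁻¹) h
          simpa [mul_assoc] using this
        rw [h4]; group
      rw [h2]
      exact Subgroup.mul_mem _ (Subgroup.inv_mem _ (Subgroup.pow_mem _ (mem_zpowers _) _))
        (Subgroup.pow_mem _ (mem_zpowers _) _)
    rw [D.bpow_mem_iff] at h1
    have h5 : j' - j = 0 := Nat.eq_zero_of_dvd_of_lt h1 (by omega)
    omega
  have hj : j = j' := by
    rcases le_total j j' with hle | hle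
    · exact key i j i' j' hle hij'.2 h
    · exact (key i' j' i j hle hij.2 h.symm).symm
  subst hj
  have hi : D.a ^ i = D.a ^ i' := mul_right_cancel h
  have hi' : i = i' := pow_injOn_Iio_orderOf hij.1 hij'.1 hi
  rw [hi']

theorem coord_image : (fun ij : ℕ × ℕ => D.a ^ ij.1 * D.b ^ ij.2) ''
    ((Finset.range (orderOf D.a) ×ˢ Finset.range (zpowers D.a).index : Finset (ℕ × ℕ)) :
      Set (ℕ × ℕ)) = Set.univ := by
  apply Set.eq_of_subset_of_ncard_le (Set.subset_univ _) _ (Set.toFinite _)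
  rw [Set.ncard_image_of_injOn D.coord_injOn, Set.ncard_coe_finset, Finset.card_product,
    Finset.card_range, Finset.card_range, Set.ncard_univ, D.card_eq]

/-- Counting a subset of `G` in coordinates. -/
theorem ncard_eq_card_filter (S : Set G) [DecidablePred (fun ij : ℕ × ℕ => D.a ^ ij.1 * D.b ^ ij.2 ∈ S)] :
    S.ncard = ((Finset.range (orderOf D.a) ×ˢ Finset.range (zpowers D.a).index).filter
      (fun ij : ℕ × ℕ => D.a ^ ij.1 * D.b ^ ij.2 ∈ S)).card := by
  have h1 : S = (fun ij : ℕ × ℕ => D.a ^ ij.1 * D.b ^ ij.2) ''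
      (((Finset.range (orderOf D.a) ×ˢ Finset.range (zpowers D.a).index).filter
      (fun ij : ℕ × ℕ => D.a ^ ij.1 * D.b ^ ij.2 ∈ S) : Finset (ℕ × ℕ)) : Set (ℕ × ℕ)) := by
    ext g
    constructor
    · intro hg
      have : g ∈ (fun ij : ℕ × ℕ => D.a ^ ij.1 * D.b ^ ij.2) ''
          ((Finset.range (orderOf D.a) ×ˢ Finset.range (zpowers D.a).index : Finset (ℕ × ℕ)) :
            Set (ℕ × ℕ)) := by
        rw [D.coord_image]; exact Set.mem_univ _
      obtain ⟨ij, hij, rfl⟩ := this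
      refine ⟨ij, ?_, rfl⟩
      rw [Finset.mem_coe, Finset.mem_filter]
      exact ⟨hij, hg⟩
    · rintro ⟨ij, hij, rfl⟩
      rw [Finset.mem_coe, Finset.mem_filter] at hij
      exact hij.2
  conv_lhs => rw [h1]
  rw [Set.ncard_image_of_injOn, Set.ncard_coe_finset]
  exact D.coord_injOn.mono (by
    intro x hx
    rw [Finset.mem_coe, Finset.mem_filter] at hx
    exact hx.1)

theorem orderOf_u_dvd_index : orderOf D.u ∣ (zpowers D.a).index := by
  have : NeZero (orderOf D.a) := ⟨(orderOf_pos _).ne'⟩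
  rw [orderOf_dvd_iff_pow_eq_one]
  have h1 : D.b ^ (zpowers D.a).index ∈ zpowers D.a := (D.bpow_mem_iff _).mpr dvd_rfl
  obtain ⟨k, hk⟩ := mem_zpowers_iff.mp h1
  have h2 : D.b ^ (zpowers D.a).index * D.a * (D.b ^ (zpowers D.a).index)⁻¹ = D.a := by
    rw [← hk]
    have : Commute (D.a ^ k) D.a := (Commute.refl D.a).zpow_left k
    rw [this.eq, mul_inv_cancel_right]
  rw [D.conj_bpow_a] at h2
  have h3 : D.a ^ (D.t ^ (zpowers D.a).index) = D.a ^ 1 := by rw [h2, pow_one]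
  rw [pow_eq_pow_iff_modEq] at h3
  ext
  rw [Units.val_pow_eq_pow_val, u, ZMod.coe_unitOfCoprime, Units.val_one]
  have h4 := (ZMod.natCast_eq_natCast_iff _ _ _).mpr h3
  push_cast at h4
  exact h4

theorem lt_index_of_not_dvd {p : ℕ} [hp : Fact p.Prime] (hp2 : p ≠ 2) (hG : IsPGroup p G)
    (n : ℕ) (hGn : orderOf (D.a ^ (D.t - 1)) = p ^ n) (s : ℕ) (hs : s ≤ n) (i j : ℕ)
    (hij : ¬ (p ^ s ∣ i ∧ p ^ s ∣ j)) :
    p ^ (n - s) < (Subgroup.centralizer ({D.a ^ i * D.b ^ j} : Set G)).index := by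
  have hpa : ∃ m, orderOf D.a = p ^ m := (IsPGroup.iff_orderOf.mp hG) D.a
  have ht1 : orderOf D.a ≠ 1 → D.t % p = 1 := D.t_mod_p hG
  by_cases hi : p ^ s ∣ i
  · have hj : ¬ p ^ s ∣ j := fun h => hij ⟨hi, h⟩
    have hj0 : j ≠ 0 := by rintro rfl; exact hj (dvd_zero _)
    have h1 := D.le_index_centralizer_of_a i j
    have hTp : orderOf D.a ≠ 1 → D.t ^ j % p = 1 := by
      intro h
      rw [Nat.pow_mod, ht1 h, one_pow, Nat.mod_eq_of_lt hp.out.one_lt]
    rw [← orderOf_unit_eq_orderOf_pow hp.out hp2 D.a hpa (D.t ^ j) (pow_pos D.ht j) hTp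
      (Nat.Coprime.pow_left j D.coprime_t), D.unitOfCoprime_pow_eq, orderOf_pow' _ hj0,
      D.orderOf_u_eq hp2 hG, hGn] at h1
    have h2 := lt_div_gcd_of_not_dvd hp.out hs hj
    omega
  · have hi0 : i ≠ 0 := by rintro rfl; exact hi (dvd_zero _)
    have h1 := D.le_index_centralizer_of_b i j
    have hcop : Nat.Coprime D.t (orderOf (D.a ^ i)) :=
      Nat.Coprime.coprime_dvd_right (orderOf_pow_dvd i) D.coprime_t
    have hpai : ∃ e, orderOf (D.a ^ i) = p ^ e := (IsPGroup.iff_orderOf.mp hG) (D.a ^ i)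
    have hTp : orderOf (D.a ^ i) ≠ 1 → D.t % p = 1 := by
      intro h
      apply ht1
      intro h1
      apply h
      rw [orderOf_eq_one_iff] at h1 ⊢
      rw [h1, one_pow]
    rw [ncard_pow_pow_orbit (D.a ^ i) (orderOf_pos _) D.t hcop,
      orderOf_unit_eq_orderOf_pow hp.out hp2 (D.a ^ i) hpai D.t D.ht hTp hcop,
      ← pow_mul, mul_comm, pow_mul, orderOf_pow' _ hi0, hGn] at h1
    have h2 := lt_div_gcd_of_not_dvd hp.out hs hi
    omega

theorem mem_agemo_iff {p : ℕ} [hp : Fact p.Prime] (hp2 : p ≠ 2) (hG : IsPGroup p G)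
    (n : ℕ) (hGn : orderOf (D.a ^ (D.t - 1)) = p ^ n) (s : ℕ) (hs : s ≤ n) (i j : ℕ) :
    D.a ^ i * D.b ^ j ∈ Subgroup.closure {x : G | ∃ y : G, y ^ p ^ s = x} ↔
      p ^ s ∣ i ∧ p ^ s ∣ j := by
  constructor
  · intro h
    by_contra hij
    have h1 := (D.mem_closure_pow_iff hp2 hG n hGn s hs _).mp h
    have h2 := D.lt_index_of_not_dvd hp2 hG n hGn s hs i j hij
    omega
  · rintro ⟨⟨i', rfl⟩, ⟨j', rfl⟩⟩
    rw [pow_mul', pow_mul']
    exact Subgroup.mul_mem _ (Subgroup.subset_closure ⟨_, rfl⟩) (Subgroup.subset_closure ⟨_, rfl⟩)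

theorem ncard_agemo {p : ℕ} [hp : Fact p.Prime] (hp2 : p ≠ 2) (hG : IsPGroup p G)
    (n : ℕ) (hGn : orderOf (D.a ^ (D.t - 1)) = p ^ n) (s : ℕ) (hs : s ≤ n) :
    ((Subgroup.closure {x : G | ∃ y : G, y ^ p ^ s = x} : Subgroup G) : Set G).ncard *
      (p ^ s * p ^ s) = Nat.card G := by
  classical
  have hM : p ^ s ∣ orderOf D.a := by
    have h1 : p ^ n ∣ orderOf D.a := hGn ▸ orderOf_pow_dvd (D.t - 1)
    exact dvd_trans (pow_dvd_pow p hs) h1
  have hK : p ^ s ∣ (zpowers D.a).index := by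
    have h1 : p ^ n ∣ (zpowers D.a).index := by
      have := D.orderOf_u_dvd_index
      rwa [D.orderOf_u_eq hp2 hG, hGn] at this
    exact dvd_trans (pow_dvd_pow p hs) h1
  obtain ⟨M', hM'⟩ := hM
  obtain ⟨K', hK'⟩ := hK
  have hps : 0 < p ^ s := pow_pos hp.out.pos s
  rw [D.ncard_eq_card_filter]
  have hfilt : ((Finset.range (orderOf D.a) ×ˢ Finset.range (zpowers D.a).index).filter
      (fun ij : ℕ × ℕ => D.a ^ ij.1 * D.b ^ ij.2 ∈
        ((Subgroup.closure {x : G | ∃ y : G, y ^ p ^ s = x} : Subgroup G) : Set G))) =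
      ((Finset.range (orderOf D.a)).filter (fun i => p ^ s ∣ i)) ×ˢ
        ((Finset.range (zpowers D.a).index).filter (fun j => p ^ s ∣ j)) := by
    ext ⟨i, j⟩
    simp only [Finset.mem_filter, Finset.mem_product, SetLike.mem_coe,
      D.mem_agemo_iff hp2 hG n hGn s hs]
    tauto
  rw [hfilt, Finset.card_product, D.card_eq]
  rw [hM', hK', card_filter_dvd_range _ _ hps, card_filter_dvd_range _ _ hps]
  ring

end MCData

end Cfsg.Agent.Helper64
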