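import Mathlib
import Cfsg.Agent.Lib.Helper64.Metacyclic3

set_option autoImplicit false

namespace Cfsg.Agent.Helper64

open Subgroup

/-- `gcd (p^n) j` in terms of `gcd (p^k) j` for `n ≤ k`. -/
theorem gcd_pow_of_gcd_pow {p : ℕ} (hp : p.Prime) {n k vj j : ℕ} (hnk : n ≤ k)
    (hv : Nat.gcd (p ^ k) j = p ^ vj) : Nat.gcd (p ^ n) j = p ^ (min n vj) := by
  have h1 : Nat.gcd (p ^ n) j = Nat.gcd (p ^ n) (Nat.gcd (p ^ k) j) := by
    rw [← Nat.gcd_assoc, Nat.gcd_eq_left (pow_dvd_pow p hnk)]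
  rw [h1, hv]
  rcases le_total n vj with h | h
  · rw [min_eq_left h, Nat.gcd_eq_left (pow_dvd_pow p h)]
  · rw [min_eq_right h, Nat.gcd_eq_right (pow_dvd_pow p h)]

theorem mc_arith1 {p : ℕ} (hp : p.Prime) (m k n j : ℕ) (hnm : n ≤ m) (hnk : n ≤ k) :
    (p ^ m / Nat.gcd (p ^ m) (p ^ n / Nat.gcd (p ^ n) j)) * (p ^ k / Nat.gcd (p ^ k) j) * p ^ n ≤
      p ^ m * p ^ k := by
  obtain ⟨vj, hvjk, hvj⟩ := (Nat.dvd_prime_pow hp).mp (Nat.gcd_dvd_left (p ^ k) j)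
  have h1 := gcd_pow_of_gcd_pow hp hnk hvj
  rw [h1, hvj, Nat.pow_div (min_le_left _ _) hp.pos,
    Nat.gcd_eq_right (pow_dvd_pow p (by omega : n - min n vj ≤ m)),
    Nat.pow_div (by omega) hp.pos, Nat.pow_div hvjk hp.pos, ← pow_add, ← pow_add, ← pow_add]
  apply Nat.pow_le_pow_right hp.pos
  rcases le_total n vj with h | h
  · rw [min_eq_left h]; omega
  · rw [min_eq_right h]; omega

theorem mc_arith2 {p : ℕ} (hp : p.Prime) (m k n j x : ℕ) (hnm : n ≤ m) (hnk : n ≤ k)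
    (hx : ¬ (p ^ n / Nat.gcd (p ^ n) j) ∣ x) :
    p ^ m * p ^ k < (p ^ m / Nat.gcd (p ^ m) x) * (p ^ k / Nat.gcd (p ^ k) j) * p ^ n := by
  obtain ⟨vj, hvjk, hvj⟩ := (Nat.dvd_prime_pow hp).mp (Nat.gcd_dvd_left (p ^ k) j)
  obtain ⟨vx, hvxm, hvx⟩ := (Nat.dvd_prime_pow hp).mp (Nat.gcd_dvd_left (p ^ m) x)
  have h1 := gcd_pow_of_gcd_pow hp hnk hvj
  rw [h1, Nat.pow_div (min_le_left _ _) hp.pos] at hx
  have h2 : vx < n - min n vj := by
    by_contra hcon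
    push Not at hcon
    apply hx
    have h3 : p ^ vx ∣ x := hvx ▸ Nat.gcd_dvd_right (p ^ m) x
    exact dvd_trans (pow_dvd_pow p hcon) h3
  rw [hvx, hvj, Nat.pow_div hvxm hp.pos, Nat.pow_div hvjk hp.pos, ← pow_add, ← pow_add, ← pow_add]
  apply Nat.pow_lt_pow_right hp.one_lt
  rcases le_total n vj with h | h
  · rw [min_eq_left h] at h2; omega
  · rw [min_eq_right h] at h2; omega

namespace MCData

variable {G : Type*} [Group G] (D : MCData G)

theorem quot_gen [(zpowers D.a).Normal] (q : G ⧸ zpowers D.a) :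
    q ∈ zpowers (QuotientGroup.mk D.b : G ⧸ zpowers D.a) := by
  obtain ⟨g, rfl⟩ := QuotientGroup.mk_surjective q
  obtain ⟨i, j, rfl⟩ := D.hgen g
  rw [QuotientGroup.mk_mul, QuotientGroup.mk_pow, QuotientGroup.mk_pow,
    (QuotientGroup.eq_one_iff _).mpr (mem_zpowers D.a), one_pow, one_mul]
  exact Subgroup.pow_mem _ (mem_zpowers _) _

theorem orderOf_mk_b [(zpowers D.a).Normal] :
    orderOf (QuotientGroup.mk D.b : G ⧸ zpowers D.a) = (zpowers D.a).index := by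
  rw [orderOf_eq_card_of_forall_mem_zpowers D.quot_gen, Subgroup.index_eq_card]

theorem conj_by_apow (i j x : ℕ) :
    D.a ^ x * (D.a ^ i * D.b ^ j) * (D.a ^ x)⁻¹ =
      ((D.a ^ (D.t ^ j - 1)) ^ x)⁻¹ * (D.a ^ i * D.b ^ j) := by
  have hT : 0 < D.t ^ j := pow_pos D.ht j
  have h2 : D.b ^ j * (D.a ^ x)⁻¹ = (D.a ^ (D.t ^ j * x))⁻¹ * D.b ^ j := by
    rw [← D.conj_bpow_apow]; group
  have hc : D.a ^ i * (D.a ^ (D.t ^ j * x))⁻¹ = (D.a ^ (D.t ^ j * x))⁻¹ * D.a ^ i :=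
    (((Commute.refl D.a).pow_pow i (D.t ^ j * x)).inv_right).eq
  calc D.a ^ x * (D.a ^ i * D.b ^ j) * (D.a ^ x)⁻¹
      = D.a ^ x * D.a ^ i * (D.b ^ j * (D.a ^ x)⁻¹) := by group
    _ = D.a ^ x * (D.a ^ i * (D.a ^ (D.t ^ j * x))⁻¹) * D.b ^ j := by rw [h2]; group
    _ = (D.a ^ x * (D.a ^ (D.t ^ j * x))⁻¹) * (D.a ^ i * D.b ^ j) := by rw [hc]; group
    _ = _ := by rw [pow_mul_inv_pow _ _ _ hT]

theorem commute_apow_iff (i j x : ℕ) :
    Commute (D.a ^ x) (D.a ^ i * D.b ^ j) ↔ orderOf (D.a ^ (D.t ^ j - 1)) ∣ x := by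
  rw [orderOf_dvd_iff_pow_eq_one]
  have h := D.conj_by_apow i j x
  constructor
  · intro hc
    have h1 : D.a ^ x * (D.a ^ i * D.b ^ j) * (D.a ^ x)⁻¹ = D.a ^ i * D.b ^ j := by
      rw [hc.eq, mul_inv_cancel_right]
    rw [h1] at h
    have h2 : 1 * (D.a ^ i * D.b ^ j) = ((D.a ^ (D.t ^ j - 1)) ^ x)⁻¹ * (D.a ^ i * D.b ^ j) := by
      rw [one_mul]; exact h
    have h3 := mul_right_cancel h2
    rw [eq_comm, inv_eq_one] at h3
    exact h3
  · intro hx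
    rw [hx, inv_one, one_mul] at h
    exact mul_inv_eq_iff_eq_mul.mp h

variable [Finite G]

theorem orderOf_apow_T {p : ℕ} [hp : Fact p.Prime] (hp2 : p ≠ 2) (hG : IsPGroup p G)
    (n : ℕ) (hGn : orderOf (D.a ^ (D.t - 1)) = p ^ n) (j : ℕ) :
    orderOf (D.a ^ (D.t ^ j - 1)) = p ^ n / Nat.gcd (p ^ n) j := by
  have hpa : ∃ m, orderOf D.a = p ^ m := (IsPGroup.iff_orderOf.mp hG) D.a
  have ht1 : orderOf D.a ≠ 1 → D.t % p = 1 := D.t_mod_p hG
  have hTp : orderOf D.a ≠ 1 → D.t ^ j % p = 1 := by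
    intro h
    rw [Nat.pow_mod, ht1 h, one_pow, Nat.mod_eq_of_lt hp.out.one_lt]
  rw [← orderOf_unit_eq_orderOf_pow hp.out hp2 D.a hpa (D.t ^ j) (pow_pos D.ht j) hTp
    (Nat.Coprime.pow_left j D.coprime_t), D.unitOfCoprime_pow_eq, orderOf_pow,
    D.orderOf_u_eq hp2 hG, hGn]

theorem exists_gen_mod_A (L : Subgroup G) : ∃ e j : ℕ, D.a ^ e * D.b ^ j ∈ L ∧
    (∀ l ∈ L, ∃ k : ℕ, l * ((D.a ^ e * D.b ^ j) ^ k)⁻¹ ∈ zpowers D.a) ∧
    Nat.card L = Nat.card (L ⊓ zpowers D.a : Subgroup G) *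
      ((zpowers D.a).index / Nat.gcd (zpowers D.a).index j) := by
  haveI := D.normal_zpowers_a
  haveI : IsCyclic (G ⧸ zpowers D.a) := ⟨⟨_, D.quot_gen⟩⟩
  obtain ⟨⟨q, hqL⟩, hq⟩ :=
    IsCyclic.exists_generator (α := L.map (QuotientGroup.mk' (zpowers D.a)))
  obtain ⟨c, hcL, hcq⟩ := Subgroup.mem_map.mp hqL
  obtain ⟨e, j, hc⟩ := D.hgen c
  refine ⟨e, j, hc ▸ hcL, ?_, ?_⟩
  · intro l hl
    have h1 := hq ⟨QuotientGroup.mk' _ l, Subgroup.mem_map_of_mem _ hl⟩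
    rw [← mem_powers_iff_mem_zpowers] at h1
    obtain ⟨k, hk⟩ := h1
    refine ⟨k, ?_⟩
    have h2 : (QuotientGroup.mk' (zpowers D.a)) c ^ k = QuotientGroup.mk' _ l := by
      have := congrArg Subtype.val hk
      simpa [hcq] using this
    rw [← hc]
    have h3 : (QuotientGroup.mk' (zpowers D.a)) (l * (c ^ k)⁻¹) = 1 := by
      rw [map_mul, map_inv, map_pow, h2, mul_inv_cancel]
    exact (QuotientGroup.eq_one_iff _).mp h3
  · have h1 : Nat.card (L ⊓ zpowers D.a : Subgroup G) * (zpowers D.a).relIndex L = Nat.card L := by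
      have := Subgroup.relIndex_mul_relIndex ⊥ (L ⊓ zpowers D.a) L bot_le inf_le_left
      rwa [Subgroup.relIndex_bot_left, Subgroup.relIndex_bot_left,
        Subgroup.inf_relIndex_left] at this
    have h2 : (zpowers D.a).relIndex L = Nat.card (L.map (QuotientGroup.mk' (zpowers D.a))) := by
      have := Subgroup.relIndex_ker (K := L) (QuotientGroup.mk' (zpowers D.a))
      rwa [QuotientGroup.ker_mk'] at this
    have h3 : Nat.card (L.map (QuotientGroup.mk' (zpowers D.a))) = orderOf q := by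
      rw [← orderOf_eq_card_of_forall_mem_zpowers hq, ← Subgroup.orderOf_coe]
    have h4 : q = (QuotientGroup.mk D.b : G ⧸ zpowers D.a) ^ j := by
      rw [← hcq, hc, QuotientGroup.mk'_apply, QuotientGroup.mk_mul, QuotientGroup.mk_pow,
        QuotientGroup.mk_pow, (QuotientGroup.eq_one_iff _).mpr (mem_zpowers D.a), one_pow, one_mul]
    rw [← h1, h2, h3, h4, orderOf_pow, D.orderOf_mk_b]

include D in
theorem abelian_iff_card_le {p : ℕ} [hp : Fact p.Prime] (hp2 : p ≠ 2) (hG : IsPGroup p G)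
    (L : Subgroup G) : IsMulCommutative ↥L ↔ Nat.card ↥L ≤ (commutator G).index := by
  obtain ⟨n, hGn⟩ : ∃ n, orderOf (D.a ^ (D.t - 1)) = p ^ n := (IsPGroup.iff_orderOf.mp hG) _
  obtain ⟨m, hm⟩ : ∃ m, orderOf D.a = p ^ m := (IsPGroup.iff_orderOf.mp hG) _
  obtain ⟨k, hk⟩ : ∃ k, (zpowers D.a).index = p ^ k := by
    obtain ⟨N, hN⟩ := IsPGroup.iff_card.mp hG
    have h1 : (zpowers D.a).index ∣ p ^ N := hN ▸ Subgroup.index_dvd_card _
    obtain ⟨e, _, he⟩ := (Nat.dvd_prime_pow hp.out).mp h1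
    exact ⟨e, he⟩
  have hnm : n ≤ m := by
    have h1 : p ^ n ∣ p ^ m := by rw [← hGn, ← hm]; exact orderOf_pow_dvd _
    exact (Nat.pow_dvd_pow_iff_le_right hp.out.one_lt).mp h1
  have hnk : n ≤ k := by
    have h1 : p ^ n ∣ p ^ k := by
      have := D.orderOf_u_dvd_index
      rwa [D.orderOf_u_eq hp2 hG, hGn, hk] at this
    exact (Nat.pow_dvd_pow_iff_le_right hp.out.one_lt).mp h1
  have hidx : (commutator G).index * p ^ n = p ^ m * p ^ k := by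
    rw [← hm, ← hk, ← D.card_eq, ← hGn, ← Nat.card_zpowers, ← D.commutator_eq,
      Subgroup.index_mul_card]
  obtain ⟨e, j, hcL, hgenL, hcard⟩ := D.exists_gen_mod_A L
  have ho := D.orderOf_apow_T hp2 hG n hGn j
  have hPpos : 0 < p ^ n := pow_pos hp.out.pos n
  rw [← Nat.mul_le_mul_right_iff hPpos, hidx]
  constructor
  · intro hL
    have hle : L ⊓ zpowers D.a ≤ zpowers (D.a ^ (orderOf (D.a ^ (D.t ^ j - 1)))) := by
      rintro w ⟨hwL, hwA⟩
      have hwA' : w ∈ zpowers D.a := hwA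
      rw [← mem_powers_iff_mem_zpowers] at hwA'
      obtain ⟨x, rfl⟩ := hwA'
      have hc : Commute (D.a ^ x) (D.a ^ e * D.b ^ j) := by
        have := hL.is_comm.comm ⟨D.a ^ x, hwL⟩ ⟨_, hcL⟩
        exact congrArg Subtype.val this
      obtain ⟨y, rfl⟩ := (D.commute_apow_iff e j x).mp hc
      show D.a ^ (orderOf (D.a ^ (D.t ^ j - 1)) * y) ∈ _
      rw [pow_mul]
      exact Subgroup.pow_mem _ (mem_zpowers _) _
    have h1 : Nat.card (L ⊓ zpowers D.a : Subgroup G) ≤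
        p ^ m / Nat.gcd (p ^ m) (p ^ n / Nat.gcd (p ^ n) j) := by
      have := Subgroup.card_le_of_le hle
      rwa [Nat.card_zpowers, orderOf_pow, hm, ho] at this
    calc Nat.card L * p ^ n
        = Nat.card (L ⊓ zpowers D.a : Subgroup G) * (p ^ k / Nat.gcd (p ^ k) j) * p ^ n := by
          rw [hcard, hk]
      _ ≤ (p ^ m / Nat.gcd (p ^ m) (p ^ n / Nat.gcd (p ^ n) j)) * (p ^ k / Nat.gcd (p ^ k) j) *
            p ^ n := by gcongr
      _ ≤ p ^ m * p ^ k := mc_arith1 hp.out m k n j hnm hnk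
  · intro hle
    by_contra hL
    have hex : ∃ x : ℕ, D.a ^ x ∈ L ∧ ¬ orderOf (D.a ^ (D.t ^ j - 1)) ∣ x := by
      by_contra hcon
      push Not at hcon
      apply hL
      have hcomm : ∀ w ∈ L, w ∈ zpowers D.a → Commute w (D.a ^ e * D.b ^ j) := by
        intro w hwL hwA
        rw [← mem_powers_iff_mem_zpowers] at hwA
        obtain ⟨x, rfl⟩ := hwA
        exact (D.commute_apow_iff e j x).mpr (hcon x hwL)
      refine ⟨⟨fun l l' => Subtype.ext ?_⟩⟩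
      obtain ⟨k1, hk1⟩ := hgenL l l.2
      obtain ⟨k2, hk2⟩ := hgenL l' l'.2
      have hw1L : (l : G) * ((D.a ^ e * D.b ^ j) ^ k1)⁻¹ ∈ L :=
        L.mul_mem l.2 (L.inv_mem (L.pow_mem hcL _))
      have hw2L : (l' : G) * ((D.a ^ e * D.b ^ j) ^ k2)⁻¹ ∈ L :=
        L.mul_mem l'.2 (L.inv_mem (L.pow_mem hcL _))
      have e1 : (l : G) = ((l : G) * ((D.a ^ e * D.b ^ j) ^ k1)⁻¹) * (D.a ^ e * D.b ^ j) ^ k1 := by
        group
      have e2 : (l' : G) = ((l' : G) * ((D.a ^ e * D.b ^ j) ^ k2)⁻¹) * (D.a ^ e * D.b ^ j) ^ k2 := by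
        group
      have hww : Commute ((l : G) * ((D.a ^ e * D.b ^ j) ^ k1)⁻¹)
          ((l' : G) * ((D.a ^ e * D.b ^ j) ^ k2)⁻¹) := by
        obtain ⟨z1, hz1⟩ := mem_zpowers_iff.mp hk1
        obtain ⟨z2, hz2⟩ := mem_zpowers_iff.mp hk2
        rw [← hz1, ← hz2]
        exact (Commute.refl D.a).zpow_zpow z1 z2
      have hc1 := hcomm _ hw1L hk1
      have hc2 := hcomm _ hw2L hk2
      show (l : G) * (l' : G) = (l' : G) * (l : G)
      rw [e1, e2]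
      exact ((hww.mul_right (hc1.pow_right k2)).mul_left
        ((hc2.pow_right k1).symm.mul_right
          ((Commute.refl (D.a ^ e * D.b ^ j)).pow_pow k1 k2))).eq
    obtain ⟨x, hxL, hxo⟩ := hex
    have h1 : p ^ m / Nat.gcd (p ^ m) x ≤ Nat.card (L ⊓ zpowers D.a : Subgroup G) := by
      have hle' : zpowers (D.a ^ x) ≤ L ⊓ zpowers D.a := by
        rw [zpowers_le]
        exact ⟨hxL, Subgroup.pow_mem _ (mem_zpowers _) _⟩
      have := Subgroup.card_le_of_le hle'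
      rwa [Nat.card_zpowers, orderOf_pow, hm] at this
    rw [ho] at hxo
    have h2 := mc_arith2 hp.out m k n j x hnm hnk hxo
    have h3 : (p ^ m / Nat.gcd (p ^ m) x) * (p ^ k / Nat.gcd (p ^ k) j) * p ^ n ≤
        Nat.card L * p ^ n := by
      rw [hcard, hk]; gcongr
    omega

end MCData

end Cfsg.Agent.Helper64
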