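import Mathlib
import Cfsg.Agent.Lib.Helper64.Metacyclic4

set_option autoImplicit false

namespace Cfsg.Agent.Helper64

open Subgroup

theorem geom_sum_prime_not_sq_dvd {p : ℕ} (hp : p.Prime) (hp2 : p ≠ 2) (T : ℕ) (hT : T % p = 1) :
    ¬ p ^ 2 ∣ ∑ l ∈ Finset.range p, T ^ l := by
  have hodd : Odd p := hp.odd_of_ne_two hp2
  have hpZ : Prime ((p : ℕ) : ℤ) := Nat.prime_iff_prime_int.mp hp
  have hxy : ((p : ℕ) : ℤ) ∣ (T : ℤ) - 1 := by
    have h1 : 1 ≡ T [MOD p] := by
      show 1 % p = T % p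
      rw [hT, Nat.mod_eq_of_lt hp.one_lt]
    have := (Nat.modEq_iff_dvd).mp h1
    simpa using this
  have hx : ¬ ((p : ℕ) : ℤ) ∣ (T : ℤ) := by
    rw [Int.natCast_dvd_natCast]
    intro h
    have := Nat.mod_eq_zero_of_dvd h
    omega
  have h := emultiplicity_geom_sum₂_eq_one (R := ℤ) (x := (T : ℤ)) (y := 1) hpZ hodd hxy hx
  simp only [one_pow, mul_one] at h
  rw [← Nat.cast_one, emultiplicity_eq_coe] at h
  intro hdvd
  apply h.2
  have h2 : ((p ^ 2 : ℕ) : ℤ) ∣ ((∑ l ∈ Finset.range p, T ^ l : ℕ) : ℤ) :=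
    Int.natCast_dvd_natCast.mpr hdvd
  push_cast at h2
  simpa using h2

namespace MCData

variable {G : Type*} [Group G] (D : MCData G)

/-- Every element acts on `⟨a⟩` by a power map with exponent `≡ 1 (mod p)`. -/
theorem exists_conj_pow {p : ℕ} [hp : Fact p.Prime] (hG : IsPGroup p G) (y : G) :
    ∃ T : ℕ, (orderOf D.a ≠ 1 → T % p = 1) ∧ ∀ z ∈ zpowers D.a, y * z * y⁻¹ = z ^ T := by
  obtain ⟨i, j, rfl⟩ := D.hgen y
  refine ⟨D.t ^ j, fun h => ?_, fun z hz => D.conj_zpowers_a i j z hz⟩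
  rw [Nat.pow_mod, D.t_mod_p hG h, one_pow, Nat.mod_eq_of_lt hp.out.one_lt]

include D in
theorem comm_pow_eq_one_of_commute_pow {p : ℕ} [hp : Fact p.Prime] (hp2 : p ≠ 2)
    (hG : IsPGroup p G) (h y : G) (hc : Commute h (y ^ p)) :
    (h * y * h⁻¹ * y⁻¹) ^ p = 1 := by
  have hza : h * y * h⁻¹ * y⁻¹ ∈ zpowers D.a := D.zpowers_comm_le (D.comm_mem h y)
  obtain ⟨T, hT, hconjT⟩ := D.exists_conj_pow hG y
  have hconj := hconjT _ hza
  have h1 : h * y ^ p * h⁻¹ = ((h * y * h⁻¹ * y⁻¹) * y) ^ p := by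
    rw [← conj_pow]; congr 1; group
  have h2 : h * y ^ p * h⁻¹ = y ^ p := by rw [hc.eq, mul_inv_cancel_right]
  rw [h2, mul_pow_of_conj y _ _ hconj] at h1
  have h3 : (h * y * h⁻¹ * y⁻¹) ^ (∑ l ∈ Finset.range p, T ^ l) = 1 := by
    have := congrArg (· * (y ^ p)⁻¹) h1
    simpa using this.symm
  by_cases ha1 : orderOf D.a = 1
  · have : D.a = 1 := orderOf_eq_one_iff.mp ha1
    rw [this, zpowers_one_eq_bot, mem_bot] at hza
    rw [hza, one_pow]
  · have hT1 := hT ha1
    obtain ⟨w, hw⟩ := geom_sum_prime_dvd hp.out T hT1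
    have hw' : ¬ p ∣ w := by
      intro hpw
      apply geom_sum_prime_not_sq_dvd hp.out hp2 T hT1
      rw [hw, sq]
      exact mul_dvd_mul_left p hpw
    obtain ⟨e, he⟩ := (IsPGroup.iff_orderOf.mp hG) (h * y * h⁻¹ * y⁻¹)
    have h4 : orderOf (h * y * h⁻¹ * y⁻¹) ∣ p * w := by
      rw [← hw]; exact orderOf_dvd_of_pow_eq_one h3
    have hcop : Nat.Coprime (orderOf (h * y * h⁻¹ * y⁻¹)) w := by
      rw [he]
      exact Nat.Coprime.pow_left e ((Nat.Prime.coprime_iff_not_dvd hp.out).mpr hw')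
    have h5 : orderOf (h * y * h⁻¹ * y⁻¹) ∣ p := hcop.dvd_of_dvd_mul_right h4
    exact orderOf_dvd_iff_pow_eq_one.mp h5

theorem central_of_pow_eq_one {p : ℕ} [hp : Fact p.Prime] (hG : IsPGroup p G) (z : G)
    (hz : z ∈ zpowers D.a) (hzp : z ^ p = 1) (g : G) : g * z = z * g := by
  obtain ⟨T, hT, hconjT⟩ := D.exists_conj_pow hG g
  have hconj := hconjT z hz
  by_cases ha1 : orderOf D.a = 1
  · have : D.a = 1 := orderOf_eq_one_iff.mp ha1
    rw [this, zpowers_one_eq_bot, mem_bot] at hz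
    rw [hz, mul_one, one_mul]
  · have hT1 := hT ha1
    have h1 : z ^ T = z := by
      conv_lhs => rw [← Nat.div_add_mod T p, hT1, pow_add, pow_mul, hzp, one_pow, one_mul, pow_one]
    rw [h1] at hconj
    exact mul_inv_eq_iff_eq_mul.mp hconj

theorem mem_centralizer_sup_zpowers {G : Type*} [Group G] (R : Subgroup G) (y h : G)
    (hR : h ∈ centralizer (R : Set G)) (hy : h * y = y * h) :
    h ∈ centralizer ((R ⊔ zpowers y : Subgroup G) : Set G) := by
  have hle : R ⊔ zpowers y ≤ centralizer ({h} : Set G) := by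
    apply sup_le
    · intro r hr
      rw [Subgroup.mem_centralizer_iff]
      intro k hk
      rw [Set.mem_singleton_iff] at hk
      subst hk
      exact ((Subgroup.mem_centralizer_iff.mp hR) r hr).symm
    · rw [zpowers_le, Subgroup.mem_centralizer_iff]
      intro k hk
      rw [Set.mem_singleton_iff] at hk
      subst hk
      exact hy
  rw [Subgroup.mem_centralizer_iff]
  intro g hg
  have := (Subgroup.mem_centralizer_iff.mp (hle hg)) h rfl
  exact this.symm

variable [Finite G]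

include D in
theorem card_centralizer_le_mul {p : ℕ} [hp : Fact p.Prime] (hp2 : p ≠ 2) (hG : IsPGroup p G)
    (R : Subgroup G) (y : G) (hy : y ^ p ∈ R) :
    Nat.card (centralizer (R : Set G)) ≤
      p * Nat.card (centralizer ((R ⊔ zpowers y : Subgroup G) : Set G)) := by
  have hval : ∀ h : ↥(centralizer (R : Set G)),
      ((h : G) * y * (h : G)⁻¹ * y⁻¹) ∈ zpowers D.a ∧
        ((h : G) * y * (h : G)⁻¹ * y⁻¹) ^ p = 1 := by
    intro h
    refine ⟨D.zpowers_comm_le (D.comm_mem _ _),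
      D.comm_pow_eq_one_of_commute_pow hp2 hG _ _ ?_⟩
    have := (Subgroup.mem_centralizer_iff.mp h.2) (y ^ p) hy
    exact this.symm
  let φ : ↥(centralizer (R : Set G)) →* G :=
    MonoidHom.mk' (fun h => (h : G) * y * (h : G)⁻¹ * y⁻¹) (by
      intro h h'
      have hc := D.central_of_pow_eq_one hG _ (hval h').1 (hval h').2
      simp only [Subgroup.coe_mul]
      calc (h : G) * (h' : G) * y * ((h : G) * (h' : G))⁻¹ * y⁻¹
          = (h : G) * ((h' : G) * y * (h' : G)⁻¹ * y⁻¹) * y * (h : G)⁻¹ * y⁻¹ := by group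
        _ = ((h' : G) * y * (h' : G)⁻¹ * y⁻¹) * (h : G) * y * (h : G)⁻¹ * y⁻¹ := by
            rw [hc (h : G)]
        _ = ((h' : G) * y * (h' : G)⁻¹ * y⁻¹) * ((h : G) * y * (h : G)⁻¹ * y⁻¹) := by group
        _ = ((h : G) * y * (h : G)⁻¹ * y⁻¹) * ((h' : G) * y * (h' : G)⁻¹ * y⁻¹) :=
            (hc _).symm)
  have hφ : ∀ h, φ h = (h : G) * y * (h : G)⁻¹ * y⁻¹ := fun h => rfl
  have hker : Nat.card φ.ker ≤ Nat.card (centralizer ((R ⊔ zpowers y : Subgroup G) : Set G)) := by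
    have hmem : ∀ h : φ.ker, ((h : ↥(centralizer (R : Set G))) : G) ∈
        centralizer ((R ⊔ zpowers y : Subgroup G) : Set G) := by
      intro h
      apply mem_centralizer_sup_zpowers R y _ (h : ↥(centralizer (R : Set G))).2
      have h1 : φ (h : ↥(centralizer (R : Set G))) = 1 := h.2
      rw [hφ] at h1
      have h2 := mul_inv_eq_one.mp h1
      exact mul_inv_eq_iff_eq_mul.mp h2
    apply Nat.card_le_card_of_injective (fun h : φ.ker => (⟨_, hmem h⟩ :
      ↥(centralizer ((R ⊔ zpowers y : Subgroup G) : Set G))))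
    intro h h' hh
    have := congrArg Subtype.val hh
    exact Subtype.ext (Subtype.ext this)
  have hrange : Nat.card φ.range ≤ p := by
    have hle : φ.range ≤ zpowers D.a := by
      rintro _ ⟨h, rfl⟩
      exact (hval h).1
    haveI : IsCyclic ↥φ.range := Subgroup.isCyclic_of_le hle
    obtain ⟨⟨w0, hw0⟩, hgen⟩ := IsCyclic.exists_generator (α := ↥φ.range)
    have hw0p : w0 ^ p = 1 := by
      obtain ⟨h, rfl⟩ := hw0
      exact (hval h).2
    rw [← orderOf_eq_card_of_forall_mem_zpowers hgen, ← Subgroup.orderOf_coe]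
    exact Nat.le_of_dvd hp.out.pos (orderOf_dvd_of_pow_eq_one hw0p)
  have hcard : Nat.card φ.ker * Nat.card φ.range = Nat.card (centralizer (R : Set G)) := by
    rw [← Subgroup.index_ker, Subgroup.card_mul_index]
  calc Nat.card (centralizer (R : Set G)) = Nat.card φ.ker * Nat.card φ.range := hcard.symm
    _ ≤ Nat.card (centralizer ((R ⊔ zpowers y : Subgroup G) : Set G)) * p :=
        Nat.mul_le_mul hker hrange
    _ = p * Nat.card (centralizer ((R ⊔ zpowers y : Subgroup G) : Set G)) := mul_comm _ _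

include D in
/-- Monotonicity of the Chermak–Delgado measure `|R| |C_G(R)|` in a metacyclic `p`-group,
`p` odd. -/
theorem cd_mono {p : ℕ} [hp : Fact p.Prime] (hp2 : p ≠ 2) (hG : IsPGroup p G) :
    ∀ (d : ℕ) (R R' : Subgroup G), R ≤ R' → Nat.card R' - Nat.card R ≤ d →
      Nat.card R * Nat.card (centralizer (R : Set G)) ≤
        Nat.card R' * Nat.card (centralizer (R' : Set G)) := by
  intro d
  induction d with
  | zero =>
    intro R R' hle hd
    have : R = R' := Subgroup.eq_of_le_of_card_ge hle (by omega)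
    rw [this]
  | succ d ih =>
    intro R R' hle hd
    by_cases hRR : R = R'
    · rw [hRR]
    have hlt : R < R' := lt_of_le_of_ne hle hRR
    obtain ⟨y0, hy0R', hy0R⟩ := SetLike.exists_of_lt hlt
    obtain ⟨N, hN⟩ := hG y0
    have hex : ∃ i, y0 ^ p ^ i ∈ R := ⟨N, by rw [hN]; exact one_mem _⟩
    classical
    have hi0 : y0 ^ p ^ (Nat.find hex) ∈ R := Nat.find_spec hex
    have hi0pos : Nat.find hex ≠ 0 := by
      intro h0
      rw [h0, pow_zero, pow_one] at hi0
      exact hy0R hi0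
    obtain ⟨i1, hi1⟩ : ∃ i1, Nat.find hex = i1 + 1 := Nat.exists_eq_succ_of_ne_zero hi0pos
    have hyR : y0 ^ p ^ i1 ∉ R := Nat.find_min hex (by omega : i1 < Nat.find hex)
    have hypR : (y0 ^ p ^ i1) ^ p ∈ R := by
      rw [← pow_mul, ← pow_succ, ← hi1]; exact hi0
    have hyR' : y0 ^ p ^ i1 ∈ R' := R'.pow_mem hy0R' _
    have hRR1 : R ≤ R ⊔ zpowers (y0 ^ p ^ i1) := le_sup_left
    have hR1R' : R ⊔ zpowers (y0 ^ p ^ i1) ≤ R' := sup_le hle (zpowers_le.mpr hyR')
    have hyR1 : y0 ^ p ^ i1 ∈ R ⊔ zpowers (y0 ^ p ^ i1) :=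
      (le_sup_right : zpowers (y0 ^ p ^ i1) ≤ R ⊔ zpowers (y0 ^ p ^ i1)) (mem_zpowers _)
    have hcard1 : p * Nat.card R ≤ Nat.card (R ⊔ zpowers (y0 ^ p ^ i1) : Subgroup G) := by
      obtain ⟨q, hq⟩ := Subgroup.card_dvd_of_le hRR1
      have hq1 : q ≠ 1 := by
        intro h1
        rw [h1, mul_one] at hq
        have : R = R ⊔ zpowers (y0 ^ p ^ i1) := Subgroup.eq_of_le_of_card_ge hRR1 hq.le
        exact hyR (this ▸ hyR1)
      obtain ⟨β, hβ⟩ := IsPGroup.iff_card.mp (hG.to_subgroup (R ⊔ zpowers (y0 ^ p ^ i1)))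
      have hqd : q ∣ p ^ β := hβ ▸ Dvd.intro_left _ hq.symm
      obtain ⟨γ, _, hγ⟩ := (Nat.dvd_prime_pow hp.out).mp hqd
      have hγ0 : γ ≠ 0 := by rintro rfl; exact hq1 (by simpa using hγ)
      have hpq : p ≤ q := by
        rw [hγ]
        calc p = p ^ 1 := (pow_one p).symm
          _ ≤ p ^ γ := Nat.pow_le_pow_right hp.out.pos (Nat.one_le_iff_ne_zero.mpr hγ0)
      rw [hq, mul_comm]
      exact Nat.mul_le_mul_left _ hpq
    have hstep := D.card_centralizer_le_mul hp2 hG R _ hypR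
    have hlt1 : Nat.card R < Nat.card (R ⊔ zpowers (y0 ^ p ^ i1) : Subgroup G) := by
      have h2 := hp.out.two_le
      have h0 : 0 < Nat.card R := Nat.card_pos
      nlinarith
    have hR1le : Nat.card (R ⊔ zpowers (y0 ^ p ^ i1) : Subgroup G) ≤ Nat.card R' :=
      Subgroup.card_le_of_le hR1R'
    have hih := ih (R ⊔ zpowers (y0 ^ p ^ i1)) R' hR1R' (by omega)
    calc Nat.card R * Nat.card (centralizer (R : Set G))
        ≤ Nat.card R * (p * Nat.card (centralizer
            ((R ⊔ zpowers (y0 ^ p ^ i1) : Subgroup G) : Set G))) :=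
          Nat.mul_le_mul_left _ hstep
      _ = (p * Nat.card R) * Nat.card (centralizer
            ((R ⊔ zpowers (y0 ^ p ^ i1) : Subgroup G) : Set G)) := by ring
      _ ≤ Nat.card (R ⊔ zpowers (y0 ^ p ^ i1) : Subgroup G) * Nat.card (centralizer
            ((R ⊔ zpowers (y0 ^ p ^ i1) : Subgroup G) : Set G)) :=
          Nat.mul_le_mul_right _ hcard1
      _ ≤ _ := hih

include D in
theorem cd_mono' {p : ℕ} [hp : Fact p.Prime] (hp2 : p ≠ 2) (hG : IsPGroup p G)
    (R R' : Subgroup G) (hle : R ≤ R') :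
    Nat.card R * Nat.card (centralizer (R : Set G)) ≤
      Nat.card R' * Nat.card (centralizer (R' : Set G)) :=
  D.cd_mono hp2 hG _ R R' hle le_rfl

include D in
/-- Duality: `|R| |C_G(R)| = |G| |Z(G)|` for `Z(G) ≤ R`. -/
theorem cd_eq_of_center_le {p : ℕ} [hp : Fact p.Prime] (hp2 : p ≠ 2) (hG : IsPGroup p G)
    (R : Subgroup G) (hZ : center G ≤ R) :
    Nat.card R * Nat.card (centralizer (R : Set G)) = Nat.card G * Nat.card (center G) := by
  have h1 := D.cd_mono' hp2 hG (center G) R hZ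
  have h2 := D.cd_mono' hp2 hG R ⊤ le_top
  have h3 : centralizer ((center G : Subgroup G) : Set G) = ⊤ := by
    rw [Subgroup.centralizer_eq_top_iff_subset]
  have h4 : centralizer (((⊤ : Subgroup G) : Subgroup G) : Set G) = center G := by
    rw [Subgroup.coe_top, Subgroup.centralizer_univ]
  rw [h3, Subgroup.card_top] at h1
  rw [h4, Subgroup.card_top] at h2
  rw [mul_comm] at h1
  exact le_antisymm h2 h1

include D in
theorem cd_le {p : ℕ} [hp : Fact p.Prime] (hp2 : p ≠ 2) (hG : IsPGroup p G)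
    (R : Subgroup G) :
    Nat.card R * Nat.card (centralizer (R : Set G)) ≤ Nat.card G * Nat.card (center G) := by
  have h2 := D.cd_mono' hp2 hG R ⊤ le_top
  have h4 : centralizer (((⊤ : Subgroup G) : Subgroup G) : Set G) = center G := by
    rw [Subgroup.coe_top, Subgroup.centralizer_univ]
  rwa [h4, Subgroup.card_top] at h2

end MCData

end Cfsg.Agent.Helper64
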