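import Mathlib
import Cfsg.Agent.Lib.Helper64.Metacyclic7

set_option autoImplicit false

namespace Cfsg.Agent.Helper64

open Subgroup

/-- Exact `p`-adic valuation of a geometric sum with ratio `≡ 1 (mod p)`, `p` odd. -/
theorem emultiplicity_geom_sum {p : ℕ} (hp : p.Prime) (hp2 : p ≠ 2) (T : ℕ) (hT : T % p = 1)
    (l : ℕ) : emultiplicity p (∑ i ∈ Finset.range l, T ^ i) = emultiplicity p l := by
  have hodd : Odd p := hp.odd_of_ne_two hp2
  by_cases hT1 : T = 1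
  · subst hT1; simp
  have hT0 : 0 < T := by
    rcases Nat.eq_zero_or_pos T with h | h
    · rw [h, Nat.zero_mod] at hT; omega
    · exact h
  have hT2 : T - 1 ≠ 0 := by omega
  have hxy : p ∣ T - 1 := by
    have h1 : 1 ≡ T [MOD p] := by
      show 1 % p = T % p
      rw [hT, Nat.mod_eq_of_lt hp.one_lt]
    exact (Nat.modEq_iff_dvd' hT0).mp h1
  have hx : ¬ p ∣ T := by
    intro h
    have := Nat.mod_eq_zero_of_dvd h
    omega
  have h1 := Nat.emultiplicity_pow_sub_pow hp hodd (x := T) (y := 1) hxy hx l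
  rw [one_pow] at h1
  have h2 : (∑ i ∈ Finset.range l, T ^ i) * (T - 1) = T ^ l - 1 := by
    have := geom_sum_mul_add (T - 1) l
    rw [show T - 1 + 1 = T by omega] at this
    omega
  rw [← h2, emultiplicity_mul (Nat.prime_iff.mp hp),
    add_comm (emultiplicity p (T - 1)) (emultiplicity p l)] at h1
  have hfin : emultiplicity p (T - 1) ≠ ⊤ := by
    rw [← finiteMultiplicity_iff_emultiplicity_ne_top]
    exact Nat.finiteMultiplicity_iff.mpr ⟨hp.ne_one, Nat.pos_of_ne_zero hT2⟩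
  exact ENat.add_left_injective_of_ne_top hfin h1

theorem pow_dvd_geom_sum_iff {p : ℕ} (hp : p.Prime) (hp2 : p ≠ 2) (T : ℕ) (hT : T % p = 1)
    (l s : ℕ) : p ^ s ∣ (∑ i ∈ Finset.range l, T ^ i) ↔ p ^ s ∣ l := by
  rw [pow_dvd_iff_le_emultiplicity, pow_dvd_iff_le_emultiplicity,
    emultiplicity_geom_sum hp hp2 T hT l]

theorem factor_of_key {G : Type*} [Group G] [Finite G] (X : Subgroup G) (y : G) (N : ℕ)
    (hyN : y ^ N = 1) (hkey : ∀ l : ℕ, y ^ l ∈ X → N ∣ l) :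
    X ⊓ zpowers y = ⊥ ∧ Nat.card (zpowers y) = N := by
  constructor
  · rw [eq_bot_iff]
    rintro x ⟨hxX, hxy⟩
    have hxy' : x ∈ zpowers y := hxy
    rw [← mem_powers_iff_mem_zpowers] at hxy'
    obtain ⟨l, rfl⟩ := hxy'
    obtain ⟨q, rfl⟩ := hkey l hxX
    rw [Subgroup.mem_bot]
    show y ^ (N * q) = 1
    rw [pow_mul, hyN, one_pow]
  · rw [Nat.card_zpowers]
    apply Nat.dvd_antisymm (orderOf_dvd_of_pow_eq_one hyN)
    apply hkey
    rw [pow_orderOf_eq_one]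
    exact one_mem _

namespace MCData

variable {G : Type*} [Group G] (D : MCData G)

/-- Power formula in a metacyclic group. -/
theorem mul_pow_formula (i j N : ℕ) :
    (D.a ^ i * D.b ^ j) ^ N =
      D.a ^ (i * ∑ l ∈ Finset.range N, (D.t ^ j) ^ l) * D.b ^ (j * N) := by
  have hconj : D.b ^ j * D.a ^ i * (D.b ^ j)⁻¹ = (D.a ^ i) ^ (D.t ^ j) := by
    rw [D.conj_bpow_apow, ← pow_mul, mul_comm]
  rw [mul_pow_of_conj (D.b ^ j) (D.a ^ i) (D.t ^ j) hconj N, ← pow_mul, ← pow_mul]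

theorem exists_kill {p : ℕ} [hp : Fact p.Prime] (hp2 : p ≠ 2) (hG : IsPGroup p G)
    (j s w : ℕ) (hw : (D.b ^ j) ^ (p ^ s) = D.a ^ w) (hsw : p ^ s ∣ w) :
    ∃ i : ℕ, (D.a ^ i * D.b ^ j) ^ (p ^ s) = 1 ∧
      (orderOf D.a ≠ 1 → ¬ p ∣ w / p ^ s → ¬ p ∣ i) := by
  by_cases ha1 : orderOf D.a = 1
  · have h1 : D.a = 1 := orderOf_eq_one_iff.mp ha1
    refine ⟨0, ?_, fun h => absurd ha1 h⟩
    rw [pow_zero, one_mul, hw, h1, one_pow]
  · have hT : (D.t ^ j) % p = 1 := by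
      rw [Nat.pow_mod, D.t_mod_p hG ha1, one_pow, Nat.mod_eq_of_lt hp.out.one_lt]
    obtain ⟨g, hg⟩ := (pow_dvd_geom_sum_iff hp.out hp2 (D.t ^ j) hT (p ^ s) s).mpr dvd_rfl
    have hgp : ¬ p ∣ g := by
      intro hpg
      have h1 : p ^ (s + 1) ∣ ∑ l ∈ Finset.range (p ^ s), (D.t ^ j) ^ l := by
        rw [hg, pow_succ]; exact mul_dvd_mul_left _ hpg
      rw [pow_dvd_geom_sum_iff hp.out hp2 (D.t ^ j) hT (p ^ s) (s + 1),
        Nat.pow_dvd_pow_iff_le_right hp.out.one_lt] at h1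
      omega
    obtain ⟨w', hw'⟩ := hsw
    obtain ⟨m, hm⟩ := (IsPGroup.iff_orderOf.mp hG) D.a
    have hm0 : m ≠ 0 := by
      rintro rfl
      exact ha1 (by rw [hm, pow_zero])
    have hcop : Nat.Coprime g (orderOf D.a) := by
      rw [hm]
      exact Nat.Coprime.pow_right m ((Nat.Prime.coprime_iff_not_dvd hp.out).mpr hgp).symm
    haveI : NeZero (orderOf D.a) := ⟨(orderOf_pos_iff.mpr (by
      rw [← orderOf_pos_iff]; rw [hm]; exact pow_pos hp.out.pos m)).ne'⟩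
    obtain ⟨i, hi⟩ : ∃ i : ℕ, ((i * g + w' : ℕ) : ZMod (orderOf D.a)) = 0 := by
      refine ⟨((-(w' : ZMod (orderOf D.a))) * ((g : ZMod (orderOf D.a)))⁻¹).val, ?_⟩
      push_cast
      rw [ZMod.natCast_zmod_val, mul_assoc, ZMod.inv_mul_of_unit _
        ((ZMod.isUnit_iff_coprime g (orderOf D.a)).mpr hcop), mul_one]
      ring
    have hdvd := (ZMod.natCast_eq_zero_iff _ _).mp hi
    refine ⟨i, ?_, ?_⟩
    · rw [D.mul_pow_formula, hg, pow_mul D.b, hw, ← pow_add, hw']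
      apply orderOf_dvd_iff_pow_eq_one.mp
      have : i * (p ^ s * g) + p ^ s * w' = p ^ s * (i * g + w') := by ring
      rw [this]
      exact Dvd.dvd.mul_left hdvd _
    · intro _ hw'p hpi
      apply hw'p
      rw [hw', Nat.mul_div_cancel_left _ (pow_pos hp.out.pos s)]
      have hpM : p ∣ orderOf D.a := by rw [hm]; exact dvd_pow_self p hm0
      have h1 : p ∣ i * g + w' := dvd_trans hpM hdvd
      exact (Nat.dvd_add_right (Dvd.dvd.mul_right hpi g)).mp h1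

variable [Finite G]

include D in
theorem exists_factorization {p : ℕ} [hp : Fact p.Prime] (hp2 : p ≠ 2) (hG : IsPGroup p G) :
    ∃ A B : Subgroup G, IsCyclic ↥A ∧ IsCyclic ↥B ∧ A ⊓ B = ⊥ ∧
      Nat.card ↥A * Nat.card ↥B = Nat.card G := by
  obtain ⟨m, hm⟩ : ∃ m, orderOf D.a = p ^ m := (IsPGroup.iff_orderOf.mp hG) _
  obtain ⟨k, hk⟩ : ∃ k, (zpowers D.a).index = p ^ k := by
    obtain ⟨N, hN⟩ := IsPGroup.iff_card.mp hG
    have h1 : (zpowers D.a).index ∣ p ^ N := hN ▸ Subgroup.index_dvd_card _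
    obtain ⟨e, _, he⟩ := (Nat.dvd_prime_pow hp.out).mp h1
    exact ⟨e, he⟩
  have hbK : D.b ^ (p ^ k) ∈ zpowers D.a := (D.bpow_mem_iff _).mpr (by rw [hk])
  rw [← mem_powers_iff_mem_zpowers] at hbK
  obtain ⟨w0, hw0⟩ := hbK
  have hw0' : D.a ^ w0 = D.b ^ (p ^ k) := hw0
  have hw : D.b ^ (p ^ k) = D.a ^ (w0 % orderOf D.a) := by rw [pow_mod_orderOf]; exact hw0'.symm
  have hwlt : w0 % orderOf D.a < orderOf D.a := Nat.mod_lt _ (orderOf_pos _)
  generalize w0 % orderOf D.a = w at hw hwlt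
  by_cases hcase : p ^ k ∣ w
  · obtain ⟨i, hi, -⟩ := D.exists_kill hp2 hG 1 k w (by rw [pow_one]; exact hw) hcase
    rw [pow_one] at hi
    have hkey : ∀ l : ℕ, (D.a ^ i * D.b) ^ l ∈ zpowers D.a → p ^ k ∣ l := by
      intro l hl
      have h1 := D.mul_pow_formula i 1 l
      rw [pow_one, one_mul] at h1
      rw [h1] at hl
      have h2 : D.b ^ l ∈ zpowers D.a :=
        (Subgroup.mul_mem_cancel_left (H := zpowers D.a)
          (Subgroup.pow_mem _ (mem_zpowers _) _)).mp hl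
      rw [D.bpow_mem_iff, hk] at h2
      exact h2
    obtain ⟨hinf, hcard⟩ := factor_of_key (zpowers D.a) (D.a ^ i * D.b) (p ^ k) hi hkey
    refine ⟨zpowers D.a, zpowers (D.a ^ i * D.b), inferInstance, inferInstance, hinf, ?_⟩
    rw [hcard, Nat.card_zpowers, D.card_eq, hk]
  · have hwne : w ≠ 0 := by rintro h; exact hcase (h ▸ dvd_zero _)
    have ha1 : orderOf D.a ≠ 1 := by omega
    obtain ⟨f, w', hw'p, hww'⟩ := Nat.exists_eq_pow_mul_and_not_dvd hwne p hp.out.ne_one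
    have hfk : f < k := by
      by_contra hcon
      push Not at hcon
      exact hcase (hww' ▸ Dvd.dvd.mul_right (pow_dvd_pow p hcon) w')
    have hfm : f < m := by
      have h1 : p ^ f ≤ w := by
        rw [hww']
        exact Nat.le_mul_of_pos_right _ (Nat.pos_of_ne_zero (by rintro rfl; simp at hw'p))
      have h2 : p ^ f < p ^ m := by rw [← hm]; omega
      exact (Nat.pow_lt_pow_iff_right hp.out.one_lt).mp h2
    have hbj : (D.b ^ (p ^ (k - f))) ^ (p ^ f) = D.a ^ w := by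
      rw [← pow_mul, ← pow_add, Nat.sub_add_cancel hfk.le]; exact hw
    have hfw : p ^ f ∣ w := hww' ▸ dvd_mul_right _ _
    obtain ⟨i, hi, hip⟩ := D.exists_kill hp2 hG (p ^ (k - f)) f w hbj hfw
    have hpi : ¬ p ∣ i := hip ha1 (by
      rw [hww', Nat.mul_div_cancel_left _ (pow_pos hp.out.pos f)]; exact hw'p)
    have hT : (D.t ^ (p ^ (k - f))) % p = 1 := by
      rw [Nat.pow_mod, D.t_mod_p hG ha1, one_pow, Nat.mod_eq_of_lt hp.out.one_lt]
    have hAB : ∀ x, x ∈ zpowers D.a → x ∈ zpowers D.b → x ∈ zpowers (D.a ^ w) := by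
      intro x hxa hxb
      rw [← mem_powers_iff_mem_zpowers] at hxb
      obtain ⟨l', rfl⟩ := hxb
      have hxa' : D.b ^ l' ∈ zpowers D.a := hxa
      rw [D.bpow_mem_iff, hk] at hxa'
      obtain ⟨q, rfl⟩ := hxa'
      show D.b ^ (p ^ k * q) ∈ _
      rw [pow_mul, hw]
      exact Subgroup.pow_mem _ (mem_zpowers _) _
    have hkey : ∀ l : ℕ, (D.a ^ i * D.b ^ (p ^ (k - f))) ^ l ∈ zpowers D.b → p ^ f ∣ l := by
      intro l hl
      rw [D.mul_pow_formula] at hl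
      have h2 : D.a ^ (i * ∑ l' ∈ Finset.range l, (D.t ^ (p ^ (k - f))) ^ l') ∈ zpowers D.b :=
        (Subgroup.mul_mem_cancel_right (H := zpowers D.b)
          (Subgroup.pow_mem _ (mem_zpowers _) _)).mp hl
      have h3 := hAB _ (Subgroup.pow_mem _ (mem_zpowers _) _) h2
      obtain ⟨z, hz⟩ := mem_zpowers_iff.mp h3
      have h4 : D.a ^ ((w : ℤ) * z -
          ((i * ∑ l' ∈ Finset.range l, (D.t ^ (p ^ (k - f))) ^ l' : ℕ) : ℤ)) = 1 := by
        rw [zpow_sub, zpow_mul, zpow_natCast, zpow_natCast, hz, mul_inv_cancel]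
      have h5 := (orderOf_dvd_iff_zpow_eq_one).mpr h4
      have h6 : ((p ^ f : ℕ) : ℤ) ∣
          ((i * ∑ l' ∈ Finset.range l, (D.t ^ (p ^ (k - f))) ^ l' : ℕ) : ℤ) := by
        have hpM : ((p ^ f : ℕ) : ℤ) ∣ (orderOf D.a : ℤ) := by
          rw [hm]; exact_mod_cast pow_dvd_pow p hfm.le
        have hpw : ((p ^ f : ℕ) : ℤ) ∣ (w : ℤ) * z :=
          Dvd.dvd.mul_right (by exact_mod_cast hfw) z
        have := dvd_trans hpM h5
        exact (dvd_sub_right hpw).mp this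
      have h7 : p ^ f ∣ i * ∑ l' ∈ Finset.range l, (D.t ^ (p ^ (k - f))) ^ l' :=
        Int.natCast_dvd_natCast.mp h6
      have h8 : p ^ f ∣ ∑ l' ∈ Finset.range l, (D.t ^ (p ^ (k - f))) ^ l' :=
        (Nat.Coprime.pow_left f
          ((Nat.Prime.coprime_iff_not_dvd hp.out).mpr hpi)).dvd_of_dvd_mul_left h7
      exact (pow_dvd_geom_sum_iff hp.out hp2 _ hT l f).mp h8
    obtain ⟨hinf, hcard⟩ := factor_of_key (zpowers D.b) _ (p ^ f) hi hkey
    refine ⟨zpowers D.b, zpowers _, inferInstance, inferInstance, hinf, ?_⟩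
    rw [hcard, Nat.card_zpowers, D.card_eq, hk, hm]
    have hKb : p ^ k ∣ orderOf D.b := by
      rw [← hk, ← D.bpow_mem_iff, pow_orderOf_eq_one]; exact one_mem _
    have h9 : orderOf (D.b ^ (p ^ k)) = orderOf D.b / p ^ k := by
      rw [orderOf_pow, Nat.gcd_eq_right hKb]
    have h10 : orderOf (D.a ^ w) = p ^ (m - f) := by
      rw [orderOf_pow, hm, hww']
      have : Nat.gcd (p ^ m) (p ^ f * w') = p ^ f := by
        obtain ⟨d, rfl⟩ : ∃ d, m = f + d := ⟨m - f, by omega⟩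
        rw [pow_add, Nat.gcd_mul_left, Nat.Coprime.gcd_eq_one (Nat.Coprime.pow_left d
          ((Nat.Prime.coprime_iff_not_dvd hp.out).mpr hw'p)), mul_one]
      rw [this, Nat.pow_div hfm.le hp.out.pos]
    rw [hw, h10] at h9
    obtain ⟨q, hq⟩ := hKb
    rw [hq, Nat.mul_div_cancel_left _ (pow_pos hp.out.pos k)] at h9
    rw [hq, ← h9, mul_assoc, ← pow_add, Nat.sub_add_cancel hfm.le, mul_comm]

end MCData

end Cfsg.Agent.Helper64
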