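import Mathlib
import Cfsg.Agent.Lib.Helper64.Metacyclic4

set_option autoImplicit false

namespace Cfsg.Agent.Helper64

open Subgroup

/-- A group embedding in a metacyclic group is metacyclic. -/
theorem isMetacyclic_of_injective {Q R : Type*} [Group Q] [Group R] (f : Q →* R)
    (hf : Function.Injective f) (hR : Cfsg.IsMetacyclic R) : Cfsg.IsMetacyclic Q := by
  obtain ⟨N, hN, hNc, hRNc⟩ := hR
  have hMn : (N.comap f).Normal := hN.comap f
  have hMc : IsCyclic (N.comap f) := by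
    let φ : (N.comap f) →* N := f.subgroupComap N
    apply isCyclic_of_injective φ
    intro a b h
    apply Subtype.ext
    apply hf
    exact congrArg Subtype.val h
  have hQMc : IsCyclic (Q ⧸ (N.comap f)) := by
    let ψ : Q ⧸ (N.comap f) →* R ⧸ N := QuotientGroup.map (N.comap f) N f le_rfl
    apply isCyclic_of_injective ψ
    rw [injective_iff_map_eq_one]
    intro a ha
    induction a using QuotientGroup.induction_on with | _ x => ?_
    have ha' : ((f x : R) : R ⧸ N) = 1 := ha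
    rw [QuotientGroup.eq_one_iff] at ha'
    exact (QuotientGroup.eq_one_iff x).2 ha'
  exact ⟨N.comap f, hMn, hMc, hQMc⟩

theorem mc_arith3 {p : ℕ} (hp : p.Prime) (m k n j x : ℕ) (hnm : n ≤ m) (hnk : n ≤ k)
    (hx : ¬ (p ^ n / Nat.gcd (p ^ n) j) ∣ x) :
    (p ^ m / Nat.gcd (p ^ m) x) * (p ^ k / Nat.gcd (p ^ k) j) * p ^ n =
      p ^ m * p ^ k * ((p ^ n / Nat.gcd (p ^ n) j) / Nat.gcd (p ^ n / Nat.gcd (p ^ n) j) x) := by
  obtain ⟨vj, hvjk, hvj⟩ := (Nat.dvd_prime_pow hp).mp (Nat.gcd_dvd_left (p ^ k) j)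
  obtain ⟨vx, hvxm, hvx⟩ := (Nat.dvd_prime_pow hp).mp (Nat.gcd_dvd_left (p ^ m) x)
  have h1 := gcd_pow_of_gcd_pow hp hnk hvj
  rw [h1, Nat.pow_div (min_le_left _ _) hp.pos] at hx ⊢
  have h2 : vx < n - min n vj := by
    by_contra hcon
    push Not at hcon
    apply hx
    have h3 : p ^ vx ∣ x := hvx ▸ Nat.gcd_dvd_right (p ^ m) x
    exact dvd_trans (pow_dvd_pow p hcon) h3
  have h4 : Nat.gcd (p ^ (n - min n vj)) x = p ^ vx := by
    have h5 : Nat.gcd (p ^ (n - min n vj)) x = Nat.gcd (p ^ (n - min n vj)) (Nat.gcd (p ^ m) x) := by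
      rw [← Nat.gcd_assoc, Nat.gcd_eq_left (pow_dvd_pow p (by omega : n - min n vj ≤ m))]
    rw [h5, hvx, Nat.gcd_eq_right (pow_dvd_pow p h2.le)]
  rw [h4, hvx, hvj, Nat.pow_div hvxm hp.pos, Nat.pow_div hvjk hp.pos, Nat.pow_div h2.le hp.pos,
    ← pow_add, ← pow_add, ← pow_add, ← pow_add]
  congr 1
  rcases le_total n vj with h | h
  · rw [min_eq_left h] at h2; omega
  · rw [min_eq_right h] at h2 ⊢; omega

namespace MCData

variable {G : Type*} [Group G] [Finite G] (D : MCData G)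

/-- A subgroup of a metacyclic group carries metacyclic data compatible with the ambient data. -/
theorem exists_subgroup_data (R : Subgroup G) : ∃ (x e j : ℕ) (DR : MCData ↥R),
    (DR.a : G) = D.a ^ x ∧ (DR.b : G) = D.a ^ e * D.b ^ j ∧ DR.t = D.t ^ j ∧
    Nat.card R = orderOf (D.a ^ x) *
      ((zpowers D.a).index / Nat.gcd (zpowers D.a).index j) := by
  obtain ⟨e, j, hcR, hgenR, hcard⟩ := D.exists_gen_mod_A R
  haveI : IsCyclic ↥(R ⊓ zpowers D.a) := Subgroup.isCyclic_of_le (inf_le_right)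
  obtain ⟨⟨g0, hg0⟩, hgen0⟩ := IsCyclic.exists_generator (α := ↥(R ⊓ zpowers D.a))
  have hg0A : g0 ∈ zpowers D.a := hg0.2
  rw [← mem_powers_iff_mem_zpowers] at hg0A
  obtain ⟨x, hx⟩ := hg0A
  have hx' : D.a ^ x = g0 := hx
  have hmem : ∀ w ∈ R ⊓ zpowers D.a, ∃ i : ℕ, g0 ^ i = w := by
    intro w hw
    have h1 := hgen0 ⟨w, hw⟩
    rw [← mem_powers_iff_mem_zpowers] at h1
    obtain ⟨i, hi⟩ := h1
    refine ⟨i, ?_⟩
    have := congrArg Subtype.val hi
    simpa using this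
  have hcardA : Nat.card ↥(R ⊓ zpowers D.a) = orderOf g0 := by
    rw [← orderOf_eq_card_of_forall_mem_zpowers hgen0, ← Subgroup.orderOf_coe]
  have hconj : (D.a ^ e * D.b ^ j) * g0 * (D.a ^ e * D.b ^ j)⁻¹ = g0 ^ (D.t ^ j) :=
    D.conj_zpowers_a e j g0 hg0.2
  refine ⟨x, e, j, ⟨⟨g0, hg0.1⟩, ⟨_, hcR⟩, D.t ^ j, pow_pos D.ht j, Subtype.ext ?_, ?_⟩,
    hx'.symm, rfl, rfl, ?_⟩
  · simpa using hconj
  · intro r
    obtain ⟨k, hk⟩ := hgenR r r.2
    have hkR : (r : G) * ((D.a ^ e * D.b ^ j) ^ k)⁻¹ ∈ R :=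
      R.mul_mem r.2 (R.inv_mem (R.pow_mem hcR _))
    obtain ⟨i, hi⟩ := hmem _ ⟨hkR, hk⟩
    refine ⟨i, k, Subtype.ext ?_⟩
    simp only [Subgroup.coe_mul, Subgroup.coe_pow]
    rw [hi]; group
  · rw [hcard, hcardA, hx']

include D in
theorem index_commutator_subgroup {p : ℕ} [hp : Fact p.Prime] (hp2 : p ≠ 2) (hG : IsPGroup p G)
    (R : Subgroup G) (hR : ¬ IsMulCommutative ↥R) :
    (commutator ↥R).index = (commutator G).index := by
  obtain ⟨n, hGn⟩ : ∃ n, orderOf (D.a ^ (D.t - 1)) = p ^ n := (IsPGroup.iff_orderOf.mp hG) _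
  obtain ⟨m, hm⟩ : ∃ m, orderOf D.a = p ^ m := (IsPGroup.iff_orderOf.mp hG) _
  obtain ⟨k, hk⟩ : ∃ k, (zpowers D.a).index = p ^ k := by
    obtain ⟨N, hN⟩ := IsPGroup.iff_card.mp hG
    have h1 : (zpowers D.a).index ∣ p ^ N := hN ▸ Subgroup.index_dvd_card _
    obtain ⟨e, _, he⟩ := (Nat.dvd_prime_pow hp.out).mp h1
    exact ⟨e, he⟩
  have hnm : n ≤ m := by
    have h1 : p ^ n ∣ p ^ m := by rw [← hGn, ← hm]; exact orderOf_pow_dvd _
    exact (Nat.pow_dvd_pow_iff_le_right hp.out.one_lt).mp h1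
  have hnk : n ≤ k := by
    have h1 : p ^ n ∣ p ^ k := by
      have := D.orderOf_u_dvd_index
      rwa [D.orderOf_u_eq hp2 hG, hGn, hk] at this
    exact (Nat.pow_dvd_pow_iff_le_right hp.out.one_lt).mp h1
  have hidx : (commutator G).index * p ^ n = p ^ m * p ^ k := by
    rw [← hm, ← hk, ← D.card_eq, ← hGn, ← Nat.card_zpowers, ← D.commutator_eq,
      Subgroup.index_mul_card]
  obtain ⟨x, e, j, DR, ha, hb, ht, hcard⟩ := D.exists_subgroup_data R
  have ho := D.orderOf_apow_T hp2 hG n hGn j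
  have hcoe : ((DR.a ^ (DR.t - 1) : ↥R) : G) = (D.a ^ (D.t ^ j - 1)) ^ x := by
    rw [Subgroup.coe_pow, ha, ht, ← pow_mul, mul_comm, pow_mul]
  have hcardR' : Nat.card (commutator ↥R) =
      (p ^ n / Nat.gcd (p ^ n) j) / Nat.gcd (p ^ n / Nat.gcd (p ^ n) j) x := by
    rw [DR.commutator_eq, Nat.card_zpowers, ← Subgroup.orderOf_coe, hcoe, orderOf_pow, ho]
  have hxo : ¬ (p ^ n / Nat.gcd (p ^ n) j) ∣ x := by
    intro hdvd
    apply hR
    rw [← ho, orderOf_dvd_iff_pow_eq_one, ← hcoe] at hdvd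
    have h1 : DR.a ^ (DR.t - 1) = 1 := Subtype.ext hdvd
    refine ⟨⟨fun y z => ?_⟩⟩
    have := DR.comm_mem y z
    rw [h1, Subgroup.zpowers_one_eq_bot, Subgroup.mem_bot] at this
    calc y * z = (y * z * y⁻¹ * z⁻¹) * (z * y) := by group
      _ = z * y := by rw [this, one_mul]
  have h3 := mc_arith3 hp.out m k n j x hnm hnk hxo
  have h4 : Nat.card R * p ^ n = p ^ m * p ^ k * Nat.card (commutator ↥R) := by
    rw [hcard, orderOf_pow, hm, hk, hcardR', h3]
  have h5 : (commutator ↥R).index * Nat.card (commutator ↥R) = Nat.card R :=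
    Subgroup.index_mul_card _
  have hpos : 0 < Nat.card (commutator ↥R) * p ^ n :=
    Nat.mul_pos Nat.card_pos (pow_pos hp.out.pos n)
  apply Nat.eq_of_mul_eq_mul_right hpos
  calc (commutator ↥R).index * (Nat.card (commutator ↥R) * p ^ n)
      = Nat.card R * p ^ n := by rw [← mul_assoc, h5]
    _ = p ^ m * p ^ k * Nat.card (commutator ↥R) := h4
    _ = (commutator G).index * (Nat.card (commutator ↥R) * p ^ n) := by rw [← hidx]; ring

end MCData

end Cfsg.Agent.Helper64
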