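import Cfsg.Agent.Lib.Helper22.RankTwo
import Cfsg.Agent.Lib.Helper24.BlkBasic
import Cfsg.Agent.Lib.Helper11.ElemAb

set_option autoImplicit false

/-!
# (A1) of the S1423 lemma server of helper89: in a `p`-group of rank at least 3, every subgroup
of order `p` lies in an elementary abelian subgroup of order `p²`
-/

namespace Cfsg.Agent.Helper64.S1423A1

open Cfsg Subgroup

theorem exists_elemAb_sq_ge {G : Type*} [Group G] [Finite G] {p : ℕ} [Fact p.Prime]
    (S X : Subgroup G) (hS : IsPGroup p S) (hr : ¬ Cfsg.PRankLE p 2 ↥S) (hXS : X ≤ S)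
    (hX : Nat.card X = p) :
    ∃ A : Subgroup G, A ≤ S ∧ Cfsg.IsElementaryAbelian p A ∧ Nat.card A = p ^ 2 ∧ X ≤ A := by
  have hp : p.Prime := Fact.out
  obtain ⟨U', hU'n, hU'e, hU'c⟩ := Cfsg.Agent.Helper22.exists_normal_elemAb_sq p hS hr
  by_cases hXU : X ≤ U'.map S.subtype
  · refine ⟨U'.map S.subtype, Subgroup.map_subtype_le _, Cfsg.Agent.Helper10.elemAb_map hU'e _,
      ?_, hXU⟩
    rw [← hU'c]
    exact Nat.card_congr (Subgroup.equivMapOfInjective U' S.subtype S.subtype_injective).symm.toEquiv
  · have hU'ne : U' ≠ ⊥ := by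
      intro h
      rw [h, Subgroup.card_bot] at hU'c
      have : 1 < p ^ 2 := Nat.one_lt_pow (by norm_num) hp.one_lt
      omega
    obtain ⟨z, hzU, hz1, hzc⟩ :=
      Cfsg.Agent.Helper32.exists_ne_one_mem_center_of_normal hS U' hU'ne
    have hzS : ∀ s ∈ S, s * (z : G) = (z : G) * s := by
      intro s hs
      have := (Subgroup.mem_center_iff.mp hzc) ⟨s, hs⟩
      exact congrArg Subtype.val this
    have hzp : (z : G) ^ p = 1 := by
      have := hU'e.2 z hzU
      have h2 := congrArg Subtype.val this
      simpa using h2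
    have hz1' : (z : G) ≠ 1 := by
      intro h
      apply hz1
      exact Subtype.ext h
    have hzU' : (z : G) ∈ U'.map S.subtype := Subgroup.mem_map_of_mem S.subtype hzU
    have hzX : (z : G) ∉ X := by
      intro hzX
      apply hXU
      have hou : orderOf (z : G) = p := orderOf_eq_prime hzp hz1'
      have hcz : Nat.card (Subgroup.zpowers (z : G)) = p := by rw [Nat.card_zpowers, hou]
      have hle : Subgroup.zpowers (z : G) ≤ X := by rw [Subgroup.zpowers_le]; exact hzX
      have heq : Subgroup.zpowers (z : G) = X :=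
        Subgroup.eq_of_le_of_card_ge hle (by rw [hX, hcz])
      rw [← heq, Subgroup.zpowers_le]
      exact hzU'
    have hXe : Cfsg.IsElementaryAbelian p X := by
      rw [Cfsg.Agent.Helper10.isElementaryAbelian_iff]
      constructor
      · intro a ha b hb
        have : IsCyclic ↥X := isCyclic_of_prime_card hX
        obtain ⟨g, hg⟩ := IsCyclic.exists_generator (α := ↥X)
        obtain ⟨i, hi⟩ := Subgroup.mem_zpowers_iff.mp (hg ⟨a, ha⟩)
        obtain ⟨j, hj⟩ := Subgroup.mem_zpowers_iff.mp (hg ⟨b, hb⟩)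
        have h1 : (⟨a, ha⟩ : ↥X) * ⟨b, hb⟩ = ⟨b, hb⟩ * ⟨a, ha⟩ := by
          rw [← hi, ← hj, ← zpow_add, ← zpow_add, add_comm]
        exact congrArg Subtype.val h1
      · intro a ha
        have h1 : (⟨a, ha⟩ : ↥X) ^ Nat.card X = 1 := pow_card_eq_one'
        rw [hX] at h1
        have h2 := congrArg Subtype.val h1
        simpa using h2
    have hzN : (z : G) ∈ Subgroup.normalizer (X : Set G) := by
      rw [Subgroup.mem_normalizer_iff]
      intro h
      constructor
      · intro hh
        have := hzS h (hXS hh)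
        have e : (z : G) * h * (z : G)⁻¹ = h := by rw [← this, mul_inv_cancel_right]
        rw [e]; exact hh
      · intro hh
        have h3 := hzS _ (hXS hh)
        have h4 : (z : G) * h = (z : G) * ((z : G) * h * (z : G)⁻¹) := by
          rw [← h3]; group
        have e : (z : G) * h * (z : G)⁻¹ = h := (mul_left_cancel h4).symm
        rw [e] at hh; exact hh
    refine ⟨X ⊔ Subgroup.zpowers (z : G), sup_le hXS (by rw [Subgroup.zpowers_le]; exact z.2),
      Cfsg.Agent.Helper11.isElementaryAbelian_sup_zpowers hXe (fun a ha => hzS a (hXS ha)) hzp,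
      ?_, le_sup_left⟩
    rw [Cfsg.Agent.Helper24.Blk.card_sup_zpowers X (z : G) hzN hzX hzp, hX]
    ring

end Cfsg.Agent.Helper64.S1423A1
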