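import Cfsg.Agent.Lib.Helper64.BG139Q4a

set_option autoImplicit false

/-!
# (Q4) of the S1378 setup of helper21, with the S1405 input as a hypothesis
-/

namespace Cfsg.Agent.Helper64.BG139

open Cfsg Subgroup

/-- `M = M_α N_M(S)` for a Sylow `q`-subgroup `S ≤ M'` of `G`, given that the image of `M'` in
`M / M_α` is nilpotent (the last clause of S1405). -/
theorem factor_alpha_of {G : Type*} [Group G] [Finite G] (M : Subgroup G) (q : ℕ)
    [Fact q.Prime] (S : Sylow q G) (hSM' : (S : Subgroup G) ≤ ⁅M, M⁆)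
    (hnil : Group.IsNilpotent
      ↥((commutator ↥M).map (QuotientGroup.mk' (Cfsg.piCore (Cfsg.alpha M) ↥M)))) :
    alphaCore M ⊔ (M ⊓ normalizer ((S : Subgroup G) : Set G)) = M := by
  have hcomm : (commutator ↥M).map M.subtype = ⁅M, M⁆ := Subgroup.map_subtype_commutator M
  have hSM : (S : Subgroup G) ≤ M := by
    rw [← hcomm] at hSM'; exact hSM'.trans (Subgroup.map_subtype_le _)
  have hS : ((S.subtype hSM : Sylow q ↥M) : Subgroup ↥M) ≤ commutator ↥M := by
    intro x hx
    rw [Sylow.coe_subtype, Subgroup.mem_subgroupOf] at hx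
    have h1 := hSM' hx
    rw [← hcomm] at h1
    obtain ⟨y, hy, hyx⟩ := Subgroup.mem_map.1 h1
    have : y = x := Subtype.ext hyx
    rw [← this]; exact hy
  have key := normalizer_sup_eq_top_of_nilpotent_image (piCore (alpha M) ↥M) (S.subtype hSM) hS
    hnil
  apply le_antisymm
  · apply sup_le
    · exact Subgroup.map_subtype_le _
    · exact inf_le_left
  · intro m hm
    have h1 : (⟨m, hm⟩ : ↥M) ∈ normalizer (((S.subtype hSM : Sylow q ↥M) : Subgroup ↥M) : Set ↥M)
        ⊔ piCore (alpha M) ↥M := by rw [key]; exact Subgroup.mem_top _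
    rw [← SetLike.mem_coe, Subgroup.mul_normal] at h1
    obtain ⟨n, hn, k, hk, hnk⟩ := Set.mem_mul.1 h1
    have hm_eq : m = (n : G) * (k : G) := by
      have := congrArg Subtype.val hnk
      simpa using this.symm
    rw [hm_eq]
    apply Subgroup.mul_mem
    · apply Subgroup.mem_sup_right
      refine ⟨n.2, ?_⟩
      have h2 : n ∈ (normalizer ((S : Subgroup G) : Set G)).subgroupOf M := by
        rw [Subgroup.subgroupOf_normalizer_eq hSM]; exact hn
      exact Subgroup.mem_subgroupOf.1 h2
    · apply Subgroup.mem_sup_left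
      exact Subgroup.mem_map_of_mem M.subtype hk

end Cfsg.Agent.Helper64.BG139
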