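import Mathlib
import Cfsg.Prelude.Def_OddOrderLocal

set_option autoImplicit false

/-!
# A Frattini argument modulo a normal subgroup with nilpotent derived image
(generic part of (Q4) of the S1378 setup of helper21)
-/

namespace Cfsg.Agent.Helper64.BG139

open Subgroup

/-- If the image of the derived subgroup in `M ⧸ K` is nilpotent and the Sylow `q`-subgroup `S`
lies in the derived subgroup, then `M = N_M(S) K`. -/
theorem normalizer_sup_eq_top_of_nilpotent_image {M : Type*} [Group M] [Finite M]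
    (K : Subgroup M) [K.Normal] {q : ℕ} [Fact q.Prime] (S : Sylow q M)
    (hS : (S : Subgroup M) ≤ commutator M)
    (hnil : Group.IsNilpotent ↥((commutator M).map (QuotientGroup.mk' K))) :
    normalizer ((S : Subgroup M) : Set M) ⊔ K = ⊤ := by
  classical
  have hπ : Function.Surjective (QuotientGroup.mk' K) := QuotientGroup.mk'_surjective K
  obtain ⟨Db, hDb⟩ : ∃ Db : Subgroup (M ⧸ K), Db = (commutator M).map (QuotientGroup.mk' K) :=
    ⟨_, rfl⟩
  have hDbn : Db.Normal := by
    rw [hDb]
    exact Subgroup.Normal.map (inferInstance : (commutator M).Normal) _ hπ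
  have hDbnil : Group.IsNilpotent ↥Db := by rw [hDb]; exact hnil
  obtain ⟨Sb, hSbdef⟩ : ∃ Sb : Sylow q (M ⧸ K), Sb = S.mapSurjective hπ := ⟨_, rfl⟩
  have hSb : (Sb : Subgroup (M ⧸ K)) = (S : Subgroup M).map (QuotientGroup.mk' K) := by
    rw [hSbdef]; exact Sylow.coe_mapSurjective hπ S
  have hle : (Sb : Subgroup (M ⧸ K)) ≤ Db := by
    rw [hSb, hDb]; exact Subgroup.map_mono hS
  have hn1 : ((Sb.subtype hle : Sylow q ↥Db) : Subgroup ↥Db).Normal := inferInstance
  have hc1 : ((Sb.subtype hle : Sylow q ↥Db) : Subgroup ↥Db).Characteristic :=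
    Sylow.characteristic_of_normal _ hn1
  have hnorm : (((Sb.subtype hle : Sylow q ↥Db) : Subgroup ↥Db).map Db.subtype).Normal :=
    ConjAct.normal_of_characteristic_of_normal
  have hSd : ((Sb.subtype hle : Sylow q ↥Db) : Subgroup ↥Db).map Db.subtype
      = (Sb : Subgroup (M ⧸ K)) := by
    rw [Sylow.coe_subtype, Subgroup.subgroupOf_map_subtype, inf_eq_left.2 hle]
  rw [hSd] at hnorm
  obtain ⟨T, hTdef⟩ : ∃ T : Subgroup M, T = (Sb : Subgroup (M ⧸ K)).comap (QuotientGroup.mk' K) :=
    ⟨_, rfl⟩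
  have hTn : T.Normal := by rw [hTdef]; exact hnorm.comap _
  have hT : T = (S : Subgroup M) ⊔ K := by
    rw [hTdef, hSb, Subgroup.comap_map_eq, QuotientGroup.ker_mk']
  have hST : (S : Subgroup M) ≤ T := by rw [hT]; exact le_sup_left
  have hfr := Sylow.normalizer_sup_eq_top (S.subtype hST)
  have e1 : ((S.subtype hST : Sylow q T) : Subgroup T).map T.subtype = S := by
    rw [Sylow.coe_subtype, Subgroup.subgroupOf_map_subtype, inf_eq_left.2 hST]
  rw [e1, hT, ← sup_assoc, sup_eq_left.2 (Subgroup.le_normalizer)] at hfr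
  exact hfr

end Cfsg.Agent.Helper64.BG139
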