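import Mathlib
import Cfsg.Agent.Lib.Helper52.Coprime
import Cfsg.Agent.Lib.Helper24.Averaging
import Cfsg.Agent.Lib.Helper32.PGroupCenter

set_option autoImplicit false

/-!
# (L4-E1) the pure endgame of the CONFIG A kill in BG 14.2 (request of helper51)
-/

namespace Cfsg.Agent.Helper64.BG142End

open Subgroup

variable {G : Type*} [Group G]

lemma mem_sup_decomp {X Y : Subgroup G} (h : Y ≤ normalizer (X : Set G)) {g : G}
    (hg : g ∈ X ⊔ Y) : ∃ x ∈ X, ∃ y ∈ Y, g = x * y := by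
  rw [sup_eq_closure] at hg
  induction hg using Subgroup.closure_induction with
  | mem g hg =>
    rcases hg with hg | hg
    · exact ⟨g, hg, 1, Y.one_mem, (mul_one g).symm⟩
    · exact ⟨1, X.one_mem, g, hg, (one_mul g).symm⟩
  | one => exact ⟨1, X.one_mem, 1, Y.one_mem, (mul_one 1).symm⟩
  | mul a b _ _ ha hb =>
    obtain ⟨x1, hx1, y1, hy1, rfl⟩ := ha
    obtain ⟨x2, hx2, y2, hy2, rfl⟩ := hb
    refine ⟨x1 * (y1 * x2 * y1⁻¹),
      X.mul_mem hx1 ((Subgroup.mem_normalizer_iff.mp (h hy1) x2).mp hx2), y1 * y2,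
      Y.mul_mem hy1 hy2, by group⟩
  | inv a _ ha =>
    obtain ⟨x, hx, y, hy, rfl⟩ := ha
    refine ⟨y⁻¹ * x⁻¹ * y⁻¹⁻¹,
      (Subgroup.mem_normalizer_iff.mp (h (Y.inv_mem hy)) x⁻¹).mp (X.inv_mem hx), y⁻¹,
      Y.inv_mem hy, by group⟩

lemma le_normalizer_of_conj_mem {A K : Subgroup G}
    (h : ∀ a ∈ A, ∀ k ∈ K, a * k * a⁻¹ ∈ K) : A ≤ normalizer (K : Set G) := by
  intro a ha
  rw [Subgroup.mem_normalizer_iff]
  intro k
  constructor
  · exact h a ha k
  · intro hk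
    have := h a⁻¹ (A.inv_mem ha) _ hk
    have e : a⁻¹ * (a * k * a⁻¹) * a⁻¹⁻¹ = k := by group
    rwa [e] at this

/-- in an `r`-group, the normalizer of a subgroup of order `r` centralizes it -/
lemma inf_normalizer_le_centralizer [Finite G] {r : ℕ} [Fact r.Prime] {S A0 : Subgroup G}
    (hS : IsPGroup r S) (hA0S : A0 ≤ S) (hA0 : Nat.card A0 = r) :
    S ⊓ normalizer (A0 : Set G) ≤ centralizer (A0 : Set G) := by
  have hr : r.Prime := Fact.out
  obtain ⟨R, hRdef⟩ : ∃ R : Subgroup G, R = S ⊓ normalizer (A0 : Set G) := ⟨_, rfl⟩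
  rw [← hRdef]
  have hA0R : A0 ≤ R := by rw [hRdef]; exact le_inf hA0S le_normalizer
  have hRp : IsPGroup r R := by rw [hRdef]; exact hS.to_le inf_le_left
  have hnorm : (A0.subgroupOf R).Normal := by
    rw [Subgroup.normal_subgroupOf_iff_le_normalizer hA0R, hRdef]
    exact inf_le_right
  have hne : A0.subgroupOf R ≠ ⊥ := by
    intro h
    rw [Subgroup.subgroupOf_eq_bot, disjoint_iff, inf_eq_left.2 hA0R] at h
    rw [h, Subgroup.card_bot] at hA0
    exact hr.one_lt.ne hA0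
  obtain ⟨z, hzA, hz1, hzc⟩ :=
    Cfsg.Agent.Helper32.exists_ne_one_mem_center_of_normal hRp (A0.subgroupOf R) hne
  have hzA' : (z : G) ∈ A0 := Subgroup.mem_subgroupOf.1 hzA
  have hz1' : (z : G) ≠ 1 := fun h => hz1 (Subtype.ext h)
  have hzp : (z : G) ^ r = 1 := by
    have h1 : (⟨(z : G), hzA'⟩ : ↥A0) ^ Nat.card A0 = 1 := pow_card_eq_one'
    rw [hA0] at h1
    have h2 := congrArg Subtype.val h1
    simpa using h2
  have hou : orderOf (z : G) = r := orderOf_eq_prime hzp hz1'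
  have heq : Subgroup.zpowers (z : G) = A0 := by
    apply Subgroup.eq_of_le_of_card_ge
    · rw [Subgroup.zpowers_le]; exact hzA'
    · rw [hA0, Nat.card_zpowers, hou]
  intro x hx
  rw [Subgroup.mem_centralizer_iff]
  intro a ha
  rw [SetLike.mem_coe, ← heq] at ha
  obtain ⟨k, rfl⟩ := Subgroup.mem_zpowers_iff.mp ha
  have h1 : (⟨x, hx⟩ : ↥R) * z = z * ⟨x, hx⟩ := (Subgroup.mem_center_iff.mp hzc ⟨x, hx⟩)
  have h2 : x * (z : G) = (z : G) * x := congrArg Subtype.val h1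
  exact ((Commute.zpow_right (show Commute x (z : G) from h2) k).eq).symm

theorem configA_endgame {G : Type*} [Group G] [Finite G] (r : ℕ) [Fact r.Prime]
    (S V X A A0 T : Subgroup G)
    (hS : IsPGroup r S) (hVS : V ≤ normalizer (S : Set G))
    (hcop : (Nat.card V).Coprime (Nat.card S))
    (hSV : S ≤ ⁅S, V⁆)
    (hXV : X ≤ V)
    (hAS : A ≤ S) (hA0A : A0 ≤ A) (hA0 : Nat.card A0 = r)
    (hXA0 : X ≤ centralizer (A0 : Set G))
    (hAX : A ⊓ centralizer (X : Set G) ≤ A0)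
    (hP0c : ∀ x ∈ S ⊓ centralizer (A0 : Set G), ∀ y ∈ S ⊓ centralizer (A0 : Set G), x * y = y * x)
    (hP0o : ∀ x ∈ S ⊓ centralizer (A0 : Set G), x ^ r = 1 → x ∈ A)
    (hN : ∀ v ∈ V, v ∈ normalizer (A0 : Set G) → v ∈ centralizer (A0 : Set G))
    (hTS : T ≤ S) (hST : S ≤ normalizer (T : Set G)) (hTV : V ≤ normalizer (T : Set G))
    (hTc : ⁅S, S⁆ ≤ T) (hTp : ∀ y ∈ S, y ^ r ∈ T)
    (hA0T : A0 ⊓ T = ⊥)
    (h5 : S ≤ A0 ⊔ T ∨ ⁅V, V⁆ ≤ centralizer (S : Set G)) : False := by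
  have hr : r.Prime := Fact.out
  have hA0S : A0 ≤ S := hA0A.trans hAS
  -- normalizer memberships, in conjugation form
  have hVSc : ∀ v ∈ V, ∀ s ∈ S, v * s * v⁻¹ ∈ S := fun v hv s hs =>
    (Subgroup.mem_normalizer_iff.mp (hVS hv) s).mp hs
  have hVTc : ∀ v ∈ V, ∀ t ∈ T, v * t * v⁻¹ ∈ T := fun v hv t ht =>
    (Subgroup.mem_normalizer_iff.mp (hTV hv) t).mp ht
  have hSTc : ∀ s ∈ S, ∀ t ∈ T, s * t * s⁻¹ ∈ T := fun s hs t ht =>
    (Subgroup.mem_normalizer_iff.mp (hST hs) t).mp ht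
  -- `A0` and `X` commute
  have hXa : ∀ x ∈ X, ∀ a ∈ A0, a * x = x * a := fun x hx a ha =>
    (Subgroup.mem_centralizer_iff.mp (hXA0 hx) a ha)
  have hA0X : A0 ≤ centralizer (X : Set G) := by
    intro a ha
    rw [Subgroup.mem_centralizer_iff]
    intro x hx
    exact (hXa x hx a ha).symm
  -- `A0` is abelian
  have hA0c : A0 ≤ centralizer (A0 : Set G) := by
    have hcyc : IsCyclic ↥A0 := isCyclic_of_prime_card hA0
    intro a ha
    rw [Subgroup.mem_centralizer_iff]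
    intro b hb
    obtain ⟨g, hg⟩ := IsCyclic.exists_generator (α := ↥A0)
    obtain ⟨i, hi⟩ := Subgroup.mem_zpowers_iff.mp (hg ⟨a, ha⟩)
    obtain ⟨j, hj⟩ := Subgroup.mem_zpowers_iff.mp (hg ⟨b, hb⟩)
    have h1 : (⟨b, hb⟩ : ↥A0) * ⟨a, ha⟩ = ⟨a, ha⟩ * ⟨b, hb⟩ := by
      rw [← hi, ← hj, ← zpow_add, ← zpow_add, add_comm]
    exact congrArg Subtype.val h1
  -- (4) `S ⊓ C(X) = A0`
  have hB : S ⊓ centralizer (X : Set G) ⊓ centralizer (A0 : Set G) ≤ A0 := by
    rintro b ⟨⟨hbS, hbX⟩, hbA0⟩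
    have hker : ∀ y : G, y ∈ S → y ∈ centralizer (X : Set G) → y ∈ centralizer (A0 : Set G) →
        y ^ r = 1 → y ∈ A0 := fun y hyS hyX hyA hyr =>
      hAX ⟨hP0o y ⟨hyS, hyA⟩ hyr, hyX⟩
    obtain ⟨k, hk⟩ := hS ⟨b, hbS⟩
    have hk' : b ^ r ^ k = 1 := by
      have := congrArg Subtype.val hk
      simpa using this
    have hex : ∃ k : ℕ, b ^ r ^ k = 1 := ⟨k, hk'⟩
    classical
    obtain ⟨m, hm⟩ : ∃ m : ℕ, m = Nat.find hex := ⟨_, rfl⟩
    have hmspec : b ^ r ^ m = 1 := by rw [hm]; exact Nat.find_spec hex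
    have hmmin : ∀ n < m, b ^ r ^ n ≠ 1 := by
      intro n hn; rw [hm] at hn; exact Nat.find_min hex hn
    by_cases hm1 : m ≤ 1
    · apply hker b hbS hbX hbA0
      interval_cases m
      · rw [pow_zero, pow_one] at hmspec
        rw [hmspec, one_pow]
      · rwa [pow_one] at hmspec
    · exfalso
      push Not at hm1
      obtain ⟨n, rfl⟩ : ∃ n, m = n + 2 := ⟨m - 2, by omega⟩
      have hz1 : b ^ r ^ (n + 1) ≠ 1 := hmmin (n + 1) (by omega)
      have hzr : (b ^ r ^ (n + 1)) ^ r = 1 := by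
        rw [← pow_mul, ← pow_succ]; exact hmspec
      have hzT : b ^ r ^ (n + 1) ∈ T := by
        have := hTp (b ^ r ^ n) (S.pow_mem hbS _)
        rwa [← pow_mul, ← pow_succ] at this
      have hzA0 : b ^ r ^ (n + 1) ∈ A0 :=
        hker _ (S.pow_mem hbS _) (Subgroup.pow_mem _ hbX _) (Subgroup.pow_mem _ hbA0 _) hzr
      have : b ^ r ^ (n + 1) ∈ A0 ⊓ T := ⟨hzA0, hzT⟩
      rw [hA0T, Subgroup.mem_bot] at this
      exact hz1 this
  have hD : S ⊓ centralizer (X : Set G) = A0 := by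
    apply le_antisymm _ (le_inf hA0S hA0X)
    obtain ⟨D, hDdef⟩ : ∃ D : Subgroup G, D = S ⊓ centralizer (X : Set G) := ⟨_, rfl⟩
    rw [← hDdef]
    have hA0D : A0 ≤ D := by rw [hDdef]; exact le_inf hA0S hA0X
    have hDp : IsPGroup r D := by rw [hDdef]; exact hS.to_le inf_le_left
    have hDN : D ⊓ normalizer (A0 : Set G) ≤ A0 := by
      intro d hd
      have hdS : d ∈ S := by have := hd.1; rw [hDdef] at this; exact this.1
      have hdX : d ∈ centralizer (X : Set G) := by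
        have := hd.1; rw [hDdef] at this; exact this.2
      have h1 : d ∈ centralizer (A0 : Set G) :=
        inf_normalizer_le_centralizer hS hA0S hA0 ⟨hdS, hd.2⟩
      exact hB ⟨⟨hdS, hdX⟩, h1⟩
    have hnil : Group.IsNilpotent ↥D := hDp.isNilpotent
    have hNC := (normalizerCondition_iff_only_full_group_self_normalizing (G := ↥D)).mp
      Group.normalizerCondition_of_isNilpotent (A0.subgroupOf D)
    have h2 : normalizer ((A0.subgroupOf D : Subgroup ↥D) : Set ↥D) = A0.subgroupOf D := by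
      apply le_antisymm _ le_normalizer
      intro x hx
      rw [← Subgroup.subgroupOf_normalizer_eq hA0D, Subgroup.mem_subgroupOf] at hx
      rw [Subgroup.mem_subgroupOf]
      exact hDN ⟨x.2, hx⟩
    have h3 := hNC h2
    rwa [Subgroup.subgroupOf_eq_top] at h3
  -- (5) `V` normalizes `A0`
  have hVN : V ≤ normalizer (A0 : Set G) := by
    rcases h5 with h5 | h5
    · -- `S = A0 T`
      let V0 : Subgroup G :=
        { carrier := {v | v ∈ V ∧ ∀ s ∈ S, s * v * s⁻¹ * v⁻¹ ∈ T}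
          one_mem' := ⟨V.one_mem, fun s _ => by
            have e : s * 1 * s⁻¹ * (1 : G)⁻¹ = 1 := by group
            rw [e]; exact T.one_mem⟩
          mul_mem' := by
            rintro v w ⟨hv, hv'⟩ ⟨hw, hw'⟩
            refine ⟨V.mul_mem hv hw, fun s hs => ?_⟩
            have e : s * (v * w) * s⁻¹ * (v * w)⁻¹
                = (s * v * s⁻¹ * v⁻¹) * (v * (s * w * s⁻¹ * w⁻¹) * v⁻¹) := by group
            rw [e]
            exact T.mul_mem (hv' s hs) (hVTc v hv _ (hw' s hs))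
          inv_mem' := by
            rintro v ⟨hv, hv'⟩
            refine ⟨V.inv_mem hv, fun s hs => ?_⟩
            have e : s * v⁻¹ * s⁻¹ * v⁻¹⁻¹ = v⁻¹ * (s * v * s⁻¹ * v⁻¹)⁻¹ * v⁻¹⁻¹ := by group
            rw [e]
            exact hVTc v⁻¹ (V.inv_mem hv) _ (T.inv_mem (hv' s hs)) }
      have hV0mem : ∀ v : G, v ∈ V0 ↔ v ∈ V ∧ ∀ s ∈ S, s * v * s⁻¹ * v⁻¹ ∈ T := fun v => Iff.rfl
      have hV0V : V0 ≤ V := fun v hv => ((hV0mem v).1 hv).1
      have hXV0 : X ≤ V0 := by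
        intro x hx
        rw [hV0mem]
        refine ⟨hXV hx, fun s hs => ?_⟩
        have hs' : s ∈ T ⊔ A0 := by rw [sup_comm]; exact h5 hs
        obtain ⟨t, ht, a, ha, rfl⟩ := mem_sup_decomp (hA0S.trans hST) hs'
        have hax : a * x = x * a := hXa x hx a ha
        have e : t * a * x * (t * a)⁻¹ * x⁻¹ = t * (x * t⁻¹ * x⁻¹) := by
          have e1 : t * a * x * (t * a)⁻¹ * x⁻¹ = t * (a * x) * a⁻¹ * t⁻¹ * x⁻¹ := by group
          rw [e1, hax]; group
        rw [e]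
        exact T.mul_mem ht (hVTc x (hXV hx) _ (T.inv_mem ht))
      have hVV0 : ∀ v ∈ V, ∀ w ∈ V0, v * w * v⁻¹ ∈ V0 := by
        intro v hv w hw
        rw [hV0mem] at hw ⊢
        refine ⟨V.mul_mem (V.mul_mem hv hw.1) (V.inv_mem hv), fun s hs => ?_⟩
        have hs' : v⁻¹ * s * v⁻¹⁻¹ ∈ S := hVSc v⁻¹ (V.inv_mem hv) s hs
        have e : s * (v * w * v⁻¹) * s⁻¹ * (v * w * v⁻¹)⁻¹
            = v * ((v⁻¹ * s * v⁻¹⁻¹) * w * (v⁻¹ * s * v⁻¹⁻¹)⁻¹ * w⁻¹) * v⁻¹ := by group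
        rw [e]
        exact hVTc v hv _ (hw.2 _ hs')
      -- `A0 = S ⊓ C(V0)`
      have hTsolv : Group.IsSolvable ↥T := by
        have : Group.IsNilpotent ↥T := (hS.to_le hTS).isNilpotent
        infer_instance
      have hcop0 : (Nat.card V0).Coprime (Nat.card S) :=
        Nat.Coprime.coprime_dvd_left (Subgroup.card_dvd_of_le hV0V) hcop
      have hA0V0 : A0 ≤ centralizer (V0 : Set G) := by
        intro a0 ha0
        obtain ⟨n, hn, c, hc, hnc⟩ := Cfsg.Agent.Helper52.exists_mul_centralizer_of_comm_mem S T V0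
          hTS (hV0V.trans hVS) (hV0V.trans hTV) hcop0 (Or.inl hTsolv) a0 (hA0S ha0)
          (fun v hv => ((hV0mem v).1 hv).2 a0 (hA0S ha0))
        have hcA0 : c ∈ A0 := by
          rw [← hD]
          exact ⟨hc.1, Subgroup.centralizer_le (by exact_mod_cast hXV0) hc.2⟩
        have hnA0 : n ∈ A0 := by
          have e : n = a0 * c⁻¹ := by rw [hnc]; group
          rw [e]; exact A0.mul_mem ha0 (A0.inv_mem hcA0)
        have hn1 : n = 1 := by
          have : n ∈ A0 ⊓ T := ⟨hnA0, hn⟩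
          rwa [hA0T, Subgroup.mem_bot] at this
        rw [hnc, hn1, one_mul]
        exact hc.2
      have hA0eq : A0 = S ⊓ centralizer (V0 : Set G) := by
        apply le_antisymm (le_inf hA0S hA0V0)
        rw [← hD]
        exact inf_le_inf_left S (Subgroup.centralizer_le (by exact_mod_cast hXV0))
      apply le_normalizer_of_conj_mem
      intro v hv a ha
      rw [hA0eq] at ha ⊢
      rw [Subgroup.mem_inf]
      refine ⟨hVSc v hv a ha.1, ?_⟩
      rw [Subgroup.mem_centralizer_iff]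
      intro w hw
      have hw' : v⁻¹ * w * v⁻¹⁻¹ ∈ V0 := hVV0 v⁻¹ (V.inv_mem hv) w hw
      have h1 := Subgroup.mem_centralizer_iff.mp ha.2 _ hw'
      have e1 : w * (v * a * v⁻¹) = v * ((v⁻¹ * w * v⁻¹⁻¹) * a) * v⁻¹ := by group
      have e2 : v * a * v⁻¹ * w = v * (a * (v⁻¹ * w * v⁻¹⁻¹)) * v⁻¹ := by group
      rw [e1, e2, h1]
    · -- `V' ≤ C(S)`
      apply le_normalizer_of_conj_mem
      intro v hv a ha
      rw [← hD, Subgroup.mem_inf]
      refine ⟨hVSc v hv a (hA0S ha), ?_⟩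
      rw [Subgroup.mem_centralizer_iff]
      intro x hx
      have hc : v⁻¹ * x * v⁻¹⁻¹ * x⁻¹ ∈ centralizer (S : Set G) :=
        h5 (Subgroup.commutator_mem_commutator (V.inv_mem hv) (hXV hx))
      have h1 : a * (v⁻¹ * x * v⁻¹⁻¹ * x⁻¹) = (v⁻¹ * x * v⁻¹⁻¹ * x⁻¹) * a :=
        Subgroup.mem_centralizer_iff.mp hc a (hA0S ha)
      have h2 : a * x = x * a := hXa x hx a ha
      have e1 : x * (v * a * v⁻¹) = v * ((v⁻¹ * x * v⁻¹⁻¹ * x⁻¹) * (x * a)) * v⁻¹ := by group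
      have e2 : v * a * v⁻¹ * x = v * ((a * (v⁻¹ * x * v⁻¹⁻¹ * x⁻¹)) * x) * v⁻¹ := by group
      rw [e1, e2, h1, ← h2]
      group
  -- (6) the averaging argument
  have hVC : V ≤ centralizer (A0 : Set G) := fun v hv => hN v hv (hVN hv)
  have hA0CV : A0 ≤ centralizer (V : Set G) := by
    intro a ha
    rw [Subgroup.mem_centralizer_iff]
    intro v hv
    exact (Subgroup.mem_centralizer_iff.mp (hVC hv) a ha).symm
  have h6 : A0 ≤ T := by
    intro a ha
    apply hTc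
    apply Cfsg.Agent.Helper24.inf_centralizer_inf_commutator_le S V hVS hcop.symm
    exact ⟨⟨hA0S ha, hA0CV ha⟩, hSV (hA0S ha)⟩
  have h7 : A0 = ⊥ := by rw [← hA0T]; exact (inf_eq_left.2 h6).symm
  rw [h7, Subgroup.card_bot] at hA0
  exact hr.one_lt.ne hA0

end Cfsg.Agent.Helper64.BG142End
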