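import Mathlib
import Cfsg.Agent.Lib.Helper32.N9Defs
import Cfsg.Agent.Lib.Helper20.LocalIdx

set_option autoImplicit false

/-!
# N9 piece (Q1) for helper32 (S4409): an element acting on a normal `Q8` compatibly with an
odd-order automorphism induces an inner automorphism.
-/

namespace Cfsg.Agent.Helper64.N9

open Cfsg Cfsg.Agent.Helper32.N9

universe u

set_option maxRecDepth 100000 in
theorem perm3_pow_six : ∀ A : Equiv.Perm (Fin 3), A ^ 6 = 1 := by decide

set_option maxRecDepth 100000 in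
theorem perm3_comm : ∀ A : Equiv.Perm (Fin 3), ∀ B : Equiv.Perm (Fin 3),
    (A ^ 3 = 1 ∧ ¬ (A = 1) ∧ B ^ 2 = 1 ∧ A * B = B * A) → B = 1 := by decide

/-- in `Aut` of a group of order 4, a 2-element commuting with a nontrivial element of odd order
is trivial. -/
theorem aut_v4_two_elt_comm {V : Type*} [Group V] (h4 : Nat.card V = 4) (a b : MulAut V)
    (m k : ℕ) (hm : Odd m) (ham : a ^ m = 1) (ha : a ≠ 1) (hbk : b ^ 2 ^ k = 1)
    (hab : a * b = b * a) : b = 1 := by
  classical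
  have : Finite V := Nat.finite_of_card_ne_zero (by omega)
  have : Fintype V := Fintype.ofFinite V
  have hV : Fintype.card V = 4 := by rw [← Nat.card_eq_fintype_card]; exact h4
  have h3 : Fintype.card {v : V // v ≠ 1} = 3 := by
    have : Fintype.card {v : V // ¬ (v = 1)} = 3 := by
      rw [Fintype.card_subtype_compl, Fintype.card_subtype_eq, hV]
    exact this
  let e3 : {v : V // v ≠ 1} ≃ Fin 3 := Fintype.equivFinOfCardEq h3
  let Φ : MulAut V →* Equiv.Perm (Fin 3) :=
    e3.permCongrHom.toMonoidHom.comp Cfsg.Agent.Helper20.autToPermNe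
  have hΦ : Function.Injective Φ :=
    e3.permCongrHom.injective.comp Cfsg.Agent.Helper20.autToPermNe_injective
  have hA3 : (Φ a) ^ 3 = 1 := by
    have h1 : (Φ a) ^ m = 1 := by rw [← map_pow, ham, map_one]
    have h2 := perm3_pow_six (Φ a)
    have h3 : (Φ a) ^ (Nat.gcd m 6) = 1 := pow_gcd_eq_one.mpr ⟨h1, h2⟩
    have hodd : Odd (Nat.gcd m 6) := hm.of_dvd_nat (Nat.gcd_dvd_left m 6)
    have hcop : Nat.Coprime (Nat.gcd m 6) 2 := Nat.coprime_two_right.mpr hodd
    have h4 : Nat.gcd m 6 ∣ 3 :=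
      hcop.dvd_of_dvd_mul_right (by simpa using Nat.gcd_dvd_right m 6)
    obtain ⟨q, hq⟩ := h4
    have h5 : (Φ a) ^ 3 = ((Φ a) ^ (Nat.gcd m 6)) ^ q := by rw [← pow_mul, ← hq]
    rw [h5, h3, one_pow]
  have hB2 : (Φ b) ^ 2 = 1 := by
    have h1 : (Φ b) ^ 2 ^ k = 1 := by rw [← map_pow, hbk, map_one]
    have h2 := perm3_pow_six (Φ b)
    have h3 : (Φ b) ^ (Nat.gcd (2 ^ k) 6) = 1 := pow_gcd_eq_one.mpr ⟨h1, h2⟩
    have hcop : Nat.Coprime (Nat.gcd (2 ^ k) 6) 3 :=
      Nat.Coprime.coprime_dvd_left (Nat.gcd_dvd_left (2 ^ k) 6)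
        (Nat.Coprime.pow_left k (by norm_num))
    have h4 : Nat.gcd (2 ^ k) 6 ∣ 2 :=
      hcop.dvd_of_dvd_mul_left (by simpa using Nat.gcd_dvd_right (2 ^ k) 6)
    obtain ⟨q, hq⟩ := h4
    have h5 : (Φ b) ^ 2 = ((Φ b) ^ (Nat.gcd (2 ^ k) 6)) ^ q := by rw [← pow_mul, ← hq]
    rw [h5, h3, one_pow]
  have hA1 : Φ a ≠ 1 := by
    intro h
    apply ha
    apply hΦ
    rw [h, map_one]
  have hAB : Φ a * Φ b = Φ b * Φ a := by rw [← map_mul, hab, map_mul]
  have := perm3_comm (Φ a) (Φ b) ⟨hA3, hA1, hB2, hAB⟩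
  apply hΦ
  rw [this, map_one]

/-- restriction of an automorphism to an invariant subgroup of a finite group -/
noncomputable def restrictAut {X : Type*} [Group X] [Finite X] (Y : Subgroup X) (φ : MulAut X)
    (hinv : ∀ y ∈ Y, φ y ∈ Y) : MulAut Y :=
  MulEquiv.ofBijective ((φ.toMonoidHom.comp Y.subtype).codRestrict Y (fun y => hinv y y.2)) (by
    apply Finite.injective_iff_bijective.mp
    intro a b h
    have h1 := congrArg Subtype.val h
    exact Subtype.ext (φ.injective h1))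

theorem restrictAut_apply {X : Type*} [Group X] [Finite X] (Y : Subgroup X) (φ : MulAut X)
    (hinv : ∀ y ∈ Y, φ y ∈ Y) (y : Y) : ((restrictAut Y φ hinv y : Y) : X) = φ y := rfl

theorem restrictAut_pow {X : Type*} [Group X] [Finite X] (Y : Subgroup X) (φ : MulAut X)
    (hinv : ∀ y ∈ Y, φ y ∈ Y) (k : ℕ) (y : Y) :
    (((restrictAut Y φ hinv) ^ k) y : X) = (φ ^ k) y := by
  induction k generalizing y with
  | zero => simp
  | succ k ih =>
    rw [pow_succ, pow_succ, MulAut.mul_apply, MulAut.mul_apply, ih, restrictAut_apply]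

open QuaternionGroup in
/-- an odd-order automorphism of `Q8` that is trivial modulo the center is trivial. -/
theorem q8_aut_trivial_of_trivial_mod_center {Q : Type*} [Group Q] (e : Q ≃* QuaternionGroup 2)
    (ψ : MulAut Q) (m : ℕ) (hm : Odd m) (hψm : ψ ^ m = 1)
    (h : ∀ y : Q, y⁻¹ * ψ y ∈ Subgroup.center Q) (y : Q) : ψ y = y := by
  rcases Cfsg.Agent.Helper20.quat_center_cases e _ (h y) with h3 | h3
  · exact (inv_mul_eq_one.mp h3).symm
  · exfalso
    have hz1 : e.symm (a 2) ≠ 1 := by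
      intro h0
      have h00 := congrArg e h0
      rw [MulEquiv.apply_symm_apply, map_one] at h00
      revert h00
      decide
    have hz2 : e.symm (a 2) * e.symm (a 2) = 1 := by
      rw [← map_mul]
      have : (a 2 : QuaternionGroup 2) * a 2 = 1 := by decide
      rw [this, map_one]
    have hzc : e.symm (a 2) ∈ Subgroup.center Q := h3 ▸ h y
    have hψz : ψ (e.symm (a 2)) = e.symm (a 2) := by
      have h5 : ψ (e.symm (a 2)) ∈ Subgroup.center Q := by
        have hchar : (Subgroup.center Q).Characteristic := inferInstance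
        have h50 := Subgroup.characteristic_iff_map_le.mp hchar ψ
        exact h50 (Subgroup.mem_map_of_mem _ hzc)
      rcases Cfsg.Agent.Helper20.quat_center_cases e _ h5 with h6 | h6
      · exfalso
        apply hz1
        apply ψ.injective
        rw [h6, map_one]
      · exact h6
    have hy : ψ y = y * e.symm (a 2) := by rw [← h3]; group
    have hpow : ∀ j : ℕ, (ψ ^ j) y = y * e.symm (a 2) ^ j := by
      intro j
      induction j with
      | zero => simp
      | succ j ih =>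
        calc (ψ ^ (j + 1)) y = ψ ((ψ ^ j) y) := by rw [pow_succ', MulAut.mul_apply]
          _ = ψ y * (ψ (e.symm (a 2))) ^ j := by rw [ih, map_mul, map_pow]
          _ = y * e.symm (a 2) ^ (j + 1) := by rw [hy, hψz, pow_succ', mul_assoc]
    have h7 := hpow m
    rw [hψm, MulAut.one_apply] at h7
    obtain ⟨j, hj⟩ := hm
    have h8 : e.symm (a 2) ^ m = e.symm (a 2) := by
      rw [hj, pow_succ, pow_mul, pow_two, hz2, one_pow, one_mul]
    rw [h8] at h7
    have h9 : y * e.symm (a 2) = y * 1 := by rw [mul_one]; exact h7.symm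
    exact hz1 (mul_left_cancel h9)

/-- **Q1.** -/
theorem q8_inner_of_comm_mod {X : Type u} [Group X] [Finite X] (hX : IsPGroup 2 X) (Y : Subgroup X)
    (hYn : Y.Normal) (hY : IsQ8 Y) (φ : MulAut X) (hodd : Odd (orderOf φ))
    (hinv : ∀ y ∈ Y, φ y ∈ Y) (hne : ∃ y ∈ Y, φ y ≠ y) (c : X) (hc : c⁻¹ * φ c ∈ Y) :
    ∃ y ∈ Y, ∀ t ∈ Y, (c * y) * t = t * (c * y) := by
  obtain ⟨e⟩ := hY
  have hφYm : (restrictAut Y φ hinv) ^ (orderOf φ) = 1 := by
    ext y
    rw [restrictAut_pow, pow_orderOf_eq_one]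
    rfl
  have hcN : c ∈ Subgroup.normalizer (Y : Set X) := by
    rw [Subgroup.mem_normalizer_iff]
    intro h
    constructor
    · intro hh
      exact hYn.conj_mem h hh c
    · intro hh
      have := hYn.conj_mem _ hh c⁻¹
      simpa [mul_assoc] using this
  have hσ : ∀ t : Y, ((Y.normalizerMonoidHom ⟨c, hcN⟩ t : Y) : X) = c * t * c⁻¹ := fun t => rfl
  obtain ⟨k, hk⟩ := hX c
  have hσk : (Y.normalizerMonoidHom ⟨c, hcN⟩) ^ 2 ^ k = 1 := by
    have h0 : (⟨c, hcN⟩ : Subgroup.normalizer (Y : Set X)) ^ 2 ^ k = 1 :=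
      Subtype.ext (by rw [Subgroup.coe_pow]; exact hk)
    rw [← map_pow, h0, map_one]
  have h4 : Nat.card (Y ⧸ Subgroup.center Y) = 4 := Cfsg.Agent.Helper20.quat_card_quot_center e
  have hcomm : ∀ p q : Y ⧸ Subgroup.center Y, p * q = q * p := by
    have : Fact (Nat.Prime 2) := ⟨Nat.prime_two⟩
    have hcm : IsMulCommutative (Y ⧸ Subgroup.center Y) :=
      IsPGroup.isMulCommutative_of_card_eq_prime_sq (p := 2) (by rw [h4]; norm_num)
    exact fun p q => hcm.is_comm.comm p q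
  have hAB : Cfsg.Agent.Helper20.autQuot Y (Subgroup.center Y) (restrictAut Y φ hinv) *
      Cfsg.Agent.Helper20.autQuot Y (Subgroup.center Y) (Y.normalizerMonoidHom ⟨c, hcN⟩) =
      Cfsg.Agent.Helper20.autQuot Y (Subgroup.center Y) (Y.normalizerMonoidHom ⟨c, hcN⟩) *
        Cfsg.Agent.Helper20.autQuot Y (Subgroup.center Y) (restrictAut Y φ hinv) := by
    ext q
    induction q using QuotientGroup.induction_on with
    | H t =>
      rw [MulAut.mul_apply, MulAut.mul_apply]
      have h1 : restrictAut Y φ hinv (Y.normalizerMonoidHom ⟨c, hcN⟩ t) =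
          Y.normalizerMonoidHom ⟨c, hcN⟩
            ((⟨c⁻¹ * φ c, hc⟩ : Y) * restrictAut Y φ hinv t * (⟨c⁻¹ * φ c, hc⟩ : Y)⁻¹) := by
        apply Subtype.ext
        rw [restrictAut_apply, hσ, hσ]
        simp only [Subgroup.coe_mul, Subgroup.coe_inv, restrictAut_apply, map_mul, map_inv]
        group
      have h2 : (QuotientGroup.mk ((⟨c⁻¹ * φ c, hc⟩ : Y) * restrictAut Y φ hinv t *
          (⟨c⁻¹ * φ c, hc⟩ : Y)⁻¹) : Y ⧸ Subgroup.center Y) =
          QuotientGroup.mk (restrictAut Y φ hinv t) := by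
        rw [QuotientGroup.mk_mul, QuotientGroup.mk_mul, QuotientGroup.mk_inv,
          hcomm (QuotientGroup.mk _) (QuotientGroup.mk (restrictAut Y φ hinv t)),
          mul_inv_cancel_right]
      rw [Cfsg.Agent.Helper20.autQuot_mk, Cfsg.Agent.Helper20.autQuot_mk,
        Cfsg.Agent.Helper20.autQuot_mk, Cfsg.Agent.Helper20.autQuot_mk, h1,
        ← Cfsg.Agent.Helper20.autQuot_mk, h2, Cfsg.Agent.Helper20.autQuot_mk]
  have hφne : Cfsg.Agent.Helper20.autQuot Y (Subgroup.center Y) (restrictAut Y φ hinv) ≠ 1 := by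
    intro h1
    have hmod : ∀ y : Y, y⁻¹ * restrictAut Y φ hinv y ∈ Subgroup.center Y := by
      intro y
      have h2 := congrArg (fun ψ : MulAut (Y ⧸ Subgroup.center Y) => ψ (QuotientGroup.mk y)) h1
      simp only [Cfsg.Agent.Helper20.autQuot_mk, MulAut.one_apply] at h2
      exact QuotientGroup.eq.mp h2.symm
    obtain ⟨y, hyY, hy⟩ := hne
    apply hy
    have h3 := q8_aut_trivial_of_trivial_mod_center e (restrictAut Y φ hinv) (orderOf φ) hodd
      hφYm hmod ⟨y, hyY⟩
    exact congrArg Subtype.val h3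
  have hτ : Cfsg.Agent.Helper20.autQuot Y (Subgroup.center Y)
      (Y.normalizerMonoidHom ⟨c, hcN⟩) = 1 :=
    aut_v4_two_elt_comm h4 _ _ (orderOf φ) k hodd (by rw [← map_pow, hφYm, map_one]) hφne
      (by rw [← map_pow, hσk, map_one]) hAB
  have hker : (⟨c, hcN⟩ : Subgroup.normalizer (Y : Set X)) ∈
      ((Cfsg.Agent.Helper20.autQuot ↥Y (Subgroup.center ↥Y)).comp Y.normalizerMonoidHom).ker := by
    rw [MonoidHom.mem_ker, MonoidHom.comp_apply]
    exact hτ
  have h9 := Cfsg.Agent.Helper20.quat_ker_le Y e hker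
  rw [Subgroup.mem_subgroupOf] at h9
  have h10 : c ∈ ((Y ⊔ Subgroup.centralizer (Y : Set X) : Subgroup X) : Set X) := h9
  have := hYn
  rw [Subgroup.normal_mul] at h10
  obtain ⟨y1, hy1, z, hz, hyz⟩ := Set.mem_mul.mp h10
  refine ⟨c⁻¹ * y1⁻¹ * c, ?_, ?_⟩
  · have := hYn.conj_mem _ (Y.inv_mem hy1) c⁻¹
    simpa using this
  · intro t ht
    have h11 : c * (c⁻¹ * y1⁻¹ * c) = z := by rw [← hyz]; group
    rw [h11]
    exact (Subgroup.mem_centralizer_iff.mp hz t ht).symm

end Cfsg.Agent.Helper64.N9
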