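import Cfsg.Agent.Lib.Helper39.MH4Defs

/-!
# MH4 piece (L): the pointwise stabilizer of `D` embeds in the permutations of the complement
(helper64 for helper39, S4221)
-/

set_option autoImplicit false
set_option linter.unusedSectionVars false
set_option linter.unusedVariables false

namespace Cfsg.Agent.Helper64.MH4

open Equiv Cfsg.Agent.Helper39.MH4

variable {α : Type*} [Fintype α] [DecidableEq α] {G : Subgroup (Perm α)}

theorem helper64_PS_le_range (G : Subgroup (Perm α)) (D : Finset α) :
    PS G D ≤ (Perm.ofSubtype : Perm {x // x ∉ D} →* Perm α).range := by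
  intro g hg
  obtain ⟨_, hfix⟩ := mem_PS.1 hg
  have h₁ : ∀ x, g x ∉ D ↔ x ∉ D := by
    intro x
    constructor
    · intro h hx
      exact h (by rw [hfix x hx]; exact hx)
    · intro h hgx
      apply h
      have h2 : g (g x) = g x := hfix _ hgx
      have h3 : g x = x := g.injective h2
      rw [← h3]
      exact hgx
  have h₂ : ∀ x, g x ≠ x → x ∉ D := fun x hx hxD => hx (hfix x hxD)
  exact ⟨Perm.subtypePerm g h₁, Perm.ofSubtype_subtypePerm h₁ h₂⟩

theorem card_PS_dvd_factorial (G : Subgroup (Perm α)) (D : Finset α) :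
    Nat.card (PS G D) ∣ (Fintype.card α - D.card).factorial := by
  have h1 : Nat.card (PS G D) ∣
      Nat.card ((Perm.ofSubtype : Perm {x // x ∉ D} →* Perm α).range) :=
    Subgroup.card_dvd_of_le (helper64_PS_le_range G D)
  have h2 : Nat.card ((Perm.ofSubtype : Perm {x // x ∉ D} →* Perm α).range) =
      Nat.card (Perm {x // x ∉ D}) :=
    (Nat.card_congr (Equiv.ofInjective _ Perm.ofSubtype_injective)).symm
  have h3 : Nat.card (Perm {x // x ∉ D}) = (Fintype.card α - D.card).factorial := by
    rw [Nat.card_eq_fintype_card, Fintype.card_perm]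
    congr 1
    rw [Fintype.card_subtype_compl, Fintype.card_coe]
  rw [h2, h3] at h1
  exact h1

end Cfsg.Agent.Helper64.MH4
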