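import Cfsg.Agent.Lib.Helper39.MH4Defs

/-!
# MH4 piece (P0): from the statement's hypotheses to `Hyp G` (helper64 for helper39, S4221)
-/

set_option autoImplicit false
set_option linter.unusedSectionVars false
set_option linter.unusedVariables false

namespace Cfsg.Agent.Helper64.MH4

open Equiv Cfsg.Agent.Helper39.MH4

variable {α : Type*} [Fintype α] [DecidableEq α] {G : Subgroup (Perm α)}

theorem helper64_smul_emb_apply (G : Subgroup (Perm α)) (g : G) (a : Fin 4 ↪ α) (i : Fin 4) :
    (g • a) i = (g : Perm α) (a i) := rfl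

theorem helper64_exists_emb (D : Finset α) (hD : D.card = 4) :
    ∃ a : Fin 4 ↪ α, ∀ y, y ∈ D ↔ ∃ i, a i = y := by
  let e : D ≃ Fin 4 := Finset.equivFinOfCardEq hD
  refine ⟨e.symm.toEmbedding.trans (Function.Embedding.subtype _), fun y => ⟨fun hy => ?_, ?_⟩⟩
  · refine ⟨e ⟨y, hy⟩, ?_⟩
    simp
  · rintro ⟨i, rfl⟩
    simp

theorem hyp_of_statement (G : Subgroup (Equiv.Perm α))
    (hG : MulAction.IsMultiplyPretransitive G α 4) (x : Fin 4 ↪ α)
    (hodd : Odd (Nat.card (MulAction.stabilizer G x))) : Hyp G := by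
  have htr : ∀ a b : Fin 4 ↪ α, ∃ g : G, g • a = b := fun a b => hG.exists_smul_eq a b
  refine ⟨fun a b => ?_, fun D hD => ?_⟩
  · obtain ⟨g, hg⟩ := htr a b
    refine ⟨g, g.2, fun i => ?_⟩
    rw [← helper64_smul_emb_apply, hg]
  · obtain ⟨a, ha⟩ := helper64_exists_emb D hD
    have e1 : Nat.card (MulAction.stabilizer G a) = Nat.card (MulAction.stabilizer G x) := by
      obtain ⟨g, hg⟩ := htr x a
      have hrel : MulAction.orbitRel G (Fin 4 ↪ α) a x := by
        rw [MulAction.orbitRel_apply]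
        exact ⟨g, hg⟩
      exact Nat.card_congr (MulAction.stabilizerEquivStabilizerOfOrbitRel hrel).toEquiv
    have hmem : ∀ g : G, g ∈ MulAction.stabilizer G a ↔ ∀ y ∈ D, (g : Perm α) y = y := by
      intro g
      rw [MulAction.mem_stabilizer_iff]
      constructor
      · intro h y hy
        obtain ⟨i, rfl⟩ := (ha y).1 hy
        exact (helper64_smul_emb_apply G g a i).symm.trans (DFunLike.congr_fun h i)
      · intro h
        apply DFunLike.ext
        intro i
        exact (helper64_smul_emb_apply G g a i).trans (h _ ((ha _).2 ⟨i, rfl⟩))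
    have e2 : Nat.card (PS G D) = Nat.card (MulAction.stabilizer G a) := by
      refine Nat.card_congr ⟨fun g => ⟨⟨g.1, (mem_PS.1 g.2).1⟩, (hmem _).2 (mem_PS.1 g.2).2⟩,
        fun g => ⟨g.1.1, mem_PS.2 ⟨g.1.2, (hmem _).1 g.2⟩⟩, ?_, ?_⟩
      · intro g
        rfl
      · intro g
        rfl
    rw [e2, e1]
    exact hodd

end Cfsg.Agent.Helper64.MH4
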