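import Mathlib
import Cfsg.Agent.Lib.Helper93.RU0

/-!
# SL3 project (S2278): SL_3(F) is generated by two conjugate regular unipotent elements.
Shared definitions (server: helper64).  Built on helper93's RU0 with `m = 0`, i.e. index type `Fin (0 + 3)`.

`u = lEl 1 = 1 + E₁₀ + E₂₁` (lower Jordan block), `g = GEl η` (upper triangular),
`BEl η = g u g⁻¹ u⁻¹` is upper triangular with diagonal `(η⁻², η, η)`, NOT semisimple.
-/

set_option autoImplicit false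

namespace Cfsg.Agent.Helper64.SL3

open Matrix Cfsg.Agent.Helper93.RU
open Classical in
attribute [local instance] Classical.propDecidable

variable {F : Type*} [Field F]

/-- `Y(η) = 3 - 2η - η⁻²  ( = -(η-1)²(2η+1)/η² )` -/
def Yp (η : F) : F := 3 - 2 * η - η⁻¹ ^ 2

/-- `T(η) = (η²-1)³ / η⁵` -/
def Tp (η : F) : F := (η ^ 2 - 1) ^ 3 * η⁻¹ ^ 5

/-- the conjugating matrix `G(η)` (upper triangular, det 1) -/
def Gmat (η : F) : Matrix (Fin (0 + 3)) (Fin (0 + 3)) F :=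
  !![η⁻¹, (1 - η ^ 2) * η⁻¹ ^ 3, (η ^ 2 - 1) ^ 2 * η⁻¹ ^ 3; 0, 1, 1 - η; 0, 0, η]

/-- `B(η) = G L G⁻¹ L⁻¹` -/
def Bmat (η : F) : Matrix (Fin (0 + 3)) (Fin (0 + 3)) F :=
  !![η⁻¹ ^ 2, 0, Tp η; 0, η, Yp η; 0, 0, η]

/-- the semisimple part `S(η)` of `B(η)` -/
def Smat (η : F) : Matrix (Fin (0 + 3)) (Fin (0 + 3)) F :=
  !![η⁻¹ ^ 2, 0, Tp η; 0, η, 0; 0, 0, η]

/-- `G(η)` in `SL` (junk value `1` if `η = 0`) -/
noncomputable def GEl (η : F) : SLm 0 F :=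
  if h : (Gmat η).det = 1 then ⟨Gmat η, h⟩ else 1

/-- `B(η)` in `SL` (junk value `1` if `η = 0`) -/
noncomputable def BEl (η : F) : SLm 0 F :=
  if h : (Bmat η).det = 1 then ⟨Bmat η, h⟩ else 1

/-- `S(η)` in `SL` (junk value `1` if `η = 0`) -/
noncomputable def SEl (η : F) : SLm 0 F :=
  if h : (Smat η).det = 1 then ⟨Smat η, h⟩ else 1

/-- the unipotent part of `B(η)`: `x₁₂(Y/η) = 1 + (Y/η) E₁₂` -/
noncomputable def XEl (η : F) : SLm 0 F := tvS (eV 1) ((Yp η * η⁻¹) • eV 2)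

/-- the group generated by the two conjugate regular unipotents `L` and `G L G⁻¹` -/
def Hgrp (η : F) : Subgroup (SLm 0 F) :=
  Subgroup.closure {lEl 1, GEl η * lEl 1 * (GEl η)⁻¹}

/-- `ρ₀ = -Y T / η²` -/
def rho0 (η : F) : F := -(Yp η * Tp η * η⁻¹ ^ 2)

end Cfsg.Agent.Helper64.SL3
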