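import Mathlib

set_option autoImplicit false

namespace Cfsg.Agent.Helper64

open Subgroup

theorem modEq_one_of_pow_modEq_one (p n k m : ℕ) (hp : p.Prime) (hk1 : k ≡ 1 [MOD p])
    (hm : m.Coprime p) (hkm : k ^ m ≡ 1 [MOD p ^ n]) : k ≡ 1 [MOD p ^ n] := by
  have hpz : Prime (p : ℤ) := Nat.prime_iff_prime_int.mp hp
  have h1 : ((p ^ n : ℕ) : ℤ) ∣ (k : ℤ) ^ m - 1 := by
    have := (Nat.modEq_iff_dvd.mp hkm.symm)
    simpa using this
  have h2 : (∑ i ∈ Finset.range m, (k : ℤ) ^ i) * ((k : ℤ) - 1) = (k : ℤ) ^ m - 1 := geom_sum_mul _ _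
  have hk1z : (k : ℤ) ≡ 1 [ZMOD p] := by
    have := Int.natCast_modEq_iff.mpr hk1
    simpa using this
  have h3 : (∑ i ∈ Finset.range m, (k : ℤ) ^ i) ≡ m [ZMOD p] := by
    have : (∑ i ∈ Finset.range m, (k : ℤ) ^ i) ≡ ∑ i ∈ Finset.range m, (1 : ℤ) [ZMOD p] := by
      apply Int.ModEq.sum
      intro i _
      have := hk1z.pow i
      simpa using this
    simpa using this
  have h4 : ¬ (p : ℤ) ∣ (∑ i ∈ Finset.range m, (k : ℤ) ^ i) := by
    intro hdvd
    have : (m : ℤ) ≡ 0 [ZMOD p] := h3.symm.trans (Int.modEq_zero_iff_dvd.mpr hdvd)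
    have hpm : (p : ℤ) ∣ m := Int.modEq_zero_iff_dvd.mp this
    have hpm' : p ∣ m := Int.natCast_dvd_natCast.mp hpm
    exact (Nat.Prime.coprime_iff_not_dvd hp).mp hm.symm hpm'
  have h5 : IsCoprime ((p : ℤ) ^ n) (∑ i ∈ Finset.range m, (k : ℤ) ^ i) :=
    IsCoprime.pow_left ((Prime.coprime_iff_not_dvd hpz).mpr h4)
  rw [← h2] at h1
  have h6 : ((p : ℤ) ^ n) ∣ (k : ℤ) - 1 := by
    have h1' : (p : ℤ) ^ n ∣ (∑ i ∈ Finset.range m, (k : ℤ) ^ i) * ((k : ℤ) - 1) := by
      simpa using h1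
    exact h5.dvd_of_dvd_mul_left h1'
  apply (Nat.modEq_iff_dvd.mpr _).symm
  simpa using h6

/-- An element of order prime to `p` normalizing a cyclic `p`-subgroup `P` and centralizing a
nontrivial element of `P` centralizes `P`. -/
theorem commute_of_coprime_of_cyclic {G : Type*} [Group G] [Finite G] {p : ℕ} [Fact p.Prime]
    (P : Subgroup G) (hP : IsPGroup p P) (hcyc : IsCyclic P) (a : G)
    (haN : a ∈ normalizer (P : Set G)) (hcop : (orderOf a).Coprime p) (x : G) (hx : x ∈ P)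
    (hx1 : x ≠ 1) (hax : a * x = x * a) : ∀ y ∈ P, a * y = y * a := by
  have hp : p.Prime := Fact.out
  obtain ⟨c, hc⟩ := IsCyclic.exists_generator (α := P)
  obtain ⟨n, hn⟩ := IsPGroup.iff_card.mp hP
  have hoc : orderOf (c : G) = p ^ n := by
    rw [Subgroup.orderOf_coe, orderOf_eq_card_of_forall_mem_zpowers hc, hn]
  -- every element of `P` is a natural power of `c`
  have hpow : ∀ y ∈ P, ∃ s : ℕ, (c : G) ^ s = y := by
    intro y hy
    have h1 : (⟨y, hy⟩ : P) ∈ zpowers c := hc _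
    rw [← mem_powers_iff_mem_zpowers] at h1
    obtain ⟨s, hs⟩ := h1
    exact ⟨s, by have := congrArg Subtype.val hs; simpa using this⟩
  have hacP : a * (c : G) * a⁻¹ ∈ P := (mem_normalizer_iff.mp haN (c : G)).mp c.2
  obtain ⟨k, hk⟩ := hpow _ hacP
  -- iterate
  have hiter : ∀ i : ℕ, a ^ i * (c : G) * (a ^ i)⁻¹ = (c : G) ^ (k ^ i) := by
    intro i
    induction i with
    | zero => simp
    | succ i ih =>
      have : a ^ (i + 1) * (c : G) * (a ^ (i + 1))⁻¹ = a * (a ^ i * (c : G) * (a ^ i)⁻¹) * a⁻¹ := by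
        rw [pow_succ']; group
      rw [this, ih, ← conj_pow, ← hk, ← pow_mul, pow_succ']
  have hkm : k ^ orderOf a ≡ 1 [MOD p ^ n] := by
    have := hiter (orderOf a)
    rw [pow_orderOf_eq_one, one_mul, inv_one, mul_one] at this
    rw [← hoc, ← pow_eq_pow_iff_modEq, pow_one]
    exact this.symm
  obtain ⟨s, hs⟩ := hpow x hx
  have hks : k * s ≡ s [MOD p ^ n] := by
    rw [← hoc, ← pow_eq_pow_iff_modEq, pow_mul, hk, conj_pow, hs]
    rw [hax]; group
  have hns : ¬ p ^ n ∣ s := by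
    intro hdvd
    apply hx1
    rw [← hs, ← hoc] at *
    exact orderOf_dvd_iff_pow_eq_one.mp hdvd
  have hk1 : k ≡ 1 [MOD p] := by
    by_contra hne
    have hpz : Prime (p : ℤ) := Nat.prime_iff_prime_int.mp hp
    have h1 : ((p ^ n : ℕ) : ℤ) ∣ ((k * s : ℕ) : ℤ) - (s : ℤ) := by
      have := Nat.modEq_iff_dvd.mp hks.symm
      simpa using this
    have h2 : ((k * s : ℕ) : ℤ) - (s : ℤ) = ((k : ℤ) - 1) * s := by push_cast; ring
    rw [h2] at h1
    have h3 : ¬ (p : ℤ) ∣ (k : ℤ) - 1 := by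
      intro hd
      apply hne
      apply (Nat.modEq_iff_dvd.mpr _).symm
      simpa using hd
    have h4 : IsCoprime ((p : ℤ) ^ n) ((k : ℤ) - 1) :=
      IsCoprime.pow_left ((Prime.coprime_iff_not_dvd hpz).mpr h3)
    have h5 : (p : ℤ) ^ n ∣ (s : ℤ) := by
      have h1' : (p : ℤ) ^ n ∣ ((k : ℤ) - 1) * s := by simpa using h1
      exact h4.dvd_of_dvd_mul_left h1'
    apply hns
    have : ((p ^ n : ℕ) : ℤ) ∣ (s : ℤ) := by simpa using h5
    exact Int.natCast_dvd_natCast.mp this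
  have hk' : k ≡ 1 [MOD p ^ n] := modEq_one_of_pow_modEq_one p n k (orderOf a) hp hk1 hcop hkm
  have hac : a * (c : G) * a⁻¹ = (c : G) := by
    rw [← hk]
    have := (pow_eq_pow_iff_modEq (x := (c : G)) (n := k) (m := 1)).mpr (by rw [hoc]; exact hk')
    rw [this, pow_one]
  have hcomm : Commute a (c : G) := by
    have : a * (c : G) = (c : G) * a := by
      calc a * (c : G) = (a * (c : G) * a⁻¹) * a := by group
        _ = (c : G) * a := by rw [hac]
    exact this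
  intro y hy
  obtain ⟨t, rfl⟩ := hpow y hy
  exact (hcomm.pow_right t)

end Cfsg.Agent.Helper64
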