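import Mathlib
import Cfsg.Prelude.Def_GeometricClasses
import Cfsg.Agent.Lib.Helper97.ESDefs

set_option autoImplicit false

/-!
# ES piece (G1), part a: Burnside's theorem for an absolutely irreducible matrix group
(via the Jacobson density theorem of Mathlib).
-/

namespace Cfsg.Agent.Helper64.ES

open Cfsg Cfsg.Geo Cfsg.Agent.Helper97.ES
open scoped MatrixGroups

section burnside

variable {F : Type*} [Field F] {n : ℕ}

/-- a subalgebra of `End F (F^n)` containing an absolutely irreducible group is everything. -/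
theorem burnside_aux (R : Subgroup (GL (Fin n) F)) (hn : 0 < n)
    (hirr : ActsAbsolutelyIrreducibly (matrixSet R))
    (A : Subalgebra F (Module.End F (Fin n → F)))
    (hA : ∀ g ∈ R, Matrix.toLin' ((g : GL (Fin n) F) : Matrix (Fin n) (Fin n) F) ∈ A)
    (g : Module.End F (Fin n → F)) : g ∈ A := by
  classical
  have : Nonempty (Fin n) := ⟨⟨0, hn⟩⟩
  have : Nontrivial (Fin n → F) := inferInstance
  have hsmul : ∀ (c : F) (v : Fin n → F), c • v = (algebraMap F A c) • v := by
    intro c v
    rw [algebraMap_smul]
  have hact : ∀ (g : GL (Fin n) F) (hg : g ∈ R) (v : Fin n → F),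
      Matrix.toLin' ((g : GL (Fin n) F) : Matrix (Fin n) (Fin n) F) v =
        (⟨_, hA g hg⟩ : A) • v := fun _ _ _ => rfl
  have hsimple : IsSimpleModule A (Fin n → F) := by
    refine { toIsSimpleOrder := { exists_pair_ne := ⟨⊥, ⊤, bot_ne_top⟩, eq_bot_or_eq_top := ?_ } }
    intro W
    let W' : Submodule F (Fin n → F) :=
      { carrier := W
        add_mem' := W.add_mem
        zero_mem' := W.zero_mem
        smul_mem' := fun c v hv => by
          rw [hsmul]; exact W.smul_mem _ hv }
    have hinv : ∀ s ∈ matrixSet R, W'.map (Matrix.toLin' s) ≤ W' := by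
      rintro s ⟨g, hg, rfl⟩ v ⟨w, hw, rfl⟩
      show Matrix.toLin' ((g : GL (Fin n) F) : Matrix (Fin n) (Fin n) F) w ∈ W
      rw [hact g hg]
      exact W.smul_mem _ hw
    rcases hirr.1 W' hinv with h | h
    · left
      ext v
      have : v ∈ W' ↔ v ∈ (⊥ : Submodule F (Fin n → F)) := by rw [h]
      simpa [W'] using this
    · right
      ext v
      have : v ∈ W' ↔ v ∈ (⊤ : Submodule F (Fin n → F)) := by rw [h]
      simpa [W'] using this
  have hscal : ∀ d : Module.End A (Fin n → F), ∃ c : F, ∀ v, d v = c • v := by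
    intro d
    let d' : Module.End F (Fin n → F) :=
      { toFun := d
        map_add' := d.map_add
        map_smul' := fun c v => by
          rw [hsmul, d.map_smul, ← hsmul]; rfl }
    have hcomm : ∀ s ∈ matrixSet R, LinearMap.toMatrix' d' * s = s * LinearMap.toMatrix' d' := by
      rintro s ⟨g, hg, rfl⟩
      apply Matrix.toLin'.injective
      rw [Matrix.toLin'_mul, Matrix.toLin'_mul, Matrix.toLin'_toMatrix']
      apply LinearMap.ext
      intro v
      show d (Matrix.toLin' ((g : GL (Fin n) F) : Matrix (Fin n) (Fin n) F) v) =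
        Matrix.toLin' ((g : GL (Fin n) F) : Matrix (Fin n) (Fin n) F) (d v)
      rw [hact g hg, hact g hg, d.map_smul]
    obtain ⟨c, hc⟩ := hirr.2 _ hcomm
    refine ⟨c, fun v => ?_⟩
    have h1 : d' = c • LinearMap.id := by
      have h2 := congrArg Matrix.toLin' hc
      rw [Matrix.toLin'_toMatrix'] at h2
      rw [h2, map_smul, Matrix.toLin'_one]
    show d' v = c • v
    rw [h1]; rfl
  have := hsimple
  let f : Module.End (Module.End A (Fin n → F)) (Fin n → F) :=
    { toFun := g
      map_add' := g.map_add
      map_smul' := fun d v => by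
        obtain ⟨c, hc⟩ := hscal d
        show g (d v) = d (g v)
        rw [hc, hc, map_smul] }
  obtain ⟨a, ha⟩ := jacobson_density (R := A) (M := Fin n → F) f
    (Finset.univ.image (fun i : Fin n => (Pi.single i 1 : Fin n → F)))
  have hga : g = (a : Module.End F (Fin n → F)) := by
    apply (Pi.basisFun F (Fin n)).ext
    intro i
    rw [Pi.basisFun_apply]
    exact ha _ (Finset.mem_image_of_mem _ (Finset.mem_univ i))
  rw [hga]
  exact a.2

/-- **Burnside**: an absolutely irreducible matrix group spans the full matrix algebra. -/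
theorem span_matrixSet_eq_top (R : Subgroup (GL (Fin n) F)) (hn : 0 < n)
    (hirr : ActsAbsolutelyIrreducibly (matrixSet R)) :
    Submodule.span F (matrixSet R) = ⊤ := by
  classical
  let Mo : Submonoid (Matrix (Fin n) (Fin n) F) :=
    R.toSubmonoid.map (Units.coeHom (Matrix (Fin n) (Fin n) F))
  have hMo : (Mo : Set (Matrix (Fin n) (Fin n) F)) = matrixSet R := by
    ext m
    simp only [Mo, matrixSet, Submonoid.coe_map, Set.mem_image]
    rfl
  have hB : Subalgebra.toSubmodule (Algebra.adjoin F (Mo : Set (Matrix (Fin n) (Fin n) F))) =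
      Submodule.span F (matrixSet R) := by
    rw [Algebra.adjoin_eq_span, Submonoid.closure_eq, hMo]
  rw [← hB, eq_top_iff]
  intro m _
  have h := burnside_aux R hn hirr
    ((Algebra.adjoin F (Mo : Set (Matrix (Fin n) (Fin n) F))).map
      (Matrix.toLinAlgEquiv' (R := F) (n := Fin n)).toAlgHom) ?_
      (Matrix.toLinAlgEquiv' m)
  · obtain ⟨b, hb, hbm⟩ := h
    have : b = m := (Matrix.toLinAlgEquiv' (R := F) (n := Fin n)).injective hbm
    rw [← this]
    exact hb
  · intro g hg
    refine ⟨(g : Matrix (Fin n) (Fin n) F), Algebra.subset_adjoin ?_, rfl⟩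
    rw [hMo]
    exact ⟨g, hg, rfl⟩

end burnside

end Cfsg.Agent.Helper64.ES
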