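import Mathlib
import Cfsg.Prelude.Def_GeometricClasses
import Cfsg.Agent.Lib.Helper97.ESDefs
import Cfsg.Agent.Lib.Helper64.ESG1a

set_option autoImplicit false

/-!
# ES piece (G1), part b: the commutator characters of an extraspecial group.
-/

namespace Cfsg.Agent.Helper64.ES

open Cfsg Cfsg.Geo Cfsg.Agent.Helper97.ES
open scoped MatrixGroups commutatorElement

section nice

variable {F : Type*} [Field F] {n r : ℕ} {R : Subgroup (GL (Fin n) F)}

theorem pos_of_setup (S : Setup r R) : 0 < n := by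
  by_contra h
  have hn : n = 0 := by omega
  subst hn
  have h0 : Subsingleton (GL (Fin 0) F) :=
    ⟨fun a b => Units.ext (Subsingleton.elim _ _)⟩
  have h1 : Nat.card (Subgroup.center R) = 1 := Nat.card_of_subsingleton 1
  rw [S.hZ] at h1
  exact S.hr.ne_one h1

/-- the matrix of an element of `R`, as a monoid homomorphism -/
def matHom (R : Subgroup (GL (Fin n) F)) : R →* Matrix (Fin n) (Fin n) F :=
  (Units.coeHom _).comp R.subtype

theorem matHom_apply (y : R) : matHom R y = ((y : GL (Fin n) F) : Matrix (Fin n) (Fin n) F) := rfl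

theorem matHom_mul_inv (y : R) : matHom R y * matHom R y⁻¹ = 1 := by
  rw [← map_mul, mul_inv_cancel, map_one]

theorem matHom_inv_mul (y : R) : matHom R y⁻¹ * matHom R y = 1 := by
  rw [← map_mul, inv_mul_cancel, map_one]

theorem matHom_injective : Function.Injective (matHom R) := by
  intro a b h
  exact Subtype.ext (Units.ext h)

theorem matHom_ne_zero (hn : 0 < n) (y : R) : matHom R y ≠ 0 := by
  have : Nonempty (Fin n) := ⟨⟨0, hn⟩⟩
  exact Units.ne_zero (y : GL (Fin n) F)

/-- (B1) central elements of `R` are scalar -/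
theorem center_scalar (S : Setup r R) (z : R) (hz : z ∈ Subgroup.center R) :
    ∃ c : F, matHom R z = c • (1 : Matrix (Fin n) (Fin n) F) := by
  apply S.hirr.2
  rintro s ⟨g, hg, rfl⟩
  have h1 : (⟨g, hg⟩ : R) * z = z * ⟨g, hg⟩ := Subgroup.mem_center_iff.mp hz _
  have h2 := congrArg (matHom R) h1
  rw [map_mul, map_mul] at h2
  exact h2.symm

/-- (B2) commutators are central -/
theorem comm_mem_center (S : Setup r R) (y x : R) : ⁅y, x⁆ ∈ Subgroup.center R := by
  rw [← S.hext, commutator_def]
  exact Subgroup.commutator_mem_commutator (Subgroup.mem_top y) (Subgroup.mem_top x)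

theorem comm_mul_left (S : Setup r R) (y y' x : R) : ⁅y * y', x⁆ = ⁅y, x⁆ * ⁅y', x⁆ := by
  have hz := Subgroup.mem_center_iff.mp (comm_mem_center S y' x)
  have h1 : ⁅y * y', x⁆ = y * ⁅y', x⁆ * y⁻¹ * ⁅y, x⁆ := by
    simp only [commutatorElement_def]; group
  rw [h1, hz y, mul_inv_cancel_right, ← hz ⁅y, x⁆]

/-- the commutator character `y ↦ [y, x]` with values in `F` -/
noncomputable def chi (S : Setup r R) (x : R) : R →* F where
  toFun y := matHom R ⁅y, x⁆ ⟨0, pos_of_setup S⟩ ⟨0, pos_of_setup S⟩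
  map_one' := by
    rw [commutatorElement_one_left, map_one, Matrix.one_apply_eq]
  map_mul' y y' := by
    obtain ⟨c, hc⟩ := center_scalar S _ (comm_mem_center S y x)
    obtain ⟨c', hc'⟩ := center_scalar S _ (comm_mem_center S y' x)
    rw [comm_mul_left S, map_mul, hc, hc']
    simp [mul_comm]

theorem chi_spec (S : Setup r R) (x y : R) :
    matHom R ⁅y, x⁆ = chi S x y • (1 : Matrix (Fin n) (Fin n) F) := by
  obtain ⟨c, hc⟩ := center_scalar S _ (comm_mem_center S y x)
  have : chi S x y = c := by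
    show matHom R ⁅y, x⁆ ⟨0, pos_of_setup S⟩ ⟨0, pos_of_setup S⟩ = c
    rw [hc]; simp
  rw [this, hc]

theorem chi_comm (S : Setup r R) (x y : R) :
    matHom R y * matHom R x = chi S x y • (matHom R x * matHom R y) := by
  have h1 : y * x = ⁅y, x⁆ * (x * y) := by
    simp only [commutatorElement_def]; group
  rw [← map_mul, h1, map_mul, chi_spec S, map_mul, smul_mul_assoc, one_mul]

theorem chi_injective (S : Setup r R) (x x' : R) (h : chi S x = chi S x') :
    x⁻¹ * x' ∈ Subgroup.center R := by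
  rw [Subgroup.mem_center_iff]
  intro y
  have h1 : ⁅y⁻¹, x⁆ = ⁅y⁻¹, x'⁆ := by
    apply matHom_injective
    rw [chi_spec S, chi_spec S, h]
  simp only [commutatorElement_def, inv_inv] at h1
  -- h1 : y⁻¹ * x * y * x⁻¹ = y⁻¹ * x' * y * x'⁻¹
  have h2 : x * y * x⁻¹ = x' * y * x'⁻¹ := by
    have := congrArg (fun t => y * t) h1
    simpa [mul_assoc] using this
  calc y * (x⁻¹ * x') = x⁻¹ * (x * y * x⁻¹) * x' := by group
    _ = x⁻¹ * (x' * y * x'⁻¹) * x' := by rw [h2]
    _ = x⁻¹ * x' * y := by group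

end nice

end Cfsg.Agent.Helper64.ES
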