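import Mathlib
import Cfsg.Prelude.Def_GeometricClasses
import Cfsg.Agent.Lib.Helper97.ESDefs
import Cfsg.Agent.Lib.Helper64.ESG1a
import Cfsg.Agent.Lib.Helper64.ESG1b

set_option autoImplicit false

/-!
# ES piece (G1) for helper97 (S5877): the nice basis (Burnside).
-/

namespace Cfsg.Agent.Helper64.ES

open Cfsg Cfsg.Geo Cfsg.Agent.Helper97.ES
open scoped MatrixGroups

section grp

variable {F : Type*} [Field F] [Finite F] {n r : ℕ} {R : Subgroup (GL (Fin n) F)}

omit [Finite F] in
theorem chi_out_injective (S : Setup r R) :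
    Function.Injective (fun q : R ⧸ Subgroup.center R => chi S q.out) := by
  intro q q' h
  have h1 := chi_injective S q.out q'.out h
  have h2 : (QuotientGroup.mk q.out : R ⧸ Subgroup.center R) = QuotientGroup.mk q'.out :=
    QuotientGroup.eq.mpr h1
  rwa [QuotientGroup.out_eq', QuotientGroup.out_eq'] at h2

omit [Finite F] in
theorem rep_cover (S : Setup r R) (y : R) :
    ∃ q : R ⧸ Subgroup.center R, ∃ c : F, matHom R y = c • matHom R q.out := by
  refine ⟨QuotientGroup.mk y, ?_⟩
  have h1 : (QuotientGroup.mk (QuotientGroup.mk y : R ⧸ Subgroup.center R).out :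
      R ⧸ Subgroup.center R) = QuotientGroup.mk y := QuotientGroup.out_eq' _
  have h2 : ((QuotientGroup.mk y : R ⧸ Subgroup.center R).out)⁻¹ * y ∈ Subgroup.center R :=
    QuotientGroup.eq.mp h1
  obtain ⟨c, hc⟩ := center_scalar S _ h2
  refine ⟨c, ?_⟩
  have h3 : y = (QuotientGroup.mk y : R ⧸ Subgroup.center R).out *
      (((QuotientGroup.mk y : R ⧸ Subgroup.center R).out)⁻¹ * y) := by group
  conv_lhs => rw [h3]
  rw [map_mul, hc, mul_smul_comm, mul_one]

theorem rep_linearIndependent (S : Setup r R) :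
    LinearIndependent F (fun q : R ⧸ Subgroup.center R => matHom R q.out) := by
  classical
  let _ : Fintype (R ⧸ Subgroup.center R) := Fintype.ofFinite _
  have hn := pos_of_setup S
  have hded : LinearIndependent F
      (fun q : R ⧸ Subgroup.center R => (⇑(chi S q.out) : R → F)) :=
    (linearIndependent_monoidHom R F).comp _ (chi_out_injective S)
  rw [Fintype.linearIndependent_iff]
  intro γ hγ q0
  have key : ∀ y : R, ∑ q, (γ q * chi S q.out y) • matHom R q.out = 0 := by
    intro y
    have h1 : matHom R y * (∑ q, γ q • matHom R q.out) = 0 := by rw [hγ, mul_zero]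
    rw [Finset.mul_sum] at h1
    have h2 : ∀ q : R ⧸ Subgroup.center R, matHom R y * (γ q • matHom R q.out) =
        ((γ q * chi S q.out y) • matHom R q.out) * matHom R y := by
      intro q
      rw [mul_smul_comm, chi_comm S, smul_smul, smul_mul_assoc]
    rw [Finset.sum_congr rfl (fun q _ => h2 q), ← Finset.sum_mul] at h1
    have h3 := congrArg (· * matHom R y⁻¹) h1
    simpa [mul_assoc, matHom_mul_inv] using h3
  have hent : ∀ (i j : Fin n) (q : R ⧸ Subgroup.center R), γ q * matHom R q.out i j = 0 := by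
    intro i j
    have h4 : ∑ q : R ⧸ Subgroup.center R,
        (γ q * matHom R q.out i j) • (⇑(chi S q.out) : R → F) = 0 := by
      funext y
      have h5 := congrFun (congrFun (key y) i) j
      simp only [Matrix.sum_apply, Matrix.smul_apply, smul_eq_mul, Matrix.zero_apply] at h5
      simp only [Finset.sum_apply, Pi.smul_apply, smul_eq_mul, Pi.zero_apply]
      rw [← h5]
      apply Finset.sum_congr rfl
      intro q _
      ring
    exact Fintype.linearIndependent_iff.mp hded _ h4
  have hne := matHom_ne_zero hn (q0.out)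
  by_contra hγ0
  apply hne
  ext i j
  rcases mul_eq_zero.mp (hent i j q0) with h | h
  · exact absurd h hγ0
  · simpa using h

omit [Finite F] in
theorem rep_span (S : Setup r R) :
    ⊤ ≤ Submodule.span F (Set.range (fun q : R ⧸ Subgroup.center R => matHom R q.out)) := by
  rw [← span_matrixSet_eq_top R (pos_of_setup S) S.hirr]
  apply Submodule.span_le.mpr
  rintro _ ⟨g, hg, rfl⟩
  obtain ⟨q, c, hc⟩ := rep_cover S ⟨g, hg⟩
  have h1 : ((g : GL (Fin n) F) : Matrix (Fin n) (Fin n) F) = matHom R ⟨g, hg⟩ := rfl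
  show ((g : GL (Fin n) F) : Matrix (Fin n) (Fin n) F) ∈ _
  rw [h1, hc]
  exact Submodule.smul_mem _ _ (Submodule.subset_span ⟨q, rfl⟩)

/-- **(G1) the nice basis (Burnside).** -/
theorem exists_niceBasis (S : Setup r R) :
    ∃ x : Fin (n * n) → Matrix (Fin n) (Fin n) F, NiceBasis R x := by
  classical
  let _ : Fintype (R ⧸ Subgroup.center R) := Fintype.ofFinite _
  let b : Module.Basis (R ⧸ Subgroup.center R) F (Matrix (Fin n) (Fin n) F) :=
    Module.Basis.mk (rep_linearIndependent S) (rep_span S)
  have hcard : Fintype.card (R ⧸ Subgroup.center R) = n * n := by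
    rw [← Module.finrank_eq_card_basis b, Module.finrank_matrix, Module.finrank_self,
      Fintype.card_fin, mul_one]
  let e : Fin (n * n) ≃ (R ⧸ Subgroup.center R) := (Fintype.equivFinOfCardEq hcard).symm
  refine ⟨fun t => matHom R (e t).out, ?_, ?_, ?_⟩
  · exact (rep_linearIndependent S).comp e e.injective
  · intro t
    exact ⟨((e t).out : R), (e t).out.2, rfl⟩
  · intro y hy
    have hy' : y ∈ ((R ⊔ scalars (Fin n) F : Subgroup (GL (Fin n) F)) : Set (GL (Fin n) F)) := hy
    rw [Subgroup.mul_normal] at hy'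
    obtain ⟨ρ, hρ, z, hz, rfl⟩ := Set.mem_mul.mp hy'
    obtain ⟨c, hc⟩ := (mem_scalars_iff z).mp hz
    obtain ⟨q, c', hc'⟩ := rep_cover S ⟨ρ, hρ⟩
    refine ⟨e.symm q, c' * (c : F), ?_⟩
    have h1 : ((ρ : GL (Fin n) F) : Matrix (Fin n) (Fin n) F) = matHom R ⟨ρ, hρ⟩ := rfl
    rw [Units.val_mul, hc, h1, hc']
    simp only [Equiv.apply_symm_apply]
    rw [mul_smul_comm, mul_one, smul_smul, mul_comm]

end grp

end Cfsg.Agent.Helper64.ES
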