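import Mathlib
import Cfsg.Agent.Lib.Helper64.Basic

set_option autoImplicit false

namespace Cfsg.Agent.Helper64

open Subgroup

theorem eq_top_of_prime_index_of_lt {G : Type*} [Group G] {A K : Subgroup G}
    (hp : A.index.Prime) (hlt : A < K) : K = ⊤ := by
  have h1 := Subgroup.relIndex_mul_index hlt.le
  have hdvd : K.index ∣ A.index := Subgroup.index_dvd_of_le hlt.le
  rcases (Nat.dvd_prime hp).mp hdvd with h | h
  · exact Subgroup.index_eq_one.mp h
  · exfalso
    rw [h] at h1
    have : A.relIndex K = 1 :=
      Nat.eq_of_mul_eq_mul_right hp.pos (by rw [h1, one_mul])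
    exact hlt.not_ge (Subgroup.relIndex_eq_one.mp this)

theorem mem_normalizer_of_conj_mem {G : Type*} [Group G] [Finite G] (B : Subgroup G) (x : G)
    (h : ∀ b ∈ B, x * b * x⁻¹ ∈ B) : x ∈ normalizer (B : Set G) := by
  have hle : B.map (MulAut.conj x).toMonoidHom ≤ B := by
    rintro _ ⟨b, hb, rfl⟩
    simpa using h b hb
  have hcard : Nat.card (B.map (MulAut.conj x).toMonoidHom) = Nat.card B :=
    Subgroup.card_map_of_injective (MulAut.conj x).injective
  have heq : B.map (MulAut.conj x).toMonoidHom = B :=
    Subgroup.eq_of_le_of_card_ge hle (by rw [hcard])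
  rw [mem_normalizer_iff]
  intro n
  constructor
  · exact h n
  · intro hn
    rw [← heq] at hn
    obtain ⟨b, hb, hbn⟩ := hn
    have : b = n := by simpa using hbn
    rwa [← this]

/-- If `A` is an abelian normal subgroup of prime index and some `x ∉ A` centralizes `A`, then
the whole group is commutative. -/
theorem comm_of_centralizing {G : Type*} [Group G] {A : Subgroup G} [A.Normal]
    [hAc : IsMulCommutative A] (hp : A.index.Prime) {x : G} (hxA : x ∉ A)
    (hxc : x ∈ centralizer (A : Set G)) : IsMulCommutative G := by
  have hAle : A ≤ centralizer (A : Set G) := by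
    intro a ha b hb
    have := hAc.is_comm.comm (⟨b, hb⟩ : A) ⟨a, ha⟩
    exact congrArg Subtype.val this
  have hlt : A < centralizer (A : Set G) := by
    refine lt_of_le_of_ne hAle ?_
    intro h
    apply hxA
    rw [h]
    exact hxc
  have htop := eq_top_of_prime_index_of_lt hp hlt
  have hcen : A ≤ center G := by
    intro a ha
    rw [Subgroup.mem_center_iff]
    intro g
    have hg : g ∈ centralizer (A : Set G) := by rw [htop]; trivial
    exact (hg a ha).symm
  have : Fact A.index.Prime := ⟨hp⟩
  have : IsCyclic (G ⧸ A) := isCyclic_of_prime_card (p := A.index) (by rw [Subgroup.index_eq_card])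
  exact MonoidHom.isMulCommutative_of_isCyclic_of_ker_le_center (QuotientGroup.mk' A)
    (by rw [QuotientGroup.ker_mk']; exact hcen)

/-- A subgroup `B` of an abelian subgroup `A` of prime index which is normalized by some element
outside `A` is normal. -/
theorem normal_of_le_abelian_of_mem_normalizer {G : Type*} [Group G] {A B : Subgroup G}
    [hAc : IsMulCommutative A] (hp : A.index.Prime) (hBA : B ≤ A) {x : G} (hxA : x ∉ A)
    (hx : x ∈ normalizer (B : Set G)) : B.Normal := by
  have hcomm : ∀ a ∈ A, ∀ b ∈ A, a * b = b * a := by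
    intro a ha b hb
    exact congrArg Subtype.val (hAc.is_comm.comm (⟨a, ha⟩ : A) ⟨b, hb⟩)
  have hAle : A ≤ normalizer (B : Set G) := by
    intro a ha
    rw [mem_normalizer_iff]
    intro n
    constructor
    · intro hn
      rw [hcomm a ha n (hBA hn), mul_inv_cancel_right]
      exact hn
    · intro hn
      have hnA : n ∈ A := by
        have h1 : a⁻¹ * (a * n * a⁻¹) * a ∈ A :=
          A.mul_mem (A.mul_mem (A.inv_mem ha) (hBA hn)) ha
        have h2 : a⁻¹ * (a * n * a⁻¹) * a = n := by group
        rwa [h2] at h1
      rw [hcomm a ha n hnA, mul_inv_cancel_right] at hn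
      exact hn
  have hlt : A < normalizer (B : Set G) := by
    refine lt_of_le_of_ne hAle ?_
    intro h
    apply hxA
    rw [h]
    exact hx
  exact normalizer_eq_top_iff.mp (eq_top_of_prime_index_of_lt hp hlt)

/-- A group whose order divides a prime has all its subgroups normal. -/
theorem normal_of_card_dvd_prime {H : Type*} [Group H] {p : ℕ} [Fact p.Prime]
    (h : Nat.card H ∣ p) (P : Subgroup H) : P.Normal := by
  have hcyc : IsCyclic H := isCyclic_of_card_dvd_prime h
  have hcomm : ∀ a b : H, a * b = b * a := (IsCyclic.commGroup (α := H)).mul_comm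
  refine ⟨fun n hn g => ?_⟩
  rw [hcomm g n, mul_inv_cancel_right]
  exact hn

end Cfsg.Agent.Helper64
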