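import Mathlib

set_option autoImplicit false

namespace Cfsg.Agent.Helper64

open Polynomial Module

theorem isSimpleModule_aeval {V : Type*} [AddCommGroup V] [Nontrivial V]
    (q : ℕ) [Module (ZMod q) V] (σ : V →ₗ[ZMod q] V)
    (hirr : ∀ W : Submodule (ZMod q) V, (∀ v ∈ W, σ v ∈ W) → W = ⊥ ∨ W = ⊤) :
    IsSimpleModule (ZMod q)[X] (AEval' σ) := by
  have hnt : Nontrivial (AEval' σ) := (AEval'.of σ).toEquiv.symm.nontrivial
  refine { toIsSimpleOrder := ?_ }
  have : Nontrivial (Submodule (ZMod q)[X] (AEval' σ)) := inferInstance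
  refine { exists_pair_ne := this.exists_pair_ne, eq_bot_or_eq_top := ?_ }
  intro N
  set W : Submodule (ZMod q) V :=
    { carrier := {v | AEval'.of σ v ∈ N}
      add_mem' := by
        intro a b ha hb
        simp only [Set.mem_ofPred_eq, map_add] at *
        exact N.add_mem ha hb
      zero_mem' := by simp
      smul_mem' := by
        intro c v hv
        simp only [Set.mem_ofPred_eq, map_smul] at *
        have : c • (AEval'.of σ) v = (C c : (ZMod q)[X]) • (AEval'.of σ) v := by
          rw [AEval.C_smul]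
        rw [this]
        exact N.smul_mem _ hv } with hW
  have hWmem : ∀ v, v ∈ W ↔ AEval'.of σ v ∈ N := fun v => Iff.rfl
  have hinv : ∀ v ∈ W, σ v ∈ W := by
    intro v hv
    rw [hWmem] at hv ⊢
    rw [← AEval'.X_smul_of]
    exact N.smul_mem _ hv
  rcases hirr W hinv with h | h
  · left
    rw [eq_bot_iff]
    intro n hn
    have : (AEval'.of σ).symm n ∈ W := by rw [hWmem]; simpa using hn
    rw [h, Submodule.mem_bot] at this
    rw [Submodule.mem_bot]
    simpa using this
  · right
    rw [eq_top_iff]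
    intro n _
    have : (AEval'.of σ).symm n ∈ W := by rw [h]; trivial
    rw [hWmem] at this
    simpa using this

theorem card_quot_span {q : ℕ} [Fact q.Prime] (f : (ZMod q)[X]) (hf : f ≠ 0) :
    Nat.card ((ZMod q)[X] ⧸ Ideal.span {f}) = q ^ f.natDegree := by
  have pb := AdjoinRoot.powerBasis hf
  have h1 : Module.finrank (ZMod q) (AdjoinRoot f) = f.natDegree := by
    rw [PowerBasis.finrank (AdjoinRoot.powerBasis hf), AdjoinRoot.powerBasis_dim]
  have : Module.Finite (ZMod q) (AdjoinRoot f) := (AdjoinRoot.powerBasis hf).finite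
  have h2 := Module.natCard_eq_pow_finrank (K := ZMod q) (V := AdjoinRoot f)
  rw [h1, Nat.card_zmod] at h2
  exact h2

theorem card_of_irreducible_prime_action {V : Type*} [AddCommGroup V] [Finite V] [Nontrivial V]
    (p q : ℕ) [hp : Fact p.Prime] [hq : Fact q.Prime] (hpq : p ≠ q) [Module (ZMod q) V]
    (σ : V →ₗ[ZMod q] V) (hσp : σ ^ p = 1) (hσ1 : σ ≠ 1)
    (hirr : ∀ W : Submodule (ZMod q) V, (∀ v ∈ W, σ v ∈ W) → W = ⊥ ∨ W = ⊤) :
    Nat.card V = q ^ orderOf ((q : ℕ) : ZMod p) := by
  have hsimple := isSimpleModule_aeval q σ hirr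
  obtain ⟨I, hI, ⟨e⟩⟩ :=
    (isSimpleModule_iff_quot_maximal (R := (ZMod q)[X]) (M := AEval' σ)).mp hsimple
  have key : ∀ (r : (ZMod q)[X]) (y : (ZMod q)[X] ⧸ I), r • y = Ideal.Quotient.mk I r * y := by
    intro r y
    obtain ⟨x, rfl⟩ := Ideal.Quotient.mk_surjective y
    rfl
  -- membership in `I` versus annihilation
  have hmem_of_kill : ∀ r : (ZMod q)[X], (∀ m : AEval' σ, r • m = 0) → r ∈ I := by
    intro r hr
    have h1 := hr (e.symm 1)
    have h2 : e (r • e.symm 1) = 0 := by rw [h1, map_zero]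
    rw [map_smul, LinearEquiv.apply_symm_apply, key, mul_one,
      Ideal.Quotient.eq_zero_iff_mem] at h2
    exact h2
  have hkill_of_mem : ∀ r : (ZMod q)[X], r ∈ I → ∀ m : AEval' σ, r • m = 0 := by
    intro r hr m
    apply e.injective
    rw [map_smul, map_zero, key,
      Ideal.Quotient.eq_zero_iff_mem.mpr hr, zero_mul]
  have h1 : (X ^ p - 1 : (ZMod q)[X]) ∈ I := by
    apply hmem_of_kill
    intro m
    obtain ⟨v, rfl⟩ := (AEval'.of σ).surjective m
    rw [sub_smul, one_smul, AEval'.X_pow_smul_of, hσp]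
    simp
  have h2 : (X - 1 : (ZMod q)[X]) ∉ I := by
    intro hmem
    apply hσ1
    ext v
    have := hkill_of_mem _ hmem (AEval'.of σ v)
    rw [sub_smul, one_smul, AEval'.X_smul_of, sub_eq_zero] at this
    have := (AEval'.of σ).injective this
    simpa using this
  obtain ⟨f, hf⟩ := (IsPrincipalIdealRing.principal I).principal
  have hf' : I = Ideal.span {f} := hf
  have hXp : (X ^ p - 1 : (ZMod q)[X]) ≠ 0 := by
    simpa using X_pow_sub_C_ne_zero hp.out.pos (1 : ZMod q)
  have hf0 : f ≠ 0 := by
    intro h0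
    rw [hf', h0, Ideal.span_singleton_zero] at h1
    exact hXp (by simpa using h1)
  have hfprime : Prime f := by
    have : (Ideal.span {f}).IsPrime := hf' ▸ hI.isPrime
    exact (Ideal.span_singleton_prime hf0).mp this
  have hfd1 : f ∣ X ^ p - 1 := by
    rw [hf', Ideal.mem_span_singleton] at h1; exact h1
  have hfd2 : ¬ f ∣ X - 1 := by
    intro h; apply h2; rw [hf', Ideal.mem_span_singleton]; exact h
  have hfd3 : f ∣ cyclotomic p (ZMod q) := by
    rw [← cyclotomic_prime_mul_X_sub_one (ZMod q) p] at hfd1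
    exact (hfprime.dvd_or_dvd hfd1).resolve_right hfd2
  have hcop : q.Coprime p := (Nat.coprime_primes hq.out hp.out).mpr (Ne.symm hpq)
  have hK : Fintype.card (ZMod q) = q ^ 1 := by rw [ZMod.card, pow_one]
  have hdeg := natDegree_of_dvd_cyclotomic_of_irreducible hK hcop hfd3 hfprime.irreducible
  have hord : orderOf (ZMod.unitOfCoprime (q ^ 1) (hcop.pow_left 1)) = orderOf ((q : ℕ) : ZMod p) := by
    rw [← orderOf_units, ZMod.coe_unitOfCoprime, pow_one]
  rw [hord] at hdeg
  have hc1 : Nat.card V = Nat.card (AEval' σ) := Nat.card_congr (AEval'.of σ).toEquiv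
  have hc2 : Nat.card (AEval' σ) = Nat.card ((ZMod q)[X] ⧸ I) := Nat.card_congr e.toEquiv
  rw [hc1, hc2, hf', card_quot_span f hf0, hdeg]

theorem card_of_irreducible_aut {A : Type*} [CommGroup A] [Finite A] [Nontrivial A] (p q : ℕ)
    [hp : Fact p.Prime] [hq : Fact q.Prime] (hpq : p ≠ q) (hAq : ∀ a : A, a ^ q = 1)
    (φ : A →* A) (hφp : ∀ a, φ^[p] a = a) (hφ1 : ∃ a, φ a ≠ a)
    (hmin : ∀ B : Subgroup A, (∀ b ∈ B, φ b ∈ B) → B = ⊥ ∨ B = ⊤) :
    Nat.card A = q ^ orderOf ((q : ℕ) : ZMod p) := by
  have : Module (ZMod q) (Additive A) := AddCommGroup.zmodModule (n := q) (by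
    intro v
    have := hAq (Additive.toMul v)
    exact congrArg Additive.ofMul this)
  obtain ⟨σ, hσapp⟩ : ∃ σ : Additive A →ₗ[ZMod q] Additive A,
      ∀ v : Additive A, σ v = Additive.ofMul (φ (Additive.toMul v)) :=
    ⟨(MonoidHom.toAdditive φ).toZModLinearMap q, fun v => rfl⟩
  have hiter : ∀ (n : ℕ) (v : Additive A), (σ ^ n) v = Additive.ofMul (φ^[n] (Additive.toMul v)) := by
    intro n
    induction n with
    | zero => intro v; simp
    | succ n ih =>
      intro v
      rw [pow_succ', Module.End.mul_apply, ih, hσapp, Function.iterate_succ_apply']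
      rfl
  have hσp : σ ^ p = 1 := by
    ext v
    rw [hiter, hφp]
    rfl
  have hσ1 : σ ≠ 1 := by
    obtain ⟨a, ha⟩ := hφ1
    intro h
    apply ha
    have := congrArg (fun f : Additive A →ₗ[ZMod q] Additive A => f (Additive.ofMul a)) h
    simp only [hσapp, Module.End.one_apply] at this
    exact congrArg Additive.toMul this
  have hirr : ∀ W : Submodule (ZMod q) (Additive A), (∀ v ∈ W, σ v ∈ W) → W = ⊥ ∨ W = ⊤ := by
    intro W hW
    set B : Subgroup A := AddSubgroup.toSubgroup' W.toAddSubgroup with hB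
    have hBmem : ∀ a : A, a ∈ B ↔ Additive.ofMul a ∈ W := fun a => Iff.rfl
    have hBinv : ∀ b ∈ B, φ b ∈ B := by
      intro b hb
      rw [hBmem] at hb ⊢
      have := hW _ hb
      rw [hσapp] at this
      exact this
    rcases hmin B hBinv with h | h
    · left
      rw [eq_bot_iff]
      intro v hv
      have : Additive.toMul v ∈ B := by rw [hBmem]; exact hv
      rw [h, Subgroup.mem_bot] at this
      rw [Submodule.mem_bot]
      exact congrArg Additive.ofMul this
    · right
      rw [eq_top_iff]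
      intro v _
      have : Additive.toMul v ∈ B := by rw [h]; trivial
      rw [hBmem] at this
      exact this
  have := card_of_irreducible_prime_action p q hpq σ hσp hσ1 hirr
  rw [← this]
  exact Nat.card_congr Additive.ofMul

open scoped IsMulCommutative in
theorem card_of_irreducible_conj {G : Type*} [Group G] [Finite G] (p q : ℕ)
    [hp : Fact p.Prime] [hq : Fact q.Prime] (hpq : p ≠ q)
    (A : Subgroup G) [hAn : A.Normal] [hAc : IsMulCommutative A] (hAq : ∀ a ∈ A, a ^ q = 1)
    (hA1 : A ≠ ⊥) (x : G) (hxp : x ^ p ∈ Subgroup.centralizer (A : Set G))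
    (hx : x ∉ Subgroup.centralizer (A : Set G))
    (hmin : ∀ B : Subgroup G, B ≤ A → (∀ b ∈ B, x * b * x⁻¹ ∈ B) → B = ⊥ ∨ B = A) :
    Nat.card A = q ^ orderOf ((q : ℕ) : ZMod p) := by
  have hnt : Nontrivial A := (Subgroup.nontrivial_iff_ne_bot A).mpr hA1
  set φ : A →* A := (MulAut.conjNormal x : MulAut A).toMonoidHom with hφ
  have hφapp : ∀ a : A, ((φ a : A) : G) = x * a * x⁻¹ := by
    intro a
    simp [hφ]
  have hiter : ∀ (n : ℕ) (a : A), ((φ^[n] a : A) : G) = x ^ n * a * (x ^ n)⁻¹ := by
    intro n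
    induction n with
    | zero => intro a; simp
    | succ n ih =>
      intro a
      rw [Function.iterate_succ_apply', hφapp, ih, pow_succ']
      group
  refine card_of_irreducible_aut p q hpq ?_ φ ?_ ?_ ?_
  · intro a
    apply Subtype.ext
    simpa using hAq a a.2
  · intro a
    apply Subtype.ext
    rw [hiter]
    have := hxp (a : G) a.2
    rw [← this]
    group
  · by_contra hcon
    push Not at hcon
    apply hx
    intro a ha
    have := congrArg (fun z : A => (z : G)) (hcon ⟨a, ha⟩)
    simp only [hφapp] at this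
    calc a * x = (x * a * x⁻¹) * x := by rw [this]
      _ = x * a := by group
  · intro B hB
    have := hmin (B.map A.subtype) (Subgroup.map_subtype_le B) ?_
    · rcases this with h | h
      · left
        rwa [← Subgroup.map_bot A.subtype, (Subgroup.map_injective A.subtype_injective).eq_iff] at h
      · right
        rw [eq_top_iff]
        intro a _
        have ha : (a : G) ∈ B.map A.subtype := by rw [h]; exact a.2
        obtain ⟨b, hb, hba⟩ := ha
        have : b = a := Subtype.ext hba
        rwa [← this]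
    · rintro _ ⟨b, hb, rfl⟩
      refine ⟨φ b, hB b hb, ?_⟩
      rw [Subgroup.subtype_apply, hφapp]
      rfl

end Cfsg.Agent.Helper64
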