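import Mathlib

set_option autoImplicit false

namespace Cfsg.Agent.Helper64

open Subgroup

/-- Two Sylow subgroups of `G` contained in a subgroup `L` are conjugate by an element of `L`. -/
theorem exists_mem_smul_eq_of_le {G : Type*} [Group G] [Finite G] {p : ℕ} [Fact p.Prime]
    (P Q : Sylow p G) (L : Subgroup G) (hP : (P : Subgroup G) ≤ L) (hQ : (Q : Subgroup G) ≤ L) :
    ∃ l ∈ L, l • Q = P := by
  obtain ⟨m, hm⟩ := MulAction.exists_smul_eq L (Q.subtype hQ) (P.subtype hP)
  refine ⟨m.1, m.2, ?_⟩
  have := congrArg (fun R : Sylow p L => (R : Subgroup L).map L.subtype) hm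
  apply Sylow.ext
  have e1 : ((m • Q.subtype hQ : Sylow p L) : Subgroup L).map L.subtype
      = (((m : G) • Q : Sylow p G) : Subgroup G) := by
    rw [Sylow.smul_subtype hQ m, Sylow.coe_subtype, Subgroup.subgroupOf_map_subtype]
    exact inf_of_le_left (Sylow.smul_le hQ m)
  have e2 : ((P.subtype hP : Sylow p L) : Subgroup L).map L.subtype = (P : Subgroup G) := by
    rw [Sylow.coe_subtype, Subgroup.subgroupOf_map_subtype]
    exact inf_of_le_left hP
  rw [← e1, ← e2]
  exact this

theorem mem_smul_sylow_iff {G : Type*} [Group G] {p : ℕ} (P : Sylow p G) (g x : G) :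
    x ∈ ((g • P : Sylow p G) : Subgroup G) ↔ g⁻¹ * x * g ∈ (P : Subgroup G) := by
  rw [Sylow.coe_subgroup_smul, Subgroup.mem_pointwise_smul_iff_inv_smul_mem]
  simp [MulAut.smul_def]

theorem conj_mem_smul_sylow {G : Type*} [Group G] {p : ℕ} (P : Sylow p G) (g a : G)
    (ha : a ∈ (P : Subgroup G)) : g * a * g⁻¹ ∈ ((g • P : Sylow p G) : Subgroup G) := by
  rw [mem_smul_sylow_iff]
  simpa [mul_assoc] using ha

/-- If `g • P ≤ P` then `g` normalizes `P`. -/
theorem mem_normalizer_of_smul_le {G : Type*} [Group G] {p : ℕ} (P : Sylow p G) (g : G)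
    (h : ((g • P : Sylow p G) : Subgroup G) ≤ (P : Subgroup G)) :
    g ∈ normalizer ((P : Subgroup G) : Set G) := by
  refine (Sylow.smul_eq_iff_mem_normalizer (g := g) (P := P)).mp ?_
  exact Sylow.ext ((g • P).3 P.2 h).symm

/-- The normalizer of the image of a Sylow subgroup in a quotient is the image of the normalizer. -/
theorem normalizer_map_mk' {G : Type*} [Group G] [Finite G] {p : ℕ} [Fact p.Prime]
    (P : Sylow p G) (K : Subgroup G) [K.Normal] :
    normalizer (((P : Subgroup G).map (QuotientGroup.mk' K) : Subgroup (G ⧸ K)) : Set (G ⧸ K))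
      = (normalizer ((P : Subgroup G) : Set G)).map (QuotientGroup.mk' K) := by
  apply le_antisymm _ (le_normalizer_map _)
  intro q hq
  obtain ⟨g, rfl⟩ := QuotientGroup.mk'_surjective K q
  set π := QuotientGroup.mk' K with hπ
  have hL : ((g • P : Sylow p G) : Subgroup G) ≤ (P : Subgroup G) ⊔ K := by
    intro y hy
    rw [mem_smul_sylow_iff] at hy
    have h1 : π (g⁻¹ * y * g) ∈ (P : Subgroup G).map π := mem_map_of_mem π hy
    rw [mem_normalizer_iff] at hq
    have h2 := (hq _).mp h1
    have h3 : π g * π (g⁻¹ * y * g) * (π g)⁻¹ = π y := by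
      rw [← map_inv, ← map_mul, ← map_mul]
      congr 1
      group
    rw [h3] at h2
    have : y ∈ ((P : Subgroup G).map π).comap π := h2
    rw [comap_map_eq, QuotientGroup.ker_mk'] at this
    exact this
  obtain ⟨l, hl, hlP⟩ := exists_mem_smul_eq_of_le P (g • P) ((P : Subgroup G) ⊔ K) le_sup_left hL
  rw [← mul_smul] at hlP
  have hlg : l * g ∈ normalizer ((P : Subgroup G) : Set G) :=
    (Sylow.smul_eq_iff_mem_normalizer (g := l * g) (P := P)).mp hlP
  have h1 : π l ∈ (normalizer ((P : Subgroup G) : Set G)).map π := by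
    have : π l ∈ ((P : Subgroup G) ⊔ K).map π := mem_map_of_mem π hl
    rw [Subgroup.map_sup, QuotientGroup.map_mk'_self, sup_bot_eq] at this
    exact map_mono le_normalizer this
  have h2 : π (l * g) ∈ (normalizer ((P : Subgroup G) : Set G)).map π := mem_map_of_mem π hlg
  have h3 : π g = (π l)⁻¹ * π (l * g) := by rw [map_mul]; group
  rw [h3]
  exact mul_mem (inv_mem h1) h2

/-- The number of Sylow `p`-subgroups of `G ⧸ K` is `|G : N_G(P) K|`. -/
theorem card_sylow_quotient {G : Type*} [Group G] [Finite G] {p : ℕ} [Fact p.Prime]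
    (P : Sylow p G) (K : Subgroup G) [K.Normal] :
    Nat.card (Sylow p (G ⧸ K)) = (normalizer ((P : Subgroup G) : Set G) ⊔ K).index := by
  have hπ : Function.Surjective (QuotientGroup.mk' K) := QuotientGroup.mk'_surjective K
  have h1 := Sylow.card_eq_index_normalizer (P.mapSurjective hπ)
  have h2 : normalizer (((P.mapSurjective hπ : Sylow p (G ⧸ K)) : Subgroup (G ⧸ K)) : Set (G ⧸ K))
      = (normalizer ((P : Subgroup G) : Set G)).map (QuotientGroup.mk' K) := by
    rw [Sylow.coe_mapSurjective]
    exact normalizer_map_mk' P K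
  have h3 : Nat.card (Sylow p (G ⧸ K)) =
      ((normalizer ((P : Subgroup G) : Set G)).map (QuotientGroup.mk' K)).index := by
    rw [← h2]; exact h1
  rw [h3, index_map, QuotientGroup.ker_mk',
    MonoidHom.range_eq_top_of_surjective _ hπ, index_top, mul_one]

end Cfsg.Agent.Helper64
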