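import Mathlib
import Cfsg.Agent.Lib.Helper64.SylowQuot
import Cfsg.Agent.Lib.Helper53.SylowConj2

set_option autoImplicit false

namespace Cfsg.Agent.Helper64

open Subgroup
open scoped Pointwise

theorem mem_conj_smul_iff {G : Type*} [Group G] (H : Subgroup G) (g x : G) :
    x ∈ MulAut.conj g • H ↔ g⁻¹ * x * g ∈ H := by
  rw [Subgroup.mem_pointwise_smul_iff_inv_smul_mem]
  simp [MulAut.smul_def]

/-- Elementwise form of the TI property of a subgroup. -/
def TIelt {G : Type*} [Group G] (H : Subgroup G) : Prop :=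
  ∀ g x : G, x ∈ H → g⁻¹ * x * g ∈ H → x ≠ 1 → g ∈ normalizer (H : Set G)

theorem ti_iff_tielt {G : Type*} [Group G] (H : Subgroup G) :
    (∀ g : G, g ∉ normalizer (H : Set G) → H ⊓ (MulAut.conj g • H) = ⊥) ↔ TIelt H := by
  constructor
  · intro h g x hx hgx hx1
    by_contra hg
    have := h g hg
    have hmem : x ∈ H ⊓ (MulAut.conj g • H) := ⟨hx, (mem_conj_smul_iff H g x).mpr hgx⟩
    rw [this, mem_bot] at hmem
    exact hx1 hmem
  · intro h g hg
    rw [eq_bot_iff]
    rintro x ⟨hx, hgx⟩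
    rw [mem_bot]
    by_contra hx1
    exact hg (h g x hx ((mem_conj_smul_iff H g x).mp hgx) hx1)

theorem mem_normalizer_smul_sylow_iff {G : Type*} [Group G] {p : ℕ} (P : Sylow p G) (h g : G) :
    g ∈ normalizer (((h • P : Sylow p G) : Subgroup G) : Set G) ↔
      h⁻¹ * g * h ∈ normalizer ((P : Subgroup G) : Set G) := by
  have e1 : g ∈ normalizer (((h • P : Sylow p G) : Subgroup G) : Set G) ↔ g • (h • P) = h • P :=
    (Sylow.smul_eq_iff_mem_normalizer (g := g) (P := h • P)).symm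
  have e2 : h⁻¹ * g * h ∈ normalizer ((P : Subgroup G) : Set G) ↔ (h⁻¹ * g * h) • P = P :=
    (Sylow.smul_eq_iff_mem_normalizer (g := h⁻¹ * g * h) (P := P)).symm
  rw [e1, e2, ← mul_smul]
  constructor
  · intro e
    have := congrArg (fun Q : Sylow p G => h⁻¹ • Q) e
    simp only [← mul_smul] at this
    rw [inv_mul_cancel, one_smul] at this
    rw [← this]
    congr 1
    group
  · intro e
    have := congrArg (fun Q : Sylow p G => h • Q) e
    simp only [← mul_smul] at this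
    rw [← this]
    congr 1
    group

theorem tielt_smul {G : Type*} [Group G] {p : ℕ} (P : Sylow p G) (h : G)
    (hP : TIelt (P : Subgroup G)) : TIelt ((h • P : Sylow p G) : Subgroup G) := by
  intro g x hx hgx hx1
  rw [mem_normalizer_smul_sylow_iff]
  rw [mem_smul_sylow_iff] at hx hgx
  apply hP (h⁻¹ * g * h) (h⁻¹ * x * h) hx
  · have : (h⁻¹ * g * h)⁻¹ * (h⁻¹ * x * h) * (h⁻¹ * g * h) = h⁻¹ * (g⁻¹ * x * g) * h := by group
    rw [this]; exact hgx
  · intro h1
    apply hx1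
    have : x = h * (h⁻¹ * x * h) * h⁻¹ := by group
    rw [this, h1]; group

/-- TI passes from a Sylow subgroup of `G` to Sylow subgroups of any subgroup `U`. -/
theorem tielt_subgroup {G : Type*} [Group G] [Finite G] {p : ℕ} [Fact p.Prime] (P : Sylow p G)
    (hP : TIelt (P : Subgroup G)) (U : Subgroup G) (Q : Sylow p U) :
    TIelt (Q : Subgroup U) := by
  have hQp : IsPGroup p ((Q : Subgroup U).map U.subtype) := Q.2.map _
  obtain ⟨P₁, hP₁⟩ := hQp.exists_le_sylow
  obtain ⟨h, rfl⟩ := MulAction.exists_smul_eq G P P₁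
  have hTI := tielt_smul P h hP
  set P₁ := h • P with hP₁def
  -- `R = P₁ ∩ U` as a subgroup of `U` equals `Q`
  have hR : IsPGroup p (((P₁ : Subgroup G) ⊓ U).subgroupOf U) :=
    (P₁.2.to_le inf_le_left).comap_subtype
  have hQR : (Q : Subgroup U) ≤ ((P₁ : Subgroup G) ⊓ U).subgroupOf U := by
    intro x hx
    rw [mem_subgroupOf]
    exact ⟨hP₁ (mem_map_of_mem _ hx), x.2⟩
  have hRQ : ((P₁ : Subgroup G) ⊓ U).subgroupOf U = (Q : Subgroup U) := Q.3 hR hQR
  intro u x hx hux hx1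
  have hx' : (x : G) ∈ (P₁ : Subgroup G) := hP₁ (mem_map_of_mem _ hx)
  have hux' : (u : G)⁻¹ * (x : G) * (u : G) ∈ (P₁ : Subgroup G) := by
    have := hP₁ (mem_map_of_mem U.subtype hux)
    simpa using this
  have hx1' : (x : G) ≠ 1 := fun h1 => hx1 (Subtype.ext h1)
  have huN : (u : G) ∈ normalizer ((P₁ : Subgroup G) : Set G) := hTI u x hx' hux' hx1'
  -- hence `u` normalizes `R = Q`
  rw [mem_normalizer_iff]
  intro y
  rw [← hRQ, mem_subgroupOf, mem_subgroupOf]
  constructor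
  · rintro ⟨hy1, hy2⟩
    refine ⟨?_, ?_⟩
    · have := (mem_normalizer_iff.mp huN (y : G)).mp hy1
      exact this
    · exact (u * y * u⁻¹).2
  · rintro ⟨hy1, hy2⟩
    refine ⟨?_, y.2⟩
    apply (mem_normalizer_iff.mp huN (y : G)).mpr
    exact hy1

/-- TI passes from a Sylow subgroup of `G` to Sylow subgroups of `G ⧸ N` for `N` a normal `p'`-subgroup. -/
theorem tielt_quotient {G : Type*} [Group G] [Finite G] {p : ℕ} [Fact p.Prime] (P : Sylow p G)
    (hP : TIelt (P : Subgroup G)) (N : Subgroup G) [N.Normal] (hN : (Nat.card N).Coprime p)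
    (Q : Sylow p (G ⧸ N)) : TIelt (Q : Subgroup (G ⧸ N)) := by
  have hπ : Function.Surjective (QuotientGroup.mk' N) := QuotientGroup.mk'_surjective N
  obtain ⟨P₁, rfl⟩ := Sylow.mapSurjective_surjective hπ p Q
  obtain ⟨h, rfl⟩ := MulAction.exists_smul_eq G P P₁
  have hTI := tielt_smul P h hP
  set P₁ := h • P with hP₁def
  set π := QuotientGroup.mk' N with hπdef
  intro xb zb hz hxz hz1
  rw [Sylow.coe_mapSurjective] at hz hxz ⊢
  obtain ⟨x, rfl⟩ := hπ xb
  obtain ⟨z, hzP, rfl⟩ := hz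
  -- `w = x⁻¹ z x ∈ P₁ N`
  have hw : x⁻¹ * z * x ∈ (P₁ : Subgroup G) ⊔ N := by
    have : π (x⁻¹ * z * x) ∈ (P₁ : Subgroup G).map π := by
      rw [map_mul, map_mul, map_inv]; exact hxz
    have h2 : x⁻¹ * z * x ∈ ((P₁ : Subgroup G).map π).comap π := this
    rwa [comap_map_eq, QuotientGroup.ker_mk'] at h2
  -- `zpowers w` is a `p`-group
  have hzp : IsPGroup p (zpowers (x⁻¹ * z * x)) := by
    obtain ⟨k, hk⟩ := P₁.2 ⟨z, hzP⟩
    have hk' : z ^ p ^ k = 1 := by
      have := congrArg Subtype.val hk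
      simpa using this
    have : (x⁻¹ * z * x) ^ p ^ k = 1 := by
      have e : x⁻¹ * z * x = x⁻¹ * z * x⁻¹⁻¹ := by rw [inv_inv]
      rw [e, conj_pow, hk']; group
    apply IsPGroup.of_card (n := (Nat.card (zpowers (x⁻¹ * z * x))).factorization p)
    rw [Nat.card_zpowers]
    obtain ⟨a, -, ha⟩ := (Nat.dvd_prime_pow (Fact.out : p.Prime)).mp (orderOf_dvd_of_pow_eq_one this)
    rw [ha, Nat.Prime.factorization_pow (Fact.out : p.Prime)]
    simp
  obtain ⟨l, hl, hle⟩ := Cfsg.Agent.Helper53.exists_conj_sylow_ge P₁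
    (K := (P₁ : Subgroup G) ⊔ N) (A := zpowers (x⁻¹ * z * x)) le_sup_left
    ((zpowers_le).mpr hw) hzp
  have hwl : x⁻¹ * z * x ∈ ((l • P₁ : Sylow p G) : Subgroup G) := hle (mem_zpowers _)
  rw [mem_smul_sylow_iff] at hwl
  have hz1' : z ≠ 1 := by
    intro h1
    apply hz1
    rw [h1, map_one]
  have hxl : x * l ∈ normalizer ((P₁ : Subgroup G) : Set G) := by
    apply hTI (x * l) z hzP _ hz1'
    have : (x * l)⁻¹ * z * (x * l) = l⁻¹ * (x⁻¹ * z * x) * l := by group
    rw [this]; exact hwl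
  -- `π l ∈ π P₁`
  have hπl : π l ∈ (P₁ : Subgroup G).map π := by
    have : π l ∈ ((P₁ : Subgroup G) ⊔ N).map π := mem_map_of_mem π hl
    rwa [Subgroup.map_sup, QuotientGroup.map_mk'_self, sup_bot_eq] at this
  have h1 : π (x * l) ∈ normalizer (((P₁ : Subgroup G).map π : Subgroup (G ⧸ N)) : Set (G ⧸ N)) :=
    le_normalizer_map π (mem_map_of_mem π hxl)
  have h2 : π l ∈ normalizer (((P₁ : Subgroup G).map π : Subgroup (G ⧸ N)) : Set (G ⧸ N)) :=
    le_normalizer hπl
  have h3 : π x = π (x * l) * (π l)⁻¹ := by rw [map_mul]; group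
  rw [h3]
  exact mul_mem h1 (inv_mem h2)

end Cfsg.Agent.Helper64
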