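import Mathlib
import Cfsg.Prelude.Def_LocalStructure
import Cfsg.Prelude.Def_Transfer
import Cfsg.Agent.Lib.Helper64.Basic
import Cfsg.Agent.Lib.Helper64.DirectFactor
import Cfsg.Agent.Lib.Helper64.SylowQuot
import Cfsg.Agent.Lib.Helper64.TISylow
import Cfsg.Agent.Lib.Helper64.IrrAction
import Cfsg.Agent.Lib.Helper64.IndexP

set_option autoImplicit false

namespace Cfsg.Agent.Helper64

open Subgroup

/-- If `H` is `p`-closed and contains the Sylow `p`-subgroup `P` of `G`, then `H` normalizes `P`. -/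
theorem le_normalizer_of_isPClosed {G : Type*} [Group G] {p : ℕ} [Fact p.Prime]
    {H : Subgroup G} (hH : Cfsg.IsPClosed p ↥H) (P : Sylow p G) (hPH : (P : Subgroup G) ≤ H) :
    H ≤ normalizer ((P : Subgroup G) : Set G) := by
  have h1 : ((P.subtype hPH : Sylow p H) : Subgroup H).Normal := hH (P.subtype hPH)
  rw [Sylow.coe_subtype] at h1
  exact (Subgroup.normal_subgroupOf_iff_le_normalizer hPH).mp h1

/-- If `G ⧸ N` is `p`-closed, then `P ⊔ N` is normal in `G` for every Sylow `p`-subgroup `P`. -/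
theorem sup_normal_of_isPClosed_quotient {G : Type*} [Group G] [Finite G] {p : ℕ} [Fact p.Prime]
    (N : Subgroup G) [N.Normal] (h : Cfsg.IsPClosed p (G ⧸ N)) (P : Sylow p G) :
    ((P : Subgroup G) ⊔ N).Normal := by
  have h1 : ((P.mapSurjective (QuotientGroup.mk'_surjective N) : Sylow p (G ⧸ N)) :
      Subgroup (G ⧸ N)).Normal := h _
  rw [Sylow.coe_mapSurjective] at h1
  have h2 := h1.comap (QuotientGroup.mk' N)
  rw [Subgroup.comap_map_eq, QuotientGroup.ker_mk'] at h2
  exact h2

/-- A minimal normal subgroup which is a `q`-group is elementary abelian. -/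
theorem elementary_of_minimal_normal_pgroup {G : Type*} [Group G] [Finite G] {q : ℕ}
    [hq : Fact q.Prime] (A : Subgroup G) [hAn : A.Normal] (hA : IsPGroup q A) (hA1 : A ≠ ⊥)
    (hmin : ∀ B : Subgroup G, B.Normal → B ≤ A → B = ⊥ ∨ B = A) :
    IsMulCommutative A ∧ ∀ a ∈ A, a ^ q = 1 := by
  have hnt : Nontrivial A := (Subgroup.nontrivial_iff_ne_bot A).mpr hA1
  -- the centre
  have hZn : ((center A).map A.subtype).Normal := inferInstance
  have hZne : (center A).map A.subtype ≠ ⊥ := by
    have : Nontrivial (center A) := hA.center_nontrivial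
    intro h
    rw [Subgroup.map_eq_bot_iff_of_injective _ A.subtype_injective] at h
    exact (Subgroup.nontrivial_iff_ne_bot _).mp this h
  have hZ : (center A).map A.subtype = A :=
    (hmin _ hZn (Subgroup.map_subtype_le _)).resolve_left hZne
  have hcomm : ∀ a b : A, a * b = b * a := by
    intro a b
    have ha : (a : G) ∈ (center A).map A.subtype := by rw [hZ]; exact a.2
    obtain ⟨a', ha', haa⟩ := ha
    have : a' = a := Subtype.ext haa
    rw [this] at ha'
    exact ((Subgroup.mem_center_iff.mp ha') b).symm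
  have hAc : IsMulCommutative A := ⟨⟨hcomm⟩⟩
  refine ⟨hAc, ?_⟩
  have hcommG : ∀ a ∈ A, ∀ b ∈ A, a * b = b * a := fun a ha b hb =>
    congrArg Subtype.val (hcomm ⟨a, ha⟩ ⟨b, hb⟩)
  -- the subgroup of elements of order dividing `q`
  let B : Subgroup G :=
    { carrier := {a | a ∈ A ∧ a ^ q = 1}
      one_mem' := ⟨A.one_mem, one_pow q⟩
      mul_mem' := by
        rintro a b ⟨ha, ha'⟩ ⟨hb, hb'⟩
        refine ⟨A.mul_mem ha hb, ?_⟩
        have hc : Commute a b := hcommG a ha b hb
        rw [hc.mul_pow, ha', hb', one_mul]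
      inv_mem' := by
        rintro a ⟨ha, ha'⟩
        exact ⟨A.inv_mem ha, by rw [inv_pow, ha', inv_one]⟩ }
  have hBmem : ∀ a, a ∈ B ↔ a ∈ A ∧ a ^ q = 1 := fun a => Iff.rfl
  have hBn : B.Normal := by
    refine ⟨fun n hn g => ?_⟩
    rw [hBmem] at hn ⊢
    refine ⟨hAn.conj_mem n hn.1 g, ?_⟩
    rw [conj_pow, hn.2, mul_one, mul_inv_cancel]
  have hBA : B ≤ A := fun a ha => ha.1
  have hBne : B ≠ ⊥ := by
    obtain ⟨n, hn⟩ := IsPGroup.iff_card.mp hA
    have hn0 : n ≠ 0 := by
      intro h0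
      rw [h0, pow_zero] at hn
      exact hA1 (Subgroup.card_eq_one.mp hn)
    have hdvd : q ∣ Nat.card A := by rw [hn]; exact dvd_pow_self q hn0
    obtain ⟨a, ha⟩ := exists_prime_orderOf_dvd_card' q hdvd
    intro hB
    have haB : (a : G) ∈ B := by
      rw [hBmem]
      refine ⟨a.2, ?_⟩
      have : a ^ q = 1 := by rw [← ha]; exact pow_orderOf_eq_one a
      exact_mod_cast congrArg Subtype.val this
    rw [hB, Subgroup.mem_bot] at haB
    have : a = 1 := Subtype.ext haB
    rw [this, orderOf_one] at ha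
    exact hq.out.one_lt.ne ha
  have hB : B = A := (hmin B hBn hBA).resolve_left hBne
  intro a ha
  rw [← hB] at ha
  exact ha.2

section MinNonPClosed

variable {G : Type*} [Group G] [Finite G] {p : ℕ} [hp : Fact p.Prime]

/-- In a minimal non-`p`-closed group every proper normal subgroup is a `p'`-group. -/
theorem coprime_card_of_normal_of_min_non_pclosed
    (P : Sylow p G) (hP : ¬ (P : Subgroup G).Normal)
    (hsub : ∀ H : Subgroup G, H ≠ ⊤ → Cfsg.IsPClosed p ↥H)
    (hquo : ∀ (N : Subgroup G) [N.Normal], N ≠ ⊥ → Cfsg.IsPClosed p (G ⧸ N))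
    (M : Subgroup G) [M.Normal] (hM : M ≠ ⊤) : (Nat.card M).Coprime p := by
  by_contra hcop
  have hdvd : p ∣ Nat.card M := by
    rwa [Nat.coprime_comm, Nat.Prime.coprime_iff_not_dvd hp.out, not_not] at hcop
  obtain ⟨S⟩ : Nonempty (Sylow p M) := inferInstance
  have hSn : (S : Subgroup M).Normal := hsub M hM S
  have hSc : (S : Subgroup M).Characteristic := Sylow.characteristic_of_normal S hSn
  have hS'n : ((S : Subgroup M).map M.subtype).Normal := inferInstance
  have hS'ne : (S : Subgroup M).map M.subtype ≠ ⊥ := by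
    intro h
    rw [Subgroup.map_eq_bot_iff_of_injective _ M.subtype_injective] at h
    exact Sylow.ne_bot_of_dvd_card S hdvd h
  have hS'p : IsPGroup p ((S : Subgroup M).map M.subtype) := S.isPGroup'.map M.subtype
  have hle : (S : Subgroup M).map M.subtype ≤ P := hS'p.le_sylow_of_normal P
  have := sup_normal_of_isPClosed_quotient _ (hquo _ hS'ne) P
  rw [sup_eq_left.mpr hle] at this
  exact hP this

theorem sylow_sup_eq_top_of_min_non_pclosed
    (P : Sylow p G) (hP : ¬ (P : Subgroup G).Normal)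
    (hsub : ∀ H : Subgroup G, H ≠ ⊤ → Cfsg.IsPClosed p ↥H)
    (hquo : ∀ (N : Subgroup G) [N.Normal], N ≠ ⊥ → Cfsg.IsPClosed p (G ⧸ N))
    (M : Subgroup G) [M.Normal] (hM : M ≠ ⊥) : (P : Subgroup G) ⊔ M = ⊤ := by
  by_contra hne
  have hn : ((P : Subgroup G) ⊔ M).Normal := sup_normal_of_isPClosed_quotient M (hquo M hM) P
  have hcop := coprime_card_of_normal_of_min_non_pclosed P hP hsub hquo (P ⊔ M) hne
  have hdvd : Nat.card P ∣ Nat.card ((P : Subgroup G) ⊔ M : Subgroup G) :=
    Subgroup.card_dvd_of_le le_sup_left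
  have hcop2 : (Nat.card P).Coprime p := Nat.Coprime.coprime_dvd_left hdvd hcop
  have hPbot : (P : Subgroup G) = ⊥ := by
    obtain ⟨k, hk⟩ := IsPGroup.iff_card.mp P.isPGroup'
    rcases Nat.eq_zero_or_pos k with h0 | hpos
    · rw [h0, pow_zero] at hk; exact Subgroup.card_eq_one.mp hk
    · exfalso
      rw [hk] at hcop2
      have h1 : Nat.Coprime p p := Nat.Coprime.coprime_dvd_left (dvd_pow_self p hpos.ne') hcop2
      rw [Nat.coprime_self] at h1
      exact hp.out.one_lt.ne' h1
  apply hP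
  rw [hPbot]
  infer_instance

theorem exists_normal_index_p_of_min_non_pclosed
    (P : Sylow p G) (hP : ¬ (P : Subgroup G).Normal)
    (hsub : ∀ H : Subgroup G, H ≠ ⊤ → Cfsg.IsPClosed p ↥H)
    (hquo : ∀ (N : Subgroup G) [N.Normal], N ≠ ⊥ → Cfsg.IsPClosed p (G ⧸ N))
    (hns : ¬ IsSimpleGroup G) :
    ∃ K : Subgroup G, K.Normal ∧ K.index = p ∧ (Nat.card K).Coprime p := by
  have hnt : Nontrivial G := by
    by_contra hnt
    rw [not_nontrivial_iff_subsingleton] at hnt
    apply hP
    refine ⟨fun n hn g => ?_⟩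
    rw [Subsingleton.elim (g * n * g⁻¹) n]
    exact hn
  obtain ⟨M, hMn, hMbot, hMtop⟩ : ∃ M : Subgroup G, M.Normal ∧ M ≠ ⊥ ∧ M ≠ ⊤ := by
    by_contra h
    push Not at h
    apply hns
    exact { toNontrivial := hnt
            eq_bot_or_eq_top_of_normal := fun H hH => by
              by_cases hb : H = ⊥
              · exact Or.inl hb
              · exact Or.inr (h H hH hb) }
  have hsup := sylow_sup_eq_top_of_min_non_pclosed P hP hsub hquo M hMbot
  have hidx : M.index ∣ Nat.card P := by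
    have h1 : M.relIndex ((P : Subgroup G) ⊔ M) = M.relIndex P := Subgroup.relIndex_sup_right (P : Subgroup G) M
    rw [hsup, Subgroup.relIndex_top_right] at h1
    rw [h1]
    exact Subgroup.index_dvd_card _
  obtain ⟨k, hk⟩ := IsPGroup.iff_card.mp P.isPGroup'
  rw [hk] at hidx
  obtain ⟨j, hjk, hj⟩ := (Nat.dvd_prime_pow hp.out).mp hidx
  have hj0 : j ≠ 0 := by
    intro h0
    rw [h0, pow_zero] at hj
    exact hMtop (Subgroup.index_eq_one.mp hj)
  have hcardQ : Nat.card (G ⧸ M) = p ^ j := by rw [← Subgroup.index_eq_card, hj]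
  obtain ⟨Kb, hKb, -⟩ := Sylow.exists_subgroup_card_pow_prime_le (G := G ⧸ M) p
    (n := 0) (m := j - 1) (by rw [hcardQ]; exact pow_dvd_pow p (Nat.sub_le j 1)) ⊥
    (by rw [Subgroup.card_bot, pow_zero]) (Nat.zero_le _)
  have hKbidx : Kb.index = p := by
    have h1 := Subgroup.card_mul_index Kb
    rw [hKb, hcardQ] at h1
    have h2 : p ^ j = p ^ (j - 1) * p := by
      rw [← pow_succ, Nat.sub_add_cancel (Nat.pos_of_ne_zero hj0)]
    rw [h2] at h1
    exact Nat.eq_of_mul_eq_mul_left (pow_pos hp.out.pos _) h1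
  have hKbn : Kb.Normal := by
    apply Subgroup.normal_of_index_eq_minFac_card
    rw [hKbidx, hcardQ, Nat.Prime.pow_minFac hp.out hj0]
  refine ⟨Kb.comap (QuotientGroup.mk' M), hKbn.comap _, ?_, ?_⟩
  · rw [Subgroup.index_comap_of_surjective _ (QuotientGroup.mk'_surjective M), hKbidx]
  · have hKn : (Kb.comap (QuotientGroup.mk' M)).Normal := hKbn.comap _
    apply coprime_card_of_normal_of_min_non_pclosed P hP hsub hquo
    intro htop
    have : (Kb.comap (QuotientGroup.mk' M)).index = p := by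
      rw [Subgroup.index_comap_of_surjective _ (QuotientGroup.mk'_surjective M), hKbidx]
    rw [htop, Subgroup.index_top] at this
    exact hp.out.one_lt.ne this

/-- Structure of the non-simple minimal non-`p`-closed groups. -/
theorem min_non_pclosed_structure
    (hnc : ¬ Cfsg.IsPClosed p G) (hsub : ∀ H : Subgroup G, H ≠ ⊤ → Cfsg.IsPClosed p ↥H)
    (hquo : ∀ (N : Subgroup G) [N.Normal], N ≠ ⊥ → Cfsg.IsPClosed p (G ⧸ N))
    (hns : ¬ IsSimpleGroup G) :
    ∃ q : ℕ, q.Prime ∧ q ≠ p ∧ Nat.card G = p * q ^ orderOf ((q : ℕ) : ZMod p) ∧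
      ∃ A : Subgroup G, A.Normal ∧ Nat.card ↥A = q ^ orderOf ((q : ℕ) : ZMod p) ∧
        Cfsg.IsElementaryAbelian q A ∧
        ∀ B : Subgroup G, B.Normal → B ≤ A → B = ⊥ ∨ B = A := by
  obtain ⟨P, hP⟩ : ∃ P : Sylow p G, ¬ (P : Subgroup G).Normal := by
    unfold Cfsg.IsPClosed at hnc
    push Not at hnc
    exact hnc
  obtain ⟨K, hKn, hKidx, hKcop⟩ := exists_normal_index_p_of_min_non_pclosed P hP hsub hquo hns
  have hcardG : Nat.card G = Nat.card K * p := by
    rw [← hKidx]; exact (Subgroup.card_mul_index K).symm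
  have hpK : ¬ p ∣ Nat.card K := by
    rw [Nat.coprime_comm, Nat.Prime.coprime_iff_not_dvd hp.out] at hKcop
    exact hKcop
  have hfac : (Nat.card G).factorization p = 1 := by
    rw [hcardG, Nat.factorization_mul Nat.card_pos.ne' hp.out.ne_zero, Finsupp.add_apply,
      Nat.factorization_eq_zero_of_not_dvd hpK, hp.out.factorization_self]
  have hcardP : Nat.card P = p := by rw [P.card_eq_multiplicity, hfac, pow_one]
  have hKtop : K ≠ ⊤ := by
    intro h
    rw [h, Subgroup.index_top] at hKidx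
    exact hp.out.one_lt.ne hKidx
  have hmin : ∀ B : Subgroup G, B.Normal → B ≤ K → B = ⊥ ∨ B = K := by
    intro B hBn hBK
    by_cases hB : B = ⊥
    · exact Or.inl hB
    · right
      have hsup := sylow_sup_eq_top_of_min_non_pclosed P hP hsub hquo B hB
      have hidx : B.index ∣ p := by
        have h1 : B.relIndex ((P : Subgroup G) ⊔ B) = B.relIndex P :=
          Subgroup.relIndex_sup_right (P : Subgroup G) B
        rw [hsup, Subgroup.relIndex_top_right] at h1
        have h4 : B.relIndex (P : Subgroup G) ∣ Nat.card P := Subgroup.index_dvd_card _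
        rw [hcardP] at h4
        rw [h1]
        exact h4
      have h2 := Subgroup.relIndex_mul_index hBK
      rw [hKidx] at h2
      have h3 : B.relIndex K = 1 := by
        rcases (Nat.dvd_prime hp.out).mp hidx with h | h
        · exfalso
          have := Subgroup.index_eq_one.mp h
          exact hKtop (top_le_iff.mp (this ▸ hBK))
        · rw [h] at h2
          exact Nat.eq_of_mul_eq_mul_right hp.out.pos (by rw [h2, one_mul])
      exact le_antisymm hBK (Subgroup.relIndex_eq_one.mp h3)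
  -- the prime `q`
  have hNtop : normalizer ((P : Subgroup G) : Set G) ≠ ⊤ :=
    fun h => hP (normalizer_eq_top_iff.mp h)
  have hNidx : (normalizer ((P : Subgroup G) : Set G)).index ≠ 1 :=
    fun h => hNtop (Subgroup.index_eq_one.mp h)
  obtain ⟨q, hqprime, hqdvd⟩ : ∃ q : ℕ, q.Prime ∧
      q ∣ (normalizer ((P : Subgroup G) : Set G)).index :=
    ⟨_, Nat.minFac_prime hNidx, Nat.minFac_dvd _⟩
  have hqp : q ≠ p := by
    intro h
    have h1 : (normalizer ((P : Subgroup G) : Set G)).index ∣ (P : Subgroup G).index :=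
      Subgroup.index_dvd_of_le le_normalizer
    rw [h] at hqdvd
    exact P.not_dvd_index (dvd_trans hqdvd h1)
  have : Fact q.Prime := ⟨hqprime⟩
  have hsylK : ∀ Q : Sylow q G, (Q : Subgroup G) ≤ K := by
    intro Q g hg
    apply mem_of_coprime_index K g
    rw [hKidx]
    obtain ⟨k, hk⟩ := (IsPGroup.iff_orderOf.mp Q.isPGroup') ⟨g, hg⟩
    rw [Subgroup.orderOf_mk] at hk
    rw [hk]
    exact Nat.Coprime.pow_left k ((Nat.coprime_primes hqprime hp.out).mpr hqp)
  obtain ⟨Q⟩ : Nonempty (Sylow q G) := inferInstance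
  have hfr : normalizer ((Q : Subgroup G) : Set G) ⊔ K = ⊤ :=
    Sylow.normalizer_sup_eq_top' Q (hsylK Q)
  have hpdvd : p ∣ Nat.card (normalizer ((Q : Subgroup G) : Set G)) := by
    have h1 : K.relIndex (normalizer ((Q : Subgroup G) : Set G) ⊔ K) =
        K.relIndex (normalizer ((Q : Subgroup G) : Set G)) := Subgroup.relIndex_sup_right _ K
    rw [hfr, Subgroup.relIndex_top_right, hKidx] at h1
    rw [h1]
    exact Subgroup.index_dvd_card _
  obtain ⟨y, hy⟩ := exists_prime_orderOf_dvd_card' p hpdvd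
  have hy' : orderOf (y : G) = p := by rw [Subgroup.orderOf_coe]; exact hy
  have hcardP' : Nat.card (zpowers (y : G)) = p ^ (Nat.card G).factorization p := by
    rw [Nat.card_zpowers, hy', hfac, pow_one]
  obtain ⟨g, hg⟩ := MulAction.exists_smul_eq G (Sylow.ofCard (zpowers (y : G)) hcardP') P
  have hPQ' : (P : Subgroup G) ≤ normalizer (((g • Q : Sylow q G) : Subgroup G) : Set G) := by
    intro z hz
    rw [mem_normalizer_smul_sylow_iff]
    have h1 : g⁻¹ * z * g ∈ zpowers (y : G) := by
      rw [← hg, mem_smul_sylow_iff] at hz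
      exact hz
    exact (Subgroup.zpowers_le.mpr y.2) h1
  have hsupQ : (P : Subgroup G) ⊔ ((g • Q : Sylow q G) : Subgroup G) = ⊤ := by
    by_contra hne
    have h1 := le_normalizer_of_isPClosed (hsub _ hne) P le_sup_left
    have h2 : ((g • Q : Sylow q G) : Subgroup G) ≤ normalizer ((P : Subgroup G) : Set G) :=
      le_trans le_sup_right h1
    have h3 : (normalizer ((P : Subgroup G) : Set G)).index ∣
        ((g • Q : Sylow q G) : Subgroup G).index := Subgroup.index_dvd_of_le h2
    exact (g • Q).not_dvd_index (dvd_trans hqdvd h3)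
  have hQ'n : ((g • Q : Sylow q G) : Subgroup G).Normal := by
    rw [← normalizer_eq_top_iff, eq_top_iff, ← hsupQ]
    exact sup_le hPQ' le_normalizer
  have hQ'ne : ((g • Q : Sylow q G) : Subgroup G) ≠ ⊥ :=
    Sylow.ne_bot_of_dvd_card (g • Q) (dvd_trans hqdvd (Subgroup.index_dvd_card _))
  have hQ'K : ((g • Q : Sylow q G) : Subgroup G) = K :=
    (hmin _ hQ'n (hsylK (g • Q))).resolve_left hQ'ne
  have hKq : IsPGroup q K := hQ'K ▸ (g • Q).isPGroup'
  have hKbot : K ≠ ⊥ := hQ'K ▸ hQ'ne
  obtain ⟨hKc, hKexp⟩ := elementary_of_minimal_normal_pgroup K hKq hKbot hmin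
  -- an element of order `p`
  have hPbot : (P : Subgroup G) ≠ ⊥ := by
    intro h; apply hP; rw [h]; infer_instance
  obtain ⟨⟨x, hxP⟩, hx1⟩ := Subgroup.ne_bot_iff_exists_ne_one.mp hPbot
  have hx1' : x ≠ 1 := fun h => hx1 (Subtype.ext h)
  have hdis : Disjoint (P : Subgroup G) K := by
    exact Subgroup.disjoint_of_coprime_natCard (by rw [hcardP]; exact hKcop.symm)
  have hxK : x ∉ K := fun hxK => hx1' (Subgroup.disjoint_def.mp hdis hxP hxK)
  have hxp : x ^ p = 1 := by
    have h1 : (⟨x, hxP⟩ : P) ^ Nat.card P = 1 := pow_card_eq_one'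
    rw [hcardP] at h1
    exact congrArg Subtype.val h1
  have hidxp : K.index.Prime := hKidx ▸ hp.out
  have hxc : x ∉ centralizer (K : Set G) := by
    intro hxc
    have hcomm := comm_of_centralizing hidxp hxK hxc
    apply hP
    refine ⟨fun n hn g => ?_⟩
    have h1 : g * n = n * g := hcomm.is_comm.comm g n
    rw [h1, mul_inv_cancel_right]
    exact hn
  have hcardK : Nat.card K = q ^ orderOf ((q : ℕ) : ZMod p) := by
    refine card_of_irreducible_conj p q (Ne.symm hqp) K hKexp hKbot x ?_ hxc ?_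
    · rw [hxp]; exact one_mem _
    · intro B hBK hB
      exact hmin B (normal_of_le_abelian_of_mem_normalizer hidxp hBK hxK
        (mem_normalizer_of_conj_mem B x hB)) hBK
  refine ⟨q, hqprime, hqp, ?_, K, hKn, hcardK, ⟨hKc, hKexp⟩, hmin⟩
  rw [hcardG, hcardK, mul_comm]

end MinNonPClosed

end Cfsg.Agent.Helper64
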