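import Mathlib
import Cfsg.Prelude.Def_LocalStructure
import Cfsg.Prelude.Def_Transfer
import Cfsg.Agent.Lib.Helper64.MinNonPClosed

set_option autoImplicit false

namespace Cfsg.Agent.Helper64

open Subgroup

/-- If every `p`-element of `X` has order dividing `p` and the elements of order dividing `p` form a
subgroup, then `X` is `p`-closed. -/
theorem isPClosed_of_exponent_closed {X : Type*} [Group X] [Finite X] {p : ℕ} [Fact p.Prime]
    (hE : ∀ y : X, (∃ k : ℕ, y ^ p ^ k = 1) → y ^ p = 1)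
    (H : Subgroup X) (hH : (H : Set X) = {g : X | g ^ p = 1}) : Cfsg.IsPClosed p X := by
  intro P
  have hHmem : ∀ g, g ∈ H ↔ g ^ p = 1 := fun g => by rw [← SetLike.mem_coe, hH]; rfl
  have hHp : IsPGroup p H := by
    intro g
    refine ⟨1, ?_⟩
    rw [pow_one]
    apply Subtype.ext
    simpa using (hHmem g).mp g.2
  have hPH : (P : Subgroup X) ≤ H := by
    intro y hy
    rw [hHmem]
    apply hE
    obtain ⟨k, hk⟩ := P.isPGroup' ⟨y, hy⟩
    exact ⟨k, by simpa using congrArg Subtype.val hk⟩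
  have hHn : H.Normal :=
    ⟨fun n hn g => by rw [hHmem] at hn ⊢; rw [conj_pow, hn, mul_one, mul_inv_cancel]⟩
  have : H = P := P.is_maximal' hHp hPH
  rw [← this]
  exact hHn

/-- Conversely, a `p`-closed group whose `p`-elements have order dividing `p` has its elements of
order dividing `p` forming a subgroup. -/
theorem exponent_closed_of_isPClosed {X : Type*} [Group X] [Finite X] {p : ℕ} [Fact p.Prime]
    (hE : ∀ y : X, (∃ k : ℕ, y ^ p ^ k = 1) → y ^ p = 1) (h : Cfsg.IsPClosed p X) :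
    ∃ H : Subgroup X, (H : Set X) = {g : X | g ^ p = 1} := by
  obtain ⟨P⟩ : Nonempty (Sylow p X) := inferInstance
  have hPn := h P
  refine ⟨P, ?_⟩
  ext g
  simp only [SetLike.mem_coe, Set.mem_ofPred_eq]
  constructor
  · intro hg
    apply hE
    obtain ⟨k, hk⟩ := P.isPGroup' ⟨g, hg⟩
    exact ⟨k, by simpa using congrArg Subtype.val hk⟩
  · intro hg
    have hz : IsPGroup p (zpowers g) := by
      rintro ⟨z, hz⟩
      obtain ⟨n, rfl⟩ := mem_zpowers_iff.mp hz
      refine ⟨1, ?_⟩
      apply Subtype.ext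
      simp only [pow_one, SubmonoidClass.mk_pow, OneMemClass.coe_one]
      rw [← zpow_natCast, ← zpow_mul, mul_comm, zpow_mul, zpow_natCast, hg, one_zpow]
    obtain ⟨Q, hQ⟩ := hz.exists_le_sylow
    have : Q = P := by
      have := Sylow.unique_of_normal P hPn
      exact Subsingleton.elim _ _
    rw [← this]
    exact hQ (mem_zpowers g)

section MinNonExpClosed

variable {G : Type*} [Group G] [Finite G] {p : ℕ} [hp : Fact p.Prime]

/-- In a minimal non-`p`-exponent-closed group, the elements of order dividing `p` generate. -/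
theorem closure_pow_eq_one_eq_top
    (hnc : ¬ (∃ H : Subgroup G, (H : Set G) = {g : G | g ^ p = 1}))
    (hsub : ∀ K : Subgroup G, K ≠ ⊤ → (∃ H : Subgroup ↥K, (H : Set ↥K) = {g : ↥K | g ^ p = 1})) :
    closure {g : G | g ^ p = 1} = ⊤ := by
  by_contra hne
  obtain ⟨H, hH⟩ := hsub _ hne
  apply hnc
  refine ⟨H.map (Subgroup.subtype _), ?_⟩
  ext g
  simp only [coe_map, Subgroup.coe_subtype, Set.mem_image, SetLike.mem_coe, Set.mem_ofPred_eq]
  constructor
  · rintro ⟨y, hy, rfl⟩
    have : y ∈ (H : Set _) := hy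
    rw [hH] at this
    exact_mod_cast congrArg Subtype.val (this : y ^ p = 1)
  · intro hg
    refine ⟨⟨g, subset_closure hg⟩, ?_, rfl⟩
    have : (⟨g, subset_closure hg⟩ : closure {g : G | g ^ p = 1}) ∈ (H : Set _) := by
      rw [hH]
      exact Subtype.ext (by simpa using hg)
    exact this

/-- In a minimal non-`p`-exponent-closed group, every proper quotient has exponent `p`. -/
theorem pow_mem_of_min_non_exp_closed
    (hgen : closure {g : G | g ^ p = 1} = ⊤)
    (hquo : ∀ (N : Subgroup G) [N.Normal], N ≠ ⊥ →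
      (∃ H : Subgroup (G ⧸ N), (H : Set (G ⧸ N)) = {g : (G ⧸ N) | g ^ p = 1}))
    (N : Subgroup G) [N.Normal] (hN : N ≠ ⊥) (g : G) : g ^ p ∈ N := by
  obtain ⟨H, hH⟩ := hquo N hN
  have hle : closure {g : G | g ^ p = 1} ≤ H.comap (QuotientGroup.mk' N) := by
    rw [closure_le]
    intro x hx
    have hx' : x ^ p = 1 := hx
    change QuotientGroup.mk' N x ∈ (H : Set (G ⧸ N))
    rw [hH]
    change (QuotientGroup.mk' N x) ^ p = 1
    rw [← map_pow, hx', map_one]
  have hg : g ∈ H.comap (QuotientGroup.mk' N) := hle (by rw [hgen]; trivial)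
  have hg' : QuotientGroup.mk' N g ∈ (H : Set (G ⧸ N)) := hg
  rw [hH] at hg'
  have hg'' : (QuotientGroup.mk' N g) ^ p = 1 := hg'
  rw [← map_pow, QuotientGroup.mk'_apply, QuotientGroup.eq_one_iff] at hg''
  exact hg''

/-- In a non-simple minimal non-`p`-exponent-closed group which is not a `p`-group, every
`p`-element has order dividing `p`. -/
theorem pow_eq_one_of_min_non_exp_closed
    (hgen : closure {g : G | g ^ p = 1} = ⊤)
    (hsub : ∀ K : Subgroup G, K ≠ ⊤ → (∃ H : Subgroup ↥K, (H : Set ↥K) = {g : ↥K | g ^ p = 1}))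
    (hquo : ∀ (N : Subgroup G) [N.Normal], N ≠ ⊥ →
      (∃ H : Subgroup (G ⧸ N), (H : Set (G ⧸ N)) = {g : (G ⧸ N) | g ^ p = 1}))
    (hns : ¬ IsSimpleGroup G) (hnp : ¬ IsPGroup p G) :
    ∀ y : G, (∃ k : ℕ, y ^ p ^ k = 1) → y ^ p = 1 := by
  have hnt : Nontrivial G := by
    by_contra hnt
    rw [not_nontrivial_iff_subsingleton] at hnt
    apply hnp
    intro g
    exact ⟨0, Subsingleton.elim _ _⟩
  obtain ⟨M, hMn, hMbot, hMtop⟩ : ∃ M : Subgroup G, M.Normal ∧ M ≠ ⊥ ∧ M ≠ ⊤ := by
    by_contra h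
    push Not at h
    apply hns
    exact { toNontrivial := hnt
            eq_bot_or_eq_top_of_normal := fun H hH => by
              by_cases hb : H = ⊥
              · exact Or.inl hb
              · exact Or.inr (h H hH hb) }
  obtain ⟨H, hH⟩ := hsub M hMtop
  have hHmem : ∀ z : M, z ∈ H ↔ z ^ p = 1 := fun z => by rw [← SetLike.mem_coe, hH]; rfl
  -- `S` = elements of `M` of order dividing `p`, a normal subgroup of `G`
  have hSmem : ∀ g : G, g ∈ H.map M.subtype ↔ g ∈ M ∧ g ^ p = 1 := by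
    intro g
    constructor
    · rintro ⟨z, hz, rfl⟩
      refine ⟨z.2, ?_⟩
      have := (hHmem z).mp hz
      rw [Subgroup.subtype_apply]
      exact_mod_cast congrArg Subtype.val this
    · rintro ⟨hgM, hgp⟩
      refine ⟨⟨g, hgM⟩, ?_, rfl⟩
      rw [SetLike.mem_coe, hHmem]
      exact Subtype.ext (by simpa using hgp)
  have hSn : (H.map M.subtype).Normal := by
    refine ⟨fun n hn g => ?_⟩
    rw [hSmem] at hn ⊢
    refine ⟨hMn.conj_mem n hn.1 g, ?_⟩
    rw [conj_pow, hn.2, mul_one, mul_inv_cancel]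
  have hSbot : H.map M.subtype = ⊥ := by
    by_contra hne
    apply hnp
    intro g
    refine ⟨2, ?_⟩
    have h1 := pow_mem_of_min_non_exp_closed hgen hquo (H.map M.subtype) hne g
    rw [hSmem] at h1
    rw [pow_two, pow_mul]
    exact h1.2
  have hM1 : ∀ z ∈ M, z ^ p = 1 → z = 1 := by
    intro z hz hzp
    have : z ∈ H.map M.subtype := (hSmem z).mpr ⟨hz, hzp⟩
    rw [hSbot, Subgroup.mem_bot] at this
    exact this
  have hM2 : ∀ k : ℕ, ∀ z ∈ M, z ^ p ^ k = 1 → z = 1 := by
    intro k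
    induction k with
    | zero => intro z _ hz; simpa using hz
    | succ k ih =>
      intro z hz hzk
      apply ih z hz
      apply hM1 _ (M.pow_mem hz _)
      rw [← pow_mul, ← pow_succ]
      exact hzk
  rintro y ⟨k, hk⟩
  apply hM2 k _ (pow_mem_of_min_non_exp_closed hgen hquo M hMbot y)
  rw [← pow_mul, mul_comm, pow_mul, hk, one_pow]

/-- Structure of the non-simple minimal non-`p`-exponent-closed groups that are not `p`-groups. -/
theorem min_non_exp_closed_structure
    (hnc : ¬ (∃ H : Subgroup G, (H : Set G) = {g : G | g ^ p = 1}))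
    (hsub : ∀ K : Subgroup G, K ≠ ⊤ → (∃ H : Subgroup ↥K, (H : Set ↥K) = {g : ↥K | g ^ p = 1}))
    (hquo : ∀ (N : Subgroup G) [N.Normal], N ≠ ⊥ →
      (∃ H : Subgroup (G ⧸ N), (H : Set (G ⧸ N)) = {g : (G ⧸ N) | g ^ p = 1}))
    (hns : ¬ IsSimpleGroup G) (hnp : ¬ IsPGroup p G) :
    ∃ q : ℕ, q.Prime ∧ q ≠ p ∧ Nat.card G = p * q ^ orderOf ((q : ℕ) : ZMod p) ∧
      ∃ A : Subgroup G, A.Normal ∧ Nat.card ↥A = q ^ orderOf ((q : ℕ) : ZMod p) ∧
        Cfsg.IsElementaryAbelian q A ∧
        ∀ B : Subgroup G, B.Normal → B ≤ A → B = ⊥ ∨ B = A := by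
  have hgen := closure_pow_eq_one_eq_top hnc hsub
  have hE := pow_eq_one_of_min_non_exp_closed hgen hsub hquo hns hnp
  apply min_non_pclosed_structure
  · intro h
    exact hnc (exponent_closed_of_isPClosed hE h)
  · intro K hK
    obtain ⟨H, hH⟩ := hsub K hK
    refine isPClosed_of_exponent_closed ?_ H hH
    rintro y ⟨k, hk⟩
    have := hE (y : G) ⟨k, by exact_mod_cast congrArg Subtype.val hk⟩
    exact Subtype.ext (by simpa using this)
  · intro N hNn hN
    obtain ⟨H, hH⟩ := hquo N hN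
    refine isPClosed_of_exponent_closed ?_ H hH
    intro y _
    obtain ⟨g, rfl⟩ := QuotientGroup.mk'_surjective N y
    rw [← map_pow, QuotientGroup.mk'_apply, QuotientGroup.eq_one_iff]
    exact pow_mem_of_min_non_exp_closed hgen hquo N hN g
  · exact hns

end MinNonExpClosed

end Cfsg.Agent.Helper64
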