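import Mathlib
import Cfsg.Prelude.Def_LieTypeDatum
import Cfsg.Agent.Lib.Helper43.GF.Cent
import Cfsg.Agent.Lib.Helper40.OrthEvenFinal
import Cfsg.Agent.Lib.Helper5.OrthLag12
import Cfsg.Agent.Lib.Helper5.OMFChar2
import Cfsg.Agent.Lib.Helper68.GFSP1
import Cfsg.Agent.S0790

/-!
# GF lemma server (helper43, S2717), batch 3, piece (A): `Theta_mem_inn_of_sq`  (helper64)
-/

set_option autoImplicit false

namespace Cfsg.Agent.Helper64.GF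

open Matrix QuadraticMap Cfsg.Agent.Helper43 Cfsg.Agent.Helper43.GF Cfsg.Agent.Helper5.OrthAut
  Cfsg.Agent.Helper40.OrthEven Cfsg.Agent.Helper40.AutPOm

/-- the twisted image of a scalar matrix is the scalar matrix -/
theorem tw_sclHom {F₀ F : Type*} [Field F₀] [Field F] {ι ι' : Type} [Fintype ι] [DecidableEq ι]
    [Fintype ι'] [DecidableEq ι'] {Q' : QuadraticForm F (ι' → F)} {Q : QuadraticForm F (ι → F)}
    (T : TwData Q' Q) (emb : F₀ →+* F) (c : F₀ˣ) :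
    T.tw emb (sclHom (ι := ι') c) = sclHom (ι := ι) (Units.map emb.toMonoidHom c) := by
  apply Units.ext
  rw [T.tw_coe, sclHom_coe, sclHom_coe]
  have h1 : ((c : F₀) • (1 : Matrix ι' ι' F₀)).map emb = (emb (c : F₀)) • (1 : Matrix ι' ι' F) := by
    ext i j
    by_cases h : i = j
    · subst h; simp
    · simp [Matrix.one_apply_ne h]
  rw [h1, Matrix.mul_smul, Matrix.mul_one, Matrix.smul_mul, T.hHH']
  rfl

theorem Theta_mem_inn_of_sq {F₀ F : Type*} [Field F₀] [Fintype F₀] [Field F] [Fintype F] (emb : F₀ →+* F)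
    (hcard : Fintype.card F = Fintype.card F₀ ^ 2) (h2 : (2 : F) ≠ 0) {k : ℕ} (hk : 1 ≤ k) (a₀ b₀ : F₀)
    (hab : ∀ z₁ z₂ : F₀, z₁ ^ 2 + a₀ * z₁ * z₂ + b₀ * z₂ ^ 2 = 0 → z₁ = 0 ∧ z₂ = 0)
    (T : TwData (stdMinus F k (emb a₀) (emb b₀)) (stdPlus F (k + 1)))
    (hperf : commutator ↥(Cfsg.Omega F ⇑(stdPlus F (k + 1))) = ⊤)
    (hcent : ∀ Z : Matrix (Fin (k + 1) ⊕ Fin (k + 1)) (Fin (k + 1) ⊕ Fin (k + 1)) F,
      (∀ s : ↥(Cfsg.Omega F ⇑(stdPlus F (k + 1))),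
        Z * omat (⇑(stdPlus F (k + 1))) s = omat (⇑(stdPlus F (k + 1))) s * Z) →
      ∃ c : F, Z = c • (1 : Matrix (Fin (k + 1) ⊕ Fin (k + 1)) (Fin (k + 1) ⊕ Fin (k + 1)) F))
    (g : ↥(GO (stdMinus F₀ k a₀ b₀))) (c₀ : F₀ˣ)
    (hmul : ∀ z, stdMinus F₀ k a₀ b₀ (((g : GL ((Fin k ⊕ Fin k) ⊕ Fin 2) F₀) :
      Matrix ((Fin k ⊕ Fin k) ⊕ Fin 2) ((Fin k ⊕ Fin k) ⊕ Fin 2) F₀) *ᵥ z) =
      (c₀ : F₀) ^ 2 * stdMinus F₀ k a₀ b₀ z)
    (hdet : ((g : GL ((Fin k ⊕ Fin k) ⊕ Fin 2) F₀) :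
      Matrix ((Fin k ⊕ Fin k) ⊕ Fin 2) ((Fin k ⊕ Fin k) ⊕ Fin 2) F₀).det = (c₀ : F₀) ^ (2 * (k + 1))) :
    T.Theta emb (Cfsg.Agent.Helper5.OMF.isBC_stdMinus k emb a₀ b₀) g ∈
      Cfsg.Inn (Cfsg.POmega F ⇑(stdPlus F (k + 1))) := by
  classical
  have hB := Cfsg.Agent.Helper5.OMF.isBC_stdMinus k emb a₀ b₀
  rw [TwData.Theta_apply]
  -- the isometry part
  set s₀ : GL ((Fin k ⊕ Fin k) ⊕ Fin 2) F₀ := (sclHom c₀)⁻¹ * g.1 with hs₀def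
  have hinv : (sclHom (ι := (Fin k ⊕ Fin k) ⊕ Fin 2) c₀)⁻¹ = sclHom c₀⁻¹ := (map_inv _ _).symm
  have hs₀ : s₀ ∈ SOG (stdMinus F₀ k a₀ b₀) := by
    rw [mem_SOG_iff]
    constructor
    · show s₀ ∈ Cfsg.isometryGroup F₀ ⇑(stdMinus F₀ k a₀ b₀)
      rw [mem_iso_iff]
      intro u
      rw [hs₀def, hinv, Units.val_mul, ← Matrix.mulVec_mulVec, sclHom_mulVec,
        QuadraticMap.map_smul, hmul u, Units.val_inv_eq_inv_val, smul_eq_mul]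
      have hc : (c₀ : F₀) ≠ 0 := c₀.ne_zero
      field_simp
    · rw [hs₀def, hinv, Units.val_mul, Matrix.det_mul, sclHom_det, hdet, Units.val_inv_eq_inv_val]
      have hc : (c₀ : F₀) ≠ 0 := c₀.ne_zero
      have hcard' : Fintype.card ((Fin k ⊕ Fin k) ⊕ Fin 2) = 2 * (k + 1) := by
        simp; ring
      rw [hcard', inv_pow]
      exact inv_mul_cancel₀ (pow_ne_zero _ hc)
  have hmem : T.tw emb s₀ ∈ OmGL (⇑(stdPlus F (k + 1))) :=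
    Cfsg.Agent.Helper68.GF.tw_SO_mem_Omega emb hcard h2 hk a₀ b₀ hab T s₀ hs₀
  -- decomposition of `g`
  have hg : g.1 = sclHom c₀ * s₀ := by
    rw [hs₀def, ← mul_assoc, mul_inv_cancel, one_mul]
  have hGO : T.tw emb s₀ ∈ GO (stdPlus F (k + 1)) :=
    iso_le_sim _ (OmGL_le_iso _ hmem)
  have hdec : T.twGO emb hB g =
      scGO (stdPlus F (k + 1)) (Units.map emb.toMonoidHom c₀) * ⟨T.tw emb s₀, hGO⟩ := by
    apply Subtype.ext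
    rw [TwData.twGO_val, hg, map_mul, tw_sclHom]
    rfl
  rw [hdec, map_mul, PhiGO_scGO (stdPlus F (k + 1)) hperf hcent, one_mul, inn_eq]
  refine ⟨⟨T.tw emb s₀, OmGL_le_NO _ hmem⟩, ?_, rfl⟩
  exact hmem

end Cfsg.Agent.Helper64.GF
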