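import Cfsg.Agent.Lib.Helper88.GLClassDefs

set_option autoImplicit false

/-!
# (GL-U2) of the GLClass lemma server of helper88 (S2478): a maximal cyclic subspace of an
endomorphism has an invariant complement
-/

namespace Cfsg.Agent.Helper64.GLClass

open Polynomial Cfsg.Agent.Helper88.GLClass

theorem exists_invariant_compl {F : Type*} [Field F] {V : Type*} [AddCommGroup V] [Module F V]
    [FiniteDimensional F V] (T : Module.End F V) (v : V)
    (hv : ∀ g : F[X], aeval T g v = 0 → aeval T g = 0) :
    ∃ W : Submodule F V, (∀ w ∈ W, T w ∈ W) ∧ IsCompl (LinearMap.range (cycMap T v)) W := by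
  classical
  have hint : IsIntegral F T := Algebra.IsIntegral.isIntegral T
  obtain ⟨μ, hμdef⟩ : ∃ μ : F[X], μ = minpoly F T := ⟨_, rfl⟩
  have hμm : μ.Monic := by rw [hμdef]; exact minpoly.monic hint
  have hμ0 : aeval T μ = 0 := by rw [hμdef]; exact minpoly.aeval F T
  obtain ⟨d, hddef⟩ : ∃ d : ℕ, d = μ.natDegree := ⟨_, rfl⟩
  have hμdeg : μ.degree = (d : WithBot ℕ) := by
    rw [hddef]; exact Polynomial.degree_eq_natDegree hμm.ne_zero
  -- the annihilator of `v`
  have hker : ∀ g : F[X], aeval T g v = 0 ↔ μ ∣ g := by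
    intro g
    constructor
    · intro h
      rw [hμdef]
      exact minpoly.dvd F T (hv g h)
    · rintro ⟨q, rfl⟩
      rw [map_mul, hμ0, zero_mul, LinearMap.zero_apply]
  -- reduction modulo `μ`
  have hred : ∀ (g : F[X]) (w : V), aeval T g w = aeval T (g %ₘ μ) w := by
    intro g w
    conv_lhs => rw [← Polynomial.modByMonic_add_div g μ]
    rw [map_add, map_mul, hμ0, zero_mul, add_zero]
  have hmul : ∀ (g h : F[X]) (w : V), aeval T (g * h) w = aeval T g (aeval T h w) := by
    intro g h w
    rw [map_mul, Module.End.mul_apply]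
  -- the functional on polynomials
  obtain ⟨ψ, hψdef⟩ : ∃ ψ : F[X] →ₗ[F] F,
      ψ = (Polynomial.lcoeff F (d - 1)).comp (Polynomial.modByMonicHom μ) := ⟨_, rfl⟩
  have hψ : ∀ g : F[X], ψ g = (g %ₘ μ).coeff (d - 1) := by
    intro g; rw [hψdef]; rfl
  have hψker : LinearMap.ker (cycMap T v) ≤ LinearMap.ker ψ := by
    intro g hg
    rw [LinearMap.mem_ker, cycMap_apply, hker] at hg
    rw [LinearMap.mem_ker, hψ, (Polynomial.modByMonic_eq_zero_iff_dvd hμm).2 hg, coeff_zero]
  -- the functional on the cyclic subspace, extended to `V`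
  obtain ⟨φ, hφ⟩ := LinearMap.exists_extend
    (((LinearMap.ker (cycMap T v)).liftQ ψ hψker).comp
      ((cycMap T v).quotKerEquivRange.symm : LinearMap.range (cycMap T v) →ₗ[F] _))
  have hφv : ∀ g : F[X], φ (aeval T g v) = ψ g := by
    intro g
    have h1 := LinearMap.congr_fun hφ ⟨cycMap T v g, LinearMap.mem_range_self _ g⟩
    rw [LinearMap.comp_apply, LinearMap.comp_apply] at h1
    simp only [Submodule.subtype_apply, LinearEquiv.coe_coe] at h1
    rw [LinearMap.quotKerEquivRange_symm_apply_image, Submodule.mkQ_apply,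
      Submodule.liftQ_apply] at h1
    exact h1
  -- the complement
  obtain ⟨W, hWdef⟩ : ∃ W : Submodule F V,
      W = ⨅ g : F[X], LinearMap.ker (φ.comp (aeval T g)) := ⟨_, rfl⟩
  have hW : ∀ w : V, w ∈ W ↔ ∀ g : F[X], φ (aeval T g w) = 0 := by
    intro w
    rw [hWdef, Submodule.mem_iInf]
    exact Iff.rfl
  refine ⟨W, ?_, ?_⟩
  · intro w hw
    rw [hW] at hw ⊢
    intro g
    have := hw (g * X)
    rwa [hmul, aeval_X] at this
  -- disjointness
  have hdisj : LinearMap.range (cycMap T v) ⊓ W = ⊥ := by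
    rw [eq_bot_iff]
    rintro z ⟨⟨g, rfl⟩, hzW⟩
    rw [SetLike.mem_coe, hW] at hzW
    rw [Submodule.mem_bot, cycMap_apply, hred g v]
    by_cases hr0 : g %ₘ μ = 0
    · rw [hr0, map_zero, LinearMap.zero_apply]
    · exfalso
      obtain ⟨r, hrdef⟩ : ∃ r : F[X], r = g %ₘ μ := ⟨_, rfl⟩
      rw [← hrdef] at hr0
      have hrdeg : r.degree < μ.degree := by
        rw [hrdef]; exact Polynomial.degree_modByMonic_lt g hμm
      have hm : r.natDegree < d := by
        rw [hddef]; exact Polynomial.natDegree_lt_natDegree hr0 hrdeg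
      have h1 := hzW (X ^ (d - 1 - r.natDegree))
      rw [cycMap_apply, hred g v, ← hrdef, ← hmul, hφv, hψ] at h1
      have hdeg : (X ^ (d - 1 - r.natDegree) * r).degree < μ.degree := by
        rw [Polynomial.degree_mul, Polynomial.degree_X_pow, hμdeg,
          Polynomial.degree_eq_natDegree hr0, ← Nat.cast_add, Nat.cast_lt]
        omega
      rw [(Polynomial.modByMonic_eq_self_iff hμm).2 hdeg] at h1
      have e : d - 1 = r.natDegree + (d - 1 - r.natDegree) := by omega
      have h2 := Polynomial.coeff_X_pow_mul r (d - 1 - r.natDegree) r.natDegree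
      rw [← e] at h2
      rw [h2] at h1
      exact hr0 (Polynomial.leadingCoeff_eq_zero.mp h1)
  -- dimensions
  obtain ⟨Φ, hΦ⟩ : ∃ Φ : V →ₗ[F] (Fin d → F),
      ∀ (w : V) (k : Fin d), Φ w k = φ (aeval T (X ^ (k : ℕ)) w) :=
    ⟨LinearMap.pi (fun k : Fin d => φ.comp (aeval T ((X : F[X]) ^ (k : ℕ)) : V →ₗ[F] V)),
      fun w k => rfl⟩
  have hkerW : LinearMap.ker Φ ≤ W := by
    intro w hw
    rw [LinearMap.mem_ker] at hw
    rw [hW]
    intro g
    rw [hred g w]
    obtain ⟨r, hrdef⟩ : ∃ r : F[X], r = g %ₘ μ := ⟨_, rfl⟩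
    rw [← hrdef]
    by_cases hr0 : r = 0
    · rw [hr0, map_zero, LinearMap.zero_apply, map_zero]
    have hm : r.natDegree < d := by
      rw [hddef]
      apply Polynomial.natDegree_lt_natDegree hr0
      rw [hrdef]; exact Polynomial.degree_modByMonic_lt g hμm
    rw [Polynomial.as_sum_range' r d hm, map_sum, LinearMap.sum_apply, map_sum]
    apply Finset.sum_eq_zero
    intro k hk
    rw [Finset.mem_range] at hk
    have h2 := congrFun hw ⟨k, hk⟩
    rw [hΦ, Pi.zero_apply] at h2
    rw [← Polynomial.C_mul_X_pow_eq_monomial, hmul, aeval_C, Module.algebraMap_end_apply,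
      map_smul, h2, smul_zero]
  have hdimW : Module.finrank F V ≤ Module.finrank F W + d := by
    have h1 := LinearMap.finrank_range_add_finrank_ker Φ
    have h2 : Module.finrank F (LinearMap.range Φ) ≤ d := by
      have := Submodule.finrank_le (LinearMap.range Φ)
      rwa [Module.finrank_fin_fun] at this
    have h3 : Module.finrank F (LinearMap.ker Φ) ≤ Module.finrank F W :=
      Submodule.finrank_mono hkerW
    omega
  have hdimZ : d ≤ Module.finrank F (LinearMap.range (cycMap T v)) := by
    obtain ⟨ι, hιdef⟩ : ∃ ι : Polynomial.degreeLT F d →ₗ[F] LinearMap.range (cycMap T v),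
        ι = (cycMap T v).rangeRestrict.comp (Polynomial.degreeLT F d).subtype := ⟨_, rfl⟩
    have hinj : Function.Injective ι := by
      rw [← LinearMap.ker_eq_bot, eq_bot_iff]
      intro g hg
      rw [LinearMap.mem_ker] at hg
      have h1 : aeval T (g : F[X]) v = 0 := by
        have := congrArg Subtype.val hg
        rw [hιdef] at this
        exact this
      rw [hker] at h1
      rw [Submodule.mem_bot]
      apply Subtype.ext
      by_contra hg0
      have hg0' : (g : F[X]) ≠ 0 := hg0
      have h2 := Polynomial.natDegree_le_of_dvd h1 hg0'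
      have h3 : (g : F[X]).degree < d := Polynomial.mem_degreeLT.1 g.2
      rw [Polynomial.degree_eq_natDegree hg0', Nat.cast_lt] at h3
      omega
    have h1 := LinearMap.finrank_le_finrank_of_injective hinj
    rwa [(Polynomial.degreeLTEquiv F d).finrank_eq, Module.finrank_fin_fun] at h1
  have hsup : LinearMap.range (cycMap T v) ⊔ W = ⊤ := by
    apply Submodule.eq_top_of_finrank_eq
    have h1 := Submodule.finrank_sup_add_finrank_inf_eq (LinearMap.range (cycMap T v)) W
    rw [hdisj, finrank_bot, add_zero] at h1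
    have h2 := Submodule.finrank_le (LinearMap.range (cycMap T v) ⊔ W)
    omega
  exact IsCompl.of_eq hdisj hsup

end Cfsg.Agent.Helper64.GLClass
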