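import Mathlib
import Cfsg.Prelude.Def_OddOrderLocal
import Cfsg.Agent.Lib.Helper53.MC3Defs
import Cfsg.Agent.Lib.Helper64.Metacyclic8

set_option autoImplicit false

/-!
# MC3 piece (A3) for helper53 (S4079): regularity of odd metacyclic `p`-groups.
-/

namespace Cfsg.Agent.Helper64.MC3

open Cfsg.Agent.Helper53.MC3
open Subgroup

universe u

/-- Conjugating `X` by `Y ^ n` when `[Y, X] = C` is central. -/
theorem pow_mul_class2 {Q : Type*} [Group Q] (X Y C : Q) (hC : Y * X = C * X * Y)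
    (hY : Commute C Y) (n : ℕ) : Y ^ n * X = C ^ n * X * Y ^ n := by
  induction n with
  | zero => simp
  | succ n ih =>
    have hYn : Y ^ n * C = C * Y ^ n := ((hY.pow_right n).eq).symm
    calc Y ^ (n + 1) * X = Y ^ n * (Y * X) := by rw [pow_succ, mul_assoc]
      _ = Y ^ n * (C * X * Y) := by rw [hC]
      _ = (Y ^ n * C) * X * Y := by simp only [mul_assoc]
      _ = C * (Y ^ n * X) * Y := by rw [hYn]; simp only [mul_assoc]
      _ = C * (C ^ n * X * Y ^ n) * Y := by rw [ih]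
      _ = C ^ (n + 1) * X * Y ^ (n + 1) := by
        rw [pow_succ' C n, pow_succ Y n]; simp only [mul_assoc]

/-- The class-two power formula `(X Y)^n = X^n Y^n C^(n choose 2)` for `C = [Y, X]` central. -/
theorem mul_pow_class2 {Q : Type*} [Group Q] (X Y C : Q) (hC : Y * X = C * X * Y)
    (hX : Commute C X) (hY : Commute C Y) (n : ℕ) :
    (X * Y) ^ n = X ^ n * Y ^ n * C ^ (n.choose 2) := by
  induction n with
  | zero => simp
  | succ n ih =>
    have h1 := pow_mul_class2 X Y C hC hY n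
    have hCn : ∀ m : ℕ, C ^ m * X = X * C ^ m := fun m => (hX.pow_left m).eq
    have hCY : ∀ m k : ℕ, C ^ m * Y ^ k = Y ^ k * C ^ m := fun m k =>
      ((hY.pow_left m).pow_right k).eq
    have hch : (n + 1).choose 2 = n + n.choose 2 := by
      rw [Nat.choose_succ_succ, Nat.choose_one_right]
    have hCY1 : ∀ m : ℕ, C ^ m * Y = Y * C ^ m := fun m => (hY.pow_left m).eq
    calc (X * Y) ^ (n + 1) = (X * Y) ^ n * (X * Y) := pow_succ _ _
      _ = X ^ n * Y ^ n * C ^ (n.choose 2) * (X * Y) := by rw [ih]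
      _ = X ^ n * Y ^ n * (C ^ (n.choose 2) * X) * Y := by simp only [mul_assoc]
      _ = X ^ n * (Y ^ n * X) * C ^ (n.choose 2) * Y := by
        rw [hCn]; simp only [mul_assoc]
      _ = X ^ n * (C ^ n * X * Y ^ n) * C ^ (n.choose 2) * Y := by rw [h1]
      _ = X ^ n * (X * C ^ n) * Y ^ n * C ^ (n.choose 2) * Y := by
        rw [hCn]; simp only [mul_assoc]
      _ = X ^ n * X * (C ^ n * Y ^ n) * (C ^ (n.choose 2) * Y) := by
        simp only [mul_assoc]
      _ = X ^ n * X * (Y ^ n * C ^ n) * (Y * C ^ (n.choose 2)) := by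
        rw [hCY, hCY1]
      _ = X ^ n * X * Y ^ n * (C ^ n * Y) * C ^ (n.choose 2) := by
        simp only [mul_assoc]
      _ = X ^ n * X * Y ^ n * (Y * C ^ n) * C ^ (n.choose 2) := by rw [hCY1]
      _ = X ^ (n + 1) * Y ^ (n + 1) * C ^ ((n + 1).choose 2) := by
        rw [hch, pow_add C, pow_succ X, pow_succ Y]; simp only [mul_assoc]

section A
variable {L : Type u} [Group L] [Finite L] {p : ℕ} [Fact p.Prime]

/-- (A3) regularity: `(x y)^p = x^p y^p e` with `e` a power of `c^p`, `c = y x y⁻¹ x⁻¹`. -/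
theorem reg (hp : p ≠ 2) (hL : IsPGroup p L) (hmc : Cfsg.IsMetacyclic L) (x y : L) :
    ∃ k : ℕ, (x * y) ^ p = x ^ p * y ^ p * ((y * x * y⁻¹ * x⁻¹) ^ p) ^ k := by
  have hpp : p.Prime := Fact.out
  obtain ⟨D⟩ := Cfsg.Agent.Helper64.exists_mcData hmc
  have hca : y * x * y⁻¹ * x⁻¹ ∈ zpowers D.a := D.zpowers_comm_le (D.comm_mem y x)
  generalize hc : y * x * y⁻¹ * x⁻¹ = c at hca ⊢
  have hcpa : c ^ p ∈ zpowers D.a := Subgroup.pow_mem _ hca p
  have hN : (zpowers (c ^ p)).Normal :=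
    D.normal_of_le_zpowers_a _ (by rw [zpowers_le]; exact hcpa)
  have hCp : ((QuotientGroup.mk' (zpowers (c ^ p))) c) ^ p = 1 := by
    rw [← map_pow]
    exact (QuotientGroup.eq_one_iff _).mpr (mem_zpowers _)
  have hcomm : ∀ g : L, Commute ((QuotientGroup.mk' (zpowers (c ^ p))) c)
      ((QuotientGroup.mk' (zpowers (c ^ p))) g) := by
    intro g
    obtain ⟨T, hT, hconjT⟩ := D.exists_conj_pow hL g
    have h1 := hconjT c hca
    by_cases ha1 : orderOf D.a = 1
    · have hD1 : D.a = 1 := orderOf_eq_one_iff.mp ha1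
      rw [hD1, zpowers_one_eq_bot, mem_bot] at hca
      have hc1 : (QuotientGroup.mk' (zpowers (c ^ p))) c = 1 := by
        rw [QuotientGroup.mk'_apply, QuotientGroup.eq_one_iff, hca]
        exact one_mem _
      rw [hc1]
      exact Commute.one_left _
    · have hT1 := hT ha1
      have h2 : (QuotientGroup.mk' (zpowers (c ^ p))) g * (QuotientGroup.mk' (zpowers (c ^ p))) c *
          ((QuotientGroup.mk' (zpowers (c ^ p))) g)⁻¹ = (QuotientGroup.mk' (zpowers (c ^ p))) c := by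
        rw [← map_mul, ← map_inv, ← map_mul, h1, map_pow]
        conv_lhs =>
          rw [← Nat.div_add_mod T p, hT1, pow_add, pow_mul, hCp, one_pow, one_mul, pow_one]
      have h3 := mul_inv_eq_iff_eq_mul.mp h2
      exact h3.symm
  have hrel : (QuotientGroup.mk' (zpowers (c ^ p))) y * (QuotientGroup.mk' (zpowers (c ^ p))) x =
      (QuotientGroup.mk' (zpowers (c ^ p))) c * (QuotientGroup.mk' (zpowers (c ^ p))) x *
        (QuotientGroup.mk' (zpowers (c ^ p))) y := by
    rw [← map_mul, ← map_mul, ← map_mul]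
    congr 1
    rw [← hc]; group
  have key := mul_pow_class2 _ _ _ hrel (hcomm x) (hcomm y) p
  have h3p : 2 < p := by
    have := hpp.two_le
    omega
  obtain ⟨m, hm⟩ := hpp.dvd_choose_self (k := 2) (by norm_num) h3p
  rw [hm, pow_mul, hCp, one_pow, mul_one, ← map_mul, ← map_pow, ← map_pow, ← map_pow,
    ← map_mul] at key
  have hmem : (x ^ p * y ^ p)⁻¹ * (x * y) ^ p ∈ zpowers (c ^ p) :=
    QuotientGroup.eq.mp key.symm
  rw [← mem_powers_iff_mem_zpowers] at hmem
  obtain ⟨k, hk⟩ := hmem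
  refine ⟨k, ?_⟩
  have hk' : (c ^ p) ^ k = (x ^ p * y ^ p)⁻¹ * (x * y) ^ p := hk
  rw [hk', mul_inv_cancel_left]

end A

end Cfsg.Agent.Helper64.MC3
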