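import Mathlib
import Cfsg.Prelude.Def_OddOrderLocal
import Cfsg.Agent.Lib.Helper53.MC3Defs
import Cfsg.Agent.Lib.Helper64.Metacyclic8
import Cfsg.Agent.Lib.Helper64.MC3A3

set_option autoImplicit false

/-!
# MC3 piece (A5) for helper53 (S4079): `Ω₂` of an odd metacyclic `p`-group is closed under products.
-/

namespace Cfsg.Agent.Helper64.MC3

open Cfsg.Agent.Helper53.MC3
open Subgroup

universe u

section A
variable {L : Type u} [Group L] [Finite L] {p : ℕ} [Fact p.Prime]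

/-- the commutator `y x y⁻¹ x⁻¹` has order dividing `p ^ 2` when `x ^ p ^ 2 = 1`. -/
theorem comm_pow_sq_eq_one (hp : p ≠ 2) (hL : IsPGroup p L) (hmc : Cfsg.IsMetacyclic L)
    (x y : L) (hx : x ^ p ^ 2 = 1) : (y * x * y⁻¹ * x⁻¹) ^ p ^ 2 = 1 := by
  have hpp : p.Prime := Fact.out
  obtain ⟨D⟩ := Cfsg.Agent.Helper64.exists_mcData hmc
  have hza : y * x * y⁻¹ * x⁻¹ ∈ zpowers D.a := D.zpowers_comm_le (D.comm_mem y x)
  obtain ⟨T, hT, hconjT⟩ := D.exists_conj_pow hL x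
  have hconj := hconjT _ hza
  have h1 : y * x ^ p ^ 2 * y⁻¹ = ((y * x * y⁻¹ * x⁻¹) * x) ^ p ^ 2 := by
    rw [← conj_pow]; congr 1; group
  rw [hx, mul_one, mul_inv_cancel, Cfsg.Agent.Helper64.mul_pow_of_conj x _ _ hconj, hx,
    mul_one] at h1
  by_cases ha1 : orderOf D.a = 1
  · have hD1 : D.a = 1 := orderOf_eq_one_iff.mp ha1
    rw [hD1, zpowers_one_eq_bot, mem_bot] at hza
    rw [hza, one_pow]
  · have hT1 := hT ha1
    obtain ⟨w, hw⟩ := (Cfsg.Agent.Helper64.pow_dvd_geom_sum_iff hpp hp T hT1 (p ^ 2) 2).mpr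
      (dvd_refl _)
    have hw' : ¬ p ∣ w := by
      intro hpw
      have h3 : p ^ 3 ∣ ∑ i ∈ Finset.range (p ^ 2), T ^ i := by
        rw [hw, pow_succ p 2]
        exact mul_dvd_mul_left _ hpw
      have h4 := (Cfsg.Agent.Helper64.pow_dvd_geom_sum_iff hpp hp T hT1 (p ^ 2) 3).mp h3
      have h5 : 3 ≤ 2 := (Nat.pow_dvd_pow_iff_le_right hpp.one_lt).mp h4
      omega
    obtain ⟨e, he⟩ := (IsPGroup.iff_orderOf.mp hL) (y * x * y⁻¹ * x⁻¹)
    have h4 : orderOf (y * x * y⁻¹ * x⁻¹) ∣ p ^ 2 * w := by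
      rw [← hw]; exact orderOf_dvd_of_pow_eq_one h1.symm
    have hcop : Nat.Coprime (orderOf (y * x * y⁻¹ * x⁻¹)) w := by
      rw [he]
      exact Nat.Coprime.pow_left e ((Nat.Prime.coprime_iff_not_dvd hpp).mpr hw')
    have h5 : orderOf (y * x * y⁻¹ * x⁻¹) ∣ p ^ 2 := hcop.dvd_of_dvd_mul_right h4
    exact orderOf_dvd_iff_pow_eq_one.mp h5

/-- (A5) `Ω₂ = {x | x ^ p ^ 2 = 1}` is closed under multiplication. -/
theorem mul2 (hp : p ≠ 2) (hL : IsPGroup p L) (hmc : Cfsg.IsMetacyclic L)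
    (h1 : ∀ x y : L, x ^ p = 1 → y ^ p = 1 → (x * y) ^ p = 1)
    (x y : L) (hx : x ^ p ^ 2 = 1) (hy : y ^ p ^ 2 = 1) : (x * y) ^ p ^ 2 = 1 := by
  have hc := comm_pow_sq_eq_one hp hL hmc x y hx
  obtain ⟨k, hk⟩ := reg hp hL hmc x y
  have hxp : (x ^ p) ^ p = 1 := by rw [← pow_mul, ← sq]; exact hx
  have hyp : (y ^ p) ^ p = 1 := by rw [← pow_mul, ← sq]; exact hy
  have hep : (((y * x * y⁻¹ * x⁻¹) ^ p) ^ k) ^ p = 1 := by
    rw [← pow_mul, ← pow_mul, mul_comm k p, ← mul_assoc, ← sq, pow_mul, hc, one_pow]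
  have h2 := h1 _ _ (h1 _ _ hxp hyp) hep
  rw [← hk, ← pow_mul, ← sq] at h2
  exact h2

end A

end Cfsg.Agent.Helper64.MC3
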