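import Mathlib
import Cfsg.Agent.Lib.Helper64.Metacyclic4
import Cfsg.Agent.Lib.Helper2.PGroup
import Cfsg.Agent.Lib.Helper47.Frat

set_option autoImplicit false

namespace Cfsg.Agent.Helper64

open Subgroup

theorem normal_closure_of_conj_invariant {G : Type*} [Group G] (S : Set G)
    (hS : ∀ x ∈ S, ∀ g : G, g * x * g⁻¹ ∈ S) : (closure S).Normal := by
  refine ⟨fun x hx g => ?_⟩
  induction hx using Subgroup.closure_induction with
  | mem x hx => exact subset_closure (hS x hx g)
  | one => simp
  | mul x y _ _ ihx ihy =>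
    rw [show g * (x * y) * g⁻¹ = (g * x * g⁻¹) * (g * y * g⁻¹) by group]
    exact Subgroup.mul_mem _ ihx ihy
  | inv x _ ih =>
    rw [show g * x⁻¹ * g⁻¹ = (g * x * g⁻¹)⁻¹ by group]
    exact Subgroup.inv_mem _ ih

namespace MCData

variable {G : Type*} [Group G] [Finite G] (D : MCData G)

include D in
/-- In a finite metacyclic `p`-group the Frattini subgroup is generated by the `p`-th powers. -/
theorem frattini_eq_agemo {p : ℕ} [hp : Fact p.Prime] (hG : IsPGroup p G) :
    frattini G = Subgroup.closure {x : G | ∃ y : G, y ^ p = x} := by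
  apply le_antisymm
  · haveI hN : (Subgroup.closure {x : G | ∃ y : G, y ^ p = x}).Normal := by
      apply normal_closure_of_conj_invariant
      rintro x ⟨y, rfl⟩ g
      exact ⟨g * y * g⁻¹, by rw [conj_pow]⟩
    have hcomm : commutator G ≤ Subgroup.closure {x : G | ∃ y : G, y ^ p = x} := by
      rw [D.commutator_eq, zpowers_le]
      by_cases ha1 : orderOf D.a = 1
      · have : D.a = 1 := orderOf_eq_one_iff.mp ha1
        rw [this, one_pow]; exact one_mem _
      · have h1 := D.t_mod_p hG ha1
        have h2 : p ∣ D.t - 1 := by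
          have := hp.out.one_lt
          have h3 : D.t % p = 1 % p := by rw [h1, Nat.mod_eq_of_lt this]
          exact (Nat.modEq_iff_dvd' D.ht).mp h3.symm
        obtain ⟨w, hw⟩ := h2
        apply Subgroup.subset_closure
        exact ⟨D.a ^ w, by rw [← pow_mul, mul_comm, ← hw]⟩
    have h := Cfsg.Agent.Helper47.frattini_le_ker_of_elementary (p := p)
      (QuotientGroup.mk' (Subgroup.closure {x : G | ∃ y : G, y ^ p = x})) (by
        intro x y
        have : IsMulCommutative (G ⧸ Subgroup.closure {x : G | ∃ y : G, y ^ p = x}) :=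
          (Subgroup.Normal.quotient_commutative_iff_commutator_le).mpr hcomm
        exact this.is_comm.comm _ _) (by
        intro x
        rw [← map_pow, QuotientGroup.mk'_apply, QuotientGroup.eq_one_iff]
        exact Subgroup.subset_closure ⟨x, rfl⟩)
    rwa [QuotientGroup.ker_mk'] at h
  · rw [Subgroup.closure_le]
    rintro x ⟨y, rfl⟩
    exact Cfsg.Agent.Helper2.pow_mem_frattini hG y

end MCData

end Cfsg.Agent.Helper64
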