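import Mathlib

set_option autoImplicit false

/-!
# Nilpotent minimal covers: abstract tools (helper64)

* `MinCover`: a cover by proper subgroups of least possible cardinality.
* `MinCover.exists_not_mem_image`: the replacement lemma.
* `MinCover.eq_of_le_proper`: two members inside a common proper subgroup coincide.
* `le_of_ufp`: a nilpotent subgroup containing an element with a "unique fixed point" on the
  cosets of `M` lies in `M`.
* `exists_iter_comm_eq_one`: iterated commutators in a nilpotent subgroup die.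
* `exists_central_ne_one`: a non-trivial nilpotent subgroup has a non-trivial central element.
-/

namespace Cfsg.Agent.Helper64.NC

variable {Γ : Type*} [Group Γ]

/-- A cover of `Γ` by proper subgroups of least possible cardinality. -/
structure MinCover (𝓐 : Finset (Subgroup Γ)) : Prop where
  prop : ∀ A ∈ 𝓐, A ≠ ⊤
  cov : ∀ g : Γ, ∃ A ∈ 𝓐, g ∈ A
  min : ∀ 𝓑 : Finset (Subgroup Γ),
    (∀ A ∈ 𝓑, A ≠ ⊤) ∧ (∀ g : Γ, ∃ A ∈ 𝓑, g ∈ A) → 𝓐.card ≤ 𝓑.card

/-- Replacement lemma: enlarging the members of a minimal cover to proper subgroups, every member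
still has an element lying in none of the enlargements of the other members. -/
theorem MinCover.exists_not_mem_image {𝓐 : Finset (Subgroup Γ)} (h : MinCover 𝓐)
    (φ : Subgroup Γ → Subgroup Γ) (hφ : ∀ A ∈ 𝓐, A ≤ φ A ∧ φ A ≠ ⊤) {A : Subgroup Γ}
    (hA : A ∈ 𝓐) : ∃ g ∈ A, ∀ A' ∈ 𝓐, A' ≠ A → g ∉ φ A' := by
  classical
  by_contra hcon
  push Not at hcon
  have hle := h.min ((𝓐.erase A).image φ) ⟨?_, ?_⟩
  · have h1 := Finset.card_image_le (s := 𝓐.erase A) (f := φ)
    have h2 := Finset.card_erase_of_mem hA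
    have h3 : 0 < 𝓐.card := Finset.card_pos.mpr ⟨A, hA⟩
    omega
  · intro C hC
    obtain ⟨A', hA', rfl⟩ := Finset.mem_image.mp hC
    exact (hφ A' (Finset.mem_of_mem_erase hA')).2
  · intro g
    obtain ⟨C, hC, hg⟩ := h.cov g
    by_cases hCA : C = A
    · subst hCA
      obtain ⟨A', hA', hne, hgA'⟩ := hcon g hg
      exact ⟨φ A', Finset.mem_image.mpr ⟨A', Finset.mem_erase.mpr ⟨hne, hA'⟩, rfl⟩, hgA'⟩
    · exact ⟨φ C, Finset.mem_image.mpr ⟨C, Finset.mem_erase.mpr ⟨hCA, hC⟩, rfl⟩,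
        (hφ C hC).1 hg⟩

/-- In a minimal cover, two members contained in a common proper subgroup coincide. -/
theorem MinCover.eq_of_le_proper {𝓐 : Finset (Subgroup Γ)} (h : MinCover 𝓐)
    {A B : Subgroup Γ} (hA : A ∈ 𝓐) (hB : B ∈ 𝓐) {M : Subgroup Γ} (hM : M ≠ ⊤)
    (hAM : A ≤ M) (hBM : B ≤ M) : A = B := by
  classical
  by_contra hne
  obtain ⟨g, hgA, hg⟩ := h.exists_not_mem_image (fun C => if C ≤ M then M else C)
    (fun C hC => by
      by_cases hCM : C ≤ M
      · rw [if_pos hCM]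
        exact ⟨hCM, hM⟩
      · rw [if_neg hCM]
        exact ⟨le_rfl, h.prop C hC⟩) hA
  have := hg B hB (Ne.symm hne)
  rw [if_pos hBM] at this
  exact this (hAM hgA)

/-- If `x ∈ M` fixes only the coset `M` in its action on the cosets of `M`, every nilpotent
subgroup containing `x` lies in `M`. -/
theorem le_of_ufp (M : Subgroup Γ) {x : Γ} (hxM : x ∈ M)
    (huniq : ∀ g : Γ, g⁻¹ * x * g ∈ M → g ∈ M) (A : Subgroup Γ) [hA : Group.IsNilpotent A]
    (hxA : x ∈ A) : A ≤ M := by
  obtain ⟨n, hn⟩ := hA.nilpotent'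
  have key : ∀ i : ℕ, ∀ z : A, z ∈ Subgroup.upperCentralSeries A i → (z : Γ) ∈ M := by
    intro i
    induction i with
    | zero =>
      intro z hz
      rw [Subgroup.upperCentralSeries_zero, Subgroup.mem_bot] at hz
      subst hz
      exact M.one_mem
    | succ i ih =>
      intro z hz
      rw [Subgroup.mem_upperCentralSeries_succ_iff] at hz
      have h1 := ih _ (hz ⟨x, hxA⟩)
      simp only [commutatorElement_def, Subgroup.coe_mul, Subgroup.coe_inv] at h1
      have h2 : (z : Γ) * x * (z : Γ)⁻¹ ∈ M := by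
        have := M.mul_mem h1 hxM
        simpa [mul_assoc] using this
      have h3 := huniq ((z : Γ)⁻¹) (by simpa using h2)
      simpa using M.inv_mem h3
  intro g hg
  exact key n ⟨g, hg⟩ (by rw [hn]; trivial)

/-- Conjugating the unique fixed point property. -/
theorem ufp_conj (M : Subgroup Γ) {x : Γ} (hxM : x ∈ M)
    (huniq : ∀ g : Γ, g⁻¹ * x * g ∈ M → g ∈ M) (k : Γ) (A : Subgroup Γ)
    [hA : Group.IsNilpotent A] (hxA : k * x * k⁻¹ ∈ A) : ∀ a ∈ A, k⁻¹ * a * k ∈ M := by
  have hmem : k * x * k⁻¹ ∈ M.map (MulAut.conj k).toMonoidHom :=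
    ⟨x, hxM, by simp⟩
  have hu : ∀ g : Γ, g⁻¹ * (k * x * k⁻¹) * g ∈ M.map (MulAut.conj k).toMonoidHom →
      g ∈ M.map (MulAut.conj k).toMonoidHom := by
    intro g hg
    obtain ⟨m, hm, hmg⟩ := hg
    have h1 : (k⁻¹ * g * k)⁻¹ * x * (k⁻¹ * g * k) ∈ M := by
      have : (k⁻¹ * g * k)⁻¹ * x * (k⁻¹ * g * k) = k⁻¹ * (g⁻¹ * (k * x * k⁻¹) * g) * k := by
        group
      rw [this, ← hmg]
      have h3 : k⁻¹ * (MulAut.conj k).toMonoidHom m * k = m := by
        simp only [MulEquiv.coe_toMonoidHom, MulAut.conj_apply]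
        group
      rw [h3]
      exact hm
    have h2 := huniq _ h1
    exact ⟨k⁻¹ * g * k, h2, by simp [mul_assoc]⟩
  have hle := le_of_ufp _ hmem hu A hxA
  intro a ha
  obtain ⟨m, hm, hma⟩ := hle ha
  rw [← hma]
  have : k⁻¹ * (MulAut.conj k).toMonoidHom m * k = m := by
    simp only [MulEquiv.coe_toMonoidHom, MulAut.conj_apply]
    group
  rw [this]
  exact hm

/-- Iterated commutators with a fixed element of a nilpotent subgroup eventually vanish. -/
theorem exists_iter_comm_eq_one (A : Subgroup Γ) [hA : Group.IsNilpotent A] {a : Γ} (ha : a ∈ A)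
    (v : ℕ → Γ) (h0 : v 0 ∈ A) (hs : ∀ k, v (k + 1) = v k * a * (v k)⁻¹ * a⁻¹) :
    ∃ k, v k = 1 := by
  obtain ⟨n, hn⟩ := Subgroup.nilpotent_iff_lowerCentralSeries.mp hA
  have key : ∀ k : ℕ, ∃ hk : v k ∈ A,
      (⟨v k, hk⟩ : A) ∈ (⊤ : Subgroup A).lowerCentralSeries k := by
    intro k
    induction k with
    | zero => exact ⟨h0, by simp⟩
    | succ k ih =>
      obtain ⟨hk, hmem⟩ := ih
      have hk' : v (k + 1) ∈ A := by
        rw [hs k]
        exact A.mul_mem (A.mul_mem (A.mul_mem hk ha) (A.inv_mem hk)) (A.inv_mem ha)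
      refine ⟨hk', ?_⟩
      rw [Subgroup.mem_lowerCentralSeries_succ_iff]
      refine Subgroup.subset_closure ⟨⟨v k, hk⟩, hmem, ⟨a, ha⟩, Subgroup.mem_top _, ?_⟩
      apply Subtype.ext
      simp [hs k, commutatorElement_def]
  obtain ⟨hk, hmem⟩ := key n
  rw [hn, Subgroup.mem_bot] at hmem
  exact ⟨n, congrArg Subtype.val hmem⟩

/-- A nilpotent subgroup with a non-identity element has a non-identity central element. -/
theorem exists_central_ne_one (A : Subgroup Γ) [hA : Group.IsNilpotent A] {t : Γ} (ht : t ∈ A)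
    (ht1 : t ≠ 1) : ∃ c ∈ A, c ≠ 1 ∧ ∀ a ∈ A, a * c = c * a := by
  have : Nontrivial A := ⟨⟨⟨t, ht⟩, 1, fun h => ht1 (congrArg Subtype.val h)⟩⟩
  have hne := Group.IsNilpotent.center_ne_bot (G := A)
  obtain ⟨c, hc1⟩ := (Subgroup.ne_bot_iff_exists_ne_one).mp hne
  refine ⟨((c : A) : Γ), (c : A).2, ?_, ?_⟩
  · intro h
    apply hc1
    apply Subtype.ext
    apply Subtype.ext
    simpa using h
  · intro a ha
    have := (Subgroup.mem_center_iff.mp c.2) ⟨a, ha⟩
    exact congrArg Subtype.val this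

end Cfsg.Agent.Helper64.NC
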