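import Mathlib
import Cfsg.Agent.Lib.Helper64.NilpCoverA

set_option autoImplicit false

/-!
# Nilpotent minimal covers of groups between `PSL_n` and `PGL_n`: set-up and `n ≥ 3` (helper64)
-/

namespace Cfsg.Agent.Helper64.NC

open Matrix

section Setup

variable {F : Type*} [Field F] {n : ℕ}

/-- The projection `GL_n(F) → PGL_n(F)`. -/
noncomputable abbrev pr (F : Type*) [Field F] (n : ℕ) :
    GL (Fin n) F →* GL (Fin n) F ⧸ Subgroup.center (GL (Fin n) F) :=
  QuotientGroup.mk' (Subgroup.center (GL (Fin n) F))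

theorem pr_eq_iff (a b : GL (Fin n) F) :
    pr F n a = pr F n b ↔ ∃ μ : Fˣ, b.val = (μ : F) • a.val := by
  rw [QuotientGroup.mk'_apply, QuotientGroup.mk'_apply, QuotientGroup.eq,
    GeneralLinearGroup.center_eq_range_scalar, MonoidHom.mem_range]
  constructor
  · rintro ⟨μ, hμ⟩
    refine ⟨μ, ?_⟩
    have hb : b = a * GeneralLinearGroup.scalar (Fin n) μ := by rw [hμ]; group
    rw [hb, Units.val_mul, GeneralLinearGroup.coe_scalar]
    ext i j
    simp [Matrix.mul_apply, Matrix.diagonal_apply, mul_comm]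
  · rintro ⟨μ, hμ⟩
    refine ⟨μ, ?_⟩
    have hb : b = a * GeneralLinearGroup.scalar (Fin n) μ := by
      apply Units.ext
      rw [Units.val_mul, GeneralLinearGroup.coe_scalar, hμ]
      ext i j
      simp [Matrix.mul_apply, Matrix.diagonal_apply, mul_comm]
    rw [hb]; group

theorem pr_surj (γ : GL (Fin n) F ⧸ Subgroup.center (GL (Fin n) F)) :
    ∃ h : GL (Fin n) F, pr F n h = γ :=
  QuotientGroup.mk'_surjective _ γ

/-- The stabiliser of the line spanned by the column vector `v`. -/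
def colStab (v : Fin n → F) : Subgroup (GL (Fin n) F) where
  carrier := {h | ∃ c : F, c ≠ 0 ∧ h.val *ᵥ v = c • v}
  one_mem' := ⟨1, one_ne_zero, by simp⟩
  mul_mem' := by
    rintro a b ⟨c, hc, hac⟩ ⟨d, hd, hbd⟩
    refine ⟨d * c, mul_ne_zero hd hc, ?_⟩
    rw [Units.val_mul, ← Matrix.mulVec_mulVec, hbd, Matrix.mulVec_smul, hac, smul_smul]
  inv_mem' := by
    rintro a ⟨c, hc, hac⟩
    refine ⟨c⁻¹, inv_ne_zero hc, ?_⟩
    have h1 : (a⁻¹).val *ᵥ (a.val *ᵥ v) = v := by
      rw [Matrix.mulVec_mulVec, ← Units.val_mul, inv_mul_cancel]; simp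
    rw [hac, Matrix.mulVec_smul] at h1
    calc (a⁻¹).val *ᵥ v = c⁻¹ • (c • ((a⁻¹).val *ᵥ v)) := by
          rw [smul_smul, inv_mul_cancel₀ hc, one_smul]
      _ = c⁻¹ • v := by rw [h1]

theorem mem_colStab {v : Fin n → F} {h : GL (Fin n) F} :
    h ∈ colStab v ↔ ∃ c : F, c ≠ 0 ∧ h.val *ᵥ v = c • v := Iff.rfl

/-- The stabiliser of the line spanned by the row vector `φ`. -/
def rowStab (φ : Fin n → F) : Subgroup (GL (Fin n) F) where
  carrier := {h | ∃ c : F, c ≠ 0 ∧ φ ᵥ* h.val = c • φ}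
  one_mem' := ⟨1, one_ne_zero, by simp⟩
  mul_mem' := by
    rintro a b ⟨c, hc, hac⟩ ⟨d, hd, hbd⟩
    refine ⟨c * d, mul_ne_zero hc hd, ?_⟩
    rw [Units.val_mul, ← Matrix.vecMul_vecMul, hac, Matrix.smul_vecMul, hbd, smul_smul]
  inv_mem' := by
    rintro a ⟨c, hc, hac⟩
    refine ⟨c⁻¹, inv_ne_zero hc, ?_⟩
    have h1 : (φ ᵥ* a.val) ᵥ* (a⁻¹).val = φ := by
      rw [Matrix.vecMul_vecMul, ← Units.val_mul, mul_inv_cancel]; simp
    rw [hac, Matrix.smul_vecMul] at h1
    calc φ ᵥ* (a⁻¹).val = c⁻¹ • (c • (φ ᵥ* (a⁻¹).val)) := by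
          rw [smul_smul, inv_mul_cancel₀ hc, one_smul]
      _ = c⁻¹ • φ := by rw [h1]

theorem mem_rowStab {φ : Fin n → F} {h : GL (Fin n) F} :
    h ∈ rowStab φ ↔ ∃ c : F, c ≠ 0 ∧ φ ᵥ* h.val = c • φ := Iff.rfl

theorem center_le_colStab (v : Fin n → F) : Subgroup.center (GL (Fin n) F) ≤ colStab v := by
  intro z hz
  rw [GeneralLinearGroup.center_eq_range_scalar, MonoidHom.mem_range] at hz
  obtain ⟨μ, rfl⟩ := hz
  refine ⟨μ, μ.ne_zero, ?_⟩
  rw [GeneralLinearGroup.coe_scalar]
  ext i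
  simp [Matrix.mulVec, dotProduct, Matrix.diagonal_apply]

theorem center_le_rowStab (φ : Fin n → F) : Subgroup.center (GL (Fin n) F) ≤ rowStab φ := by
  intro z hz
  rw [GeneralLinearGroup.center_eq_range_scalar, MonoidHom.mem_range] at hz
  obtain ⟨μ, rfl⟩ := hz
  refine ⟨μ, μ.ne_zero, ?_⟩
  rw [GeneralLinearGroup.coe_scalar]
  ext i
  simp [Matrix.vecMul, dotProduct, Matrix.diagonal_apply, mul_comm]

/-- The subgroup of `G` of the elements whose lifts lie in `K`. -/
noncomputable def KG (K : Subgroup (GL (Fin n) F))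
    (G : Subgroup (GL (Fin n) F ⧸ Subgroup.center (GL (Fin n) F))) : Subgroup ↥G :=
  (K.map (pr F n)).subgroupOf G

theorem mem_KG {K : Subgroup (GL (Fin n) F)} (hK : Subgroup.center (GL (Fin n) F) ≤ K)
    {G : Subgroup (GL (Fin n) F ⧸ Subgroup.center (GL (Fin n) F))} {γ : ↥G}
    {h : GL (Fin n) F} (hh : pr F n h = γ.1) : γ ∈ KG K G ↔ h ∈ K := by
  rw [KG, Subgroup.mem_subgroupOf, Subgroup.mem_map]
  constructor
  · rintro ⟨h', hh', hpr⟩
    rw [← hh, QuotientGroup.mk'_apply, QuotientGroup.mk'_apply, QuotientGroup.eq] at hpr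
    have := K.mul_mem hh' (hK hpr)
    simpa using this
  · intro hK'
    exact ⟨h, hK', hh⟩

/-- The image in `G` of an element of `SL_n(F)`. -/
noncomputable def sl {G : Subgroup (GL (Fin n) F ⧸ Subgroup.center (GL (Fin n) F))}
    (hG : ((SpecialLinearGroup.toGL : SpecialLinearGroup (Fin n) F →* GL (Fin n) F).range).map
      (pr F n) ≤ G) : SpecialLinearGroup (Fin n) F →* ↥G :=
  ((pr F n).comp SpecialLinearGroup.toGL).codRestrict G
    (fun s => hG ⟨SpecialLinearGroup.toGL s, ⟨s, rfl⟩, rfl⟩)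

theorem sl_val {G : Subgroup (GL (Fin n) F ⧸ Subgroup.center (GL (Fin n) F))}
    (hG : ((SpecialLinearGroup.toGL : SpecialLinearGroup (Fin n) F →* GL (Fin n) F).range).map
      (pr F n) ≤ G) (s : SpecialLinearGroup (Fin n) F) :
    pr F n (SpecialLinearGroup.toGL s) = (sl hG s).1 := rfl

theorem ufp_col {v : Fin n → F} (hv : v ≠ 0) {X : GL (Fin n) F}
    (hE : ∀ (w : Fin n → F) (c : F), X.val *ᵥ w = c • w → ∃ d : F, w = d • v)
    (G : Subgroup (GL (Fin n) F ⧸ Subgroup.center (GL (Fin n) F))) (x : ↥G)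
    (hx : pr F n X = x.1) :
    ∀ g : ↥G, g⁻¹ * x * g ∈ KG (colStab v) G → g ∈ KG (colStab v) G := by
  intro g hg
  obtain ⟨k, hk⟩ := pr_surj g.1
  have h1 : pr F n (k⁻¹ * X * k) = (g⁻¹ * x * g).1 := by
    rw [map_mul, map_mul, map_inv, hk, hx]; rfl
  rw [mem_KG (center_le_colStab v) h1] at hg
  rw [mem_KG (center_le_colStab v) hk]
  obtain ⟨c, hc, hcv⟩ := hg
  have h2 : X.val *ᵥ (k.val *ᵥ v) = c • (k.val *ᵥ v) := by
    have : X.val * k.val = k.val * (k⁻¹ * X * k).val := by
      rw [← Units.val_mul, ← Units.val_mul]; congr 1; group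
    rw [Matrix.mulVec_mulVec, this, ← Matrix.mulVec_mulVec, hcv, Matrix.mulVec_smul]
  obtain ⟨d, hd⟩ := hE _ _ h2
  refine ⟨d, ?_, hd⟩
  rintro rfl
  apply hv
  have h3 : (k⁻¹).val *ᵥ (k.val *ᵥ v) = v := by
    rw [Matrix.mulVec_mulVec, ← Units.val_mul, inv_mul_cancel]; simp
  rw [← h3, hd]; simp

theorem ufp_row {φ : Fin n → F} (hφ : φ ≠ 0) {X : GL (Fin n) F}
    (hE : ∀ (ψ : Fin n → F) (c : F), ψ ᵥ* X.val = c • ψ → ∃ d : F, ψ = d • φ)
    (G : Subgroup (GL (Fin n) F ⧸ Subgroup.center (GL (Fin n) F))) (x : ↥G)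
    (hx : pr F n X = x.1) :
    ∀ g : ↥G, g⁻¹ * x * g ∈ KG (rowStab φ) G → g ∈ KG (rowStab φ) G := by
  intro g hg
  obtain ⟨k, hk⟩ := pr_surj g.1
  have h1 : pr F n (k⁻¹ * X * k) = (g⁻¹ * x * g).1 := by
    rw [map_mul, map_mul, map_inv, hk, hx]; rfl
  rw [mem_KG (center_le_rowStab φ) h1] at hg
  rw [mem_KG (center_le_rowStab φ) hk]
  obtain ⟨c, hc, hcv⟩ := hg
  have h2 : (φ ᵥ* (k⁻¹).val) ᵥ* X.val = c • (φ ᵥ* (k⁻¹).val) := by
    have : (k⁻¹).val * X.val = (k⁻¹ * X * k).val * (k⁻¹).val := by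
      rw [← Units.val_mul, ← Units.val_mul]; congr 1; group
    rw [Matrix.vecMul_vecMul, this, ← Matrix.vecMul_vecMul, hcv, Matrix.smul_vecMul]
  obtain ⟨d, hd⟩ := hE _ _ h2
  have hkinv : k⁻¹ ∈ rowStab φ := by
    refine ⟨d, ?_, hd⟩
    rintro rfl
    apply hφ
    have h3 : (φ ᵥ* (k⁻¹).val) ᵥ* k.val = φ := by
      rw [Matrix.vecMul_vecMul, ← Units.val_mul, inv_mul_cancel]; simp
    rw [← h3, hd]; simp
  simpa using (rowStab φ).inv_mem hkinv

end Setup

section Jordan

variable {F : Type*} [Field F]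

/-- The nilpotent shift matrix. -/
def shiftN (n : ℕ) (F : Type*) [Field F] : Matrix (Fin n) (Fin n) F :=
  fun i j => if i.val + 1 = j.val then 1 else 0

theorem shiftN_mulVec {n : ℕ} (w : Fin n → F) (i : Fin n) :
    (shiftN n F *ᵥ w) i = if h : i.val + 1 < n then w ⟨i.val + 1, h⟩ else 0 := by
  simp only [Matrix.mulVec, dotProduct, shiftN]
  split_ifs with h
  · rw [Finset.sum_eq_single ⟨i.val + 1, h⟩]
    · simp
    · intro j _ hj
      have : ¬ (i.val + 1 = j.val) := fun e => hj (Fin.ext e.symm)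
      simp [this]
    · simp
  · apply Finset.sum_eq_zero
    intro j _
    have hj := j.isLt
    have : ¬ (i.val + 1 = j.val) := by omega
    simp [this]

theorem vecMul_shiftN {n : ℕ} (ψ : Fin n → F) (j : Fin n) :
    (ψ ᵥ* shiftN n F) j = if h : 0 < j.val then ψ ⟨j.val - 1, by omega⟩ else 0 := by
  simp only [Matrix.vecMul, dotProduct, shiftN]
  split_ifs with h
  · rw [Finset.sum_eq_single ⟨j.val - 1, by omega⟩]
    · have : j.val - 1 + 1 = j.val := by omega
      simp [this]
    · intro i _ hi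
      have : ¬ (i.val + 1 = j.val) := fun e => hi (Fin.ext (by simp; omega))
      simp [this]
    · simp
  · apply Finset.sum_eq_zero
    intro i _
    have : ¬ (i.val + 1 = j.val) := by omega
    simp [this]

theorem det_one_add_shiftN (n : ℕ) : (1 + shiftN n F).det = 1 := by
  rw [Matrix.det_of_isUpperTriangular]
  · apply Finset.prod_eq_one
    intro i _
    simp [shiftN]
  · intro i j hij
    simp only [id] at hij
    have h1 : i ≠ j := ne_of_gt hij
    have h2 : ¬ (i.val + 1 = j.val) := by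
      have := Fin.lt_def.mp hij
      omega
    simp [shiftN, h1, h2]

/-- The regular unipotent element. -/
def Jsl (n : ℕ) (F : Type*) [Field F] : SpecialLinearGroup (Fin n) F :=
  ⟨1 + shiftN n F, det_one_add_shiftN n⟩

theorem J_eig_col (m : ℕ) (w : Fin (m + 1) → F) (c : F)
    (h : (1 + shiftN (m + 1) F) *ᵥ w = c • w) : ∃ d : F, w = d • Pi.single 0 1 := by
  have key : ∀ i : Fin (m + 1),
      w i + (if h : i.val + 1 < m + 1 then w ⟨i.val + 1, h⟩ else 0) = c * w i := by
    intro i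
    have := congrFun h i
    rw [Matrix.add_mulVec, Matrix.one_mulVec, Pi.add_apply, shiftN_mulVec] at this
    simpa using this
  by_cases hc : c = 1
  · subst hc
    have h0 : ∀ j : Fin (m + 1), j ≠ 0 → w j = 0 := by
      intro j hj
      have hj' : 0 < j.val := Nat.pos_of_ne_zero (fun e => hj (Fin.ext e))
      have h1 := key ⟨j.val - 1, by omega⟩
      have h2 : j.val - 1 + 1 < m + 1 := by have := j.isLt; omega
      simp only [h2, dif_pos, one_mul] at h1
      have h3 : (⟨j.val - 1 + 1, h2⟩ : Fin (m + 1)) = j := Fin.ext (by simp; omega)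
      rw [h3] at h1
      simpa using h1
    refine ⟨w 0, ?_⟩
    ext j
    by_cases hj : j = 0
    · subst hj; simp
    · simp [h0 j hj, hj]
  · have h0 : ∀ k : ℕ, ∀ i : Fin (m + 1), m + 1 ≤ i.val + k → w i = 0 := by
      intro k
      induction k with
      | zero => intro i hi; have := i.isLt; omega
      | succ k ih =>
        intro i hi
        have h1 := key i
        have h2 : (if h : i.val + 1 < m + 1 then w ⟨i.val + 1, h⟩ else 0) = 0 := by
          split_ifs with h
          · exact ih ⟨i.val + 1, h⟩ (by simp; omega)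
          · rfl
        rw [h2, add_zero] at h1
        have h3 : (1 - c) * w i = 0 := by rw [sub_mul, one_mul, ← h1, sub_self]
        rcases mul_eq_zero.mp h3 with h4 | h4
        · exact absurd (sub_eq_zero.mp h4).symm hc
        · exact h4
    refine ⟨0, ?_⟩
    ext i
    simp [h0 (m + 1) i (by omega)]

theorem J_eig_row (m : ℕ) (ψ : Fin (m + 1) → F) (c : F)
    (h : ψ ᵥ* (1 + shiftN (m + 1) F) = c • ψ) : ∃ d : F, ψ = d • Pi.single (Fin.last m) 1 := by
  have key : ∀ j : Fin (m + 1),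
      ψ j + (if h : 0 < j.val then ψ ⟨j.val - 1, by omega⟩ else 0) = c * ψ j := by
    intro j
    have := congrFun h j
    rw [Matrix.vecMul_add, Matrix.vecMul_one, Pi.add_apply, vecMul_shiftN] at this
    simpa using this
  by_cases hc : c = 1
  · subst hc
    have h0 : ∀ i : Fin (m + 1), i ≠ Fin.last m → ψ i = 0 := by
      intro i hi
      have hi' : i.val < m := by
        have := i.isLt
        have : i.val ≠ m := fun e => hi (Fin.ext e)
        omega
      have h1 := key ⟨i.val + 1, by omega⟩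
      simp only [Nat.succ_pos, dif_pos, one_mul, Nat.add_sub_cancel] at h1
      simpa using h1
    refine ⟨ψ (Fin.last m), ?_⟩
    ext j
    by_cases hj : j = Fin.last m
    · subst hj; simp
    · simp [h0 j hj, hj]
  · have h0 : ∀ k : ℕ, ∀ i : Fin (m + 1), i.val < k → ψ i = 0 := by
      intro k
      induction k with
      | zero => intro i hi; omega
      | succ k ih =>
        intro i hi
        have h1 := key i
        have h2 : (if h : 0 < i.val then ψ ⟨i.val - 1, by omega⟩ else 0) = 0 := by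
          split_ifs with h
          · exact ih ⟨i.val - 1, by omega⟩ (by simp; omega)
          · rfl
        rw [h2, add_zero] at h1
        have h3 : (1 - c) * ψ i = 0 := by rw [sub_mul, one_mul, ← h1, sub_self]
        rcases mul_eq_zero.mp h3 with h4 | h4
        · exact absurd (sub_eq_zero.mp h4).symm hc
        · exact h4
    refine ⟨0, ?_⟩
    ext i
    simp [h0 (m + 1) i i.isLt]

end Jordan

section GeThree

variable {F : Type*} [Field F]

/-- No group between `PSL_n(F)` and `PGL_n(F)`, `n ≥ 3`, has a nilpotent minimal cover. -/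
theorem no_nilpotent_minCover_ge_three (m : ℕ)
    (G : Subgroup (GL (Fin (m + 3)) F ⧸ Subgroup.center (GL (Fin (m + 3)) F)))
    (hG : ((SpecialLinearGroup.toGL :
      SpecialLinearGroup (Fin (m + 3)) F →* GL (Fin (m + 3)) F).range).map
      (pr F (m + 3)) ≤ G) (𝓐 : Finset (Subgroup ↥G)) (hmin : MinCover 𝓐)
    (hnil : ∀ A ∈ 𝓐, Group.IsNilpotent ↥A) : False := by
  classical
  -- notation
  set e0 : Fin (m + 3) → F := Pi.single 0 1 with he0
  set L : Fin (m + 3) := Fin.last (m + 2) with hL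
  set eL : Fin (m + 3) → F := Pi.single L 1 with heL
  have he0_ne : e0 ≠ 0 := by
    intro h
    have := congrFun h 0
    simp [he0] at this
  have heL_ne : eL ≠ 0 := by
    intro h
    have := congrFun h L
    simp [heL] at this
  set j1 : Fin (m + 3) := ⟨m + 1, by omega⟩ with hj1
  have hLj : L ≠ j1 := by
    intro h
    have := congrArg Fin.val h
    simp [hL, hj1] at this
  have hj0 : j1 ≠ 0 := by
    intro h
    have := congrArg Fin.val h
    simp [hj1] at this
  set x : ↥G := sl hG (Jsl (m + 3) F) with hx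
  set M : Subgroup ↥G := KG (colStab e0) G with hM
  set M' : Subgroup ↥G := KG (rowStab eL) G with hM'
  have hxval : pr F (m + 3) (SpecialLinearGroup.toGL (Jsl (m + 3) F)) = x.1 := sl_val hG _
  have hJval : (SpecialLinearGroup.toGL (Jsl (m + 3) F)).val = 1 + shiftN (m + 3) F := rfl
  -- x ∈ M and x ∈ M'
  have hxM : x ∈ M := by
    rw [hM, mem_KG (center_le_colStab e0) hxval]
    refine ⟨1, one_ne_zero, ?_⟩
    rw [hJval, Matrix.add_mulVec, Matrix.one_mulVec, one_smul]
    have : shiftN (m + 3) F *ᵥ e0 = 0 := by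
      ext i
      rw [shiftN_mulVec]
      split_ifs with h
      · have : (⟨i.val + 1, h⟩ : Fin (m + 3)) ≠ 0 := by
          intro e
          have := congrArg Fin.val e
          simp at this
        simp [he0, this]
      · rfl
    rw [this, add_zero]
  have hxM' : x ∈ M' := by
    rw [hM', mem_KG (center_le_rowStab eL) hxval]
    refine ⟨1, one_ne_zero, ?_⟩
    rw [hJval, Matrix.vecMul_add, Matrix.vecMul_one, one_smul]
    have : eL ᵥ* shiftN (m + 3) F = 0 := by
      ext i
      rw [vecMul_shiftN]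
      split_ifs with h
      · have : (⟨i.val - 1, by omega⟩ : Fin (m + 3)) ≠ L := by
          intro e
          have := congrArg Fin.val e
          simp [hL] at this
          have := i.isLt
          omega
        simp [heL, this]
      · rfl
    rw [this, add_zero]
  have hufp : ∀ g : ↥G, g⁻¹ * x * g ∈ M → g ∈ M :=
    ufp_col he0_ne (fun w c h => J_eig_col (m + 2) w c (by rw [← hJval]; exact h)) G x hxval
  have hufp' : ∀ g : ↥G, g⁻¹ * x * g ∈ M' → g ∈ M' :=
    ufp_row heL_ne (fun w c h => J_eig_row (m + 2) w c (by rw [← hJval]; exact h)) G x hxval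
  -- the conjugating element
  set T : SpecialLinearGroup (Fin (m + 3)) F := SpecialLinearGroup.transvection hLj 1 with hT
  set g0 : ↥G := sl hG T with hg0
  have hg0val : pr F (m + 3) (SpecialLinearGroup.toGL T) = g0.1 := sl_val hG _
  have hg0M : g0 ∈ M := by
    rw [hM, mem_KG (center_le_colStab e0) hg0val]
    refine ⟨1, one_ne_zero, ?_⟩
    have : (SpecialLinearGroup.toGL T).val = 1 + Matrix.single L j1 (1 : F) := rfl
    rw [this, Matrix.add_mulVec, Matrix.one_mulVec, one_smul]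
    have : Matrix.single L j1 (1 : F) *ᵥ e0 = 0 := by
      ext i
      simp only [he0, Matrix.mulVec, dotProduct, Matrix.single_apply, Pi.zero_apply]
      apply Finset.sum_eq_zero
      intro k _
      split_ifs with h
      · rw [← h.2, Pi.single_eq_of_ne hj0, mul_zero]
      · rw [zero_mul]
    rw [this, add_zero]
  -- M is proper
  have hMtop : M ≠ ⊤ := by
    intro htop
    have h10 : (1 : Fin (m + 3)) ≠ 0 := by
      intro e
      have := congrArg Fin.val e
      simp at this
    set T1 : SpecialLinearGroup (Fin (m + 3)) F := SpecialLinearGroup.transvection h10 1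
    have hmem : sl hG T1 ∈ M := by rw [htop]; trivial
    rw [hM, mem_KG (center_le_colStab e0) (sl_val hG T1)] at hmem
    obtain ⟨c, hc, hcv⟩ := hmem
    have h1 : (SpecialLinearGroup.toGL T1).val = 1 + Matrix.single 1 0 (1 : F) := rfl
    rw [h1, Matrix.add_mulVec, Matrix.one_mulVec] at hcv
    have := congrFun hcv 1
    simp [he0, h10] at this
  -- the two members
  obtain ⟨A, hA, hxA⟩ := hmin.cov x
  obtain ⟨B, hB, hyB⟩ := hmin.cov (g0 * x * g0⁻¹)
  have := hnil A hA
  have := hnil B hB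
  have hAM : A ≤ M := le_of_ufp M hxM hufp A hxA
  have hBM : B ≤ M := by
    intro b hb
    have := ufp_conj M hxM hufp g0 B hyB b hb
    have h2 := M.mul_mem (M.mul_mem hg0M this) (M.inv_mem hg0M)
    have h3 : g0 * (g0⁻¹ * b * g0) * g0⁻¹ = b := by group
    rwa [h3] at h2
  have hAB : A = B := hmin.eq_of_le_proper hA hB hMtop hAM hBM
  subst hAB
  -- the row stabiliser
  have h4 := ufp_conj M' hxM' hufp' g0 A hyB x hxA
  have hlift : pr F (m + 3) ((SpecialLinearGroup.toGL T)⁻¹ *
      SpecialLinearGroup.toGL (Jsl (m + 3) F) * SpecialLinearGroup.toGL T) =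
      (g0⁻¹ * x * g0).1 := by
    rw [map_mul, map_mul, map_inv, hg0val, hxval]; rfl
  rw [hM', mem_KG (center_le_rowStab eL) hlift] at h4
  obtain ⟨c, hc, hcv⟩ := h4
  set ψ : Fin (m + 3) → F := eL ᵥ* ((SpecialLinearGroup.toGL T)⁻¹).val with hψ
  have h5 : ψ ᵥ* (1 + shiftN (m + 3) F) = c • ψ := by
    have e1 : ((SpecialLinearGroup.toGL T)⁻¹).val * (1 + shiftN (m + 3) F) =
        ((SpecialLinearGroup.toGL T)⁻¹ * SpecialLinearGroup.toGL (Jsl (m + 3) F) *
          SpecialLinearGroup.toGL T).val * ((SpecialLinearGroup.toGL T)⁻¹).val := by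
      rw [← hJval, ← Units.val_mul, ← Units.val_mul]
      congr 1
      group
    rw [hψ, Matrix.vecMul_vecMul, e1, ← Matrix.vecMul_vecMul, hcv, Matrix.smul_vecMul]
  obtain ⟨d, hd⟩ := J_eig_row (m + 2) ψ c h5
  have h6 : ((SpecialLinearGroup.toGL T)⁻¹).val = 1 + Matrix.single L j1 (-1 : F) := by
    rw [← map_inv, hT, SpecialLinearGroup.transvection_inv]
    rfl
  have hd' : ψ = d • eL := hd
  have h7 := congrFun hd' j1
  rw [hψ, h6, heL, Matrix.single_vecMul] at h7
  simp [Matrix.row, Matrix.add_apply, hLj, hLj.symm] at h7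

end GeThree

end Cfsg.Agent.Helper64.NC
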