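import Mathlib
import Cfsg.Agent.Lib.Helper64.NilpCoverB

set_option autoImplicit false

/-!
# Nilpotent minimal covers of groups between `PSL_2` and `PGL_2` (helper64)
-/

namespace Cfsg.Agent.Helper64.NC

open Matrix

section Mat2

variable {F : Type*} [Field F]

theorem uni_eig (w : Fin 2 → F) (c : F) (h : (!![1, 1; 0, 1] : Matrix (Fin 2) (Fin 2) F) *ᵥ w = c • w) :
    ∃ d : F, w = d • ![1, 0] := by
  have e0 := congrFun h 0
  have e1 := congrFun h 1
  simp [Matrix.mulVec, dotProduct, Fin.sum_univ_two] at e0 e1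
  have hw1 : w 1 = 0 := by
    by_cases hc : c = 1
    · subst hc
      simpa using e0
    · have : (1 - c) * w 1 = 0 := by rw [sub_mul, one_mul, ← e1, sub_self]
      rcases mul_eq_zero.mp this with h4 | h4
      · exact absurd (sub_eq_zero.mp h4).symm hc
      · exact h4
  refine ⟨w 0, funext fun i => ?_⟩
  fin_cases i <;> simp [hw1]

theorem mem_colStab_two {h : GL (Fin 2) F} : h ∈ colStab (![1, 0] : Fin 2 → F) ↔ h.val 1 0 = 0 := by
  rw [mem_colStab]
  constructor
  · rintro ⟨c, hc, hcv⟩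
    have e1 := congrFun hcv 1
    simpa [Matrix.mulVec, dotProduct, Fin.sum_univ_two] using e1
  · intro h10
    have hdet := Matrix.GeneralLinearGroup.det_ne_zero h
    rw [Matrix.det_fin_two, h10, mul_zero, sub_zero] at hdet
    refine ⟨h.val 0 0, left_ne_zero_of_mul hdet, funext fun i => ?_⟩
    fin_cases i <;> simp [Matrix.mulVec, dotProduct, Fin.sum_univ_two, h10]

theorem comm_diag {M : Matrix (Fin 2) (Fin 2) F} {a d μ : F} (had : a ≠ d) (ha : a ≠ 0)
    (hd : d ≠ 0) (hM : M * !![a, 0; 0, d] = μ • (!![a, 0; 0, d] * M)) (hdet : M.det ≠ 0) :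
    (M 0 1 = 0 ∧ M 1 0 = 0) ∨ (M 0 0 = 0 ∧ M 1 1 = 0 ∧ a ^ 2 = d ^ 2) := by
  have e00 := congrFun (congrFun hM 0) 0
  have e01 := congrFun (congrFun hM 0) 1
  have e10 := congrFun (congrFun hM 1) 0
  have e11 := congrFun (congrFun hM 1) 1
  simp [Matrix.mul_apply, Fin.sum_univ_two, Matrix.vecMul, dotProduct] at e00 e01 e10 e11
  by_cases hμ : μ = 1
  · subst hμ
    left
    constructor
    · have : M 0 1 * (d - a) = 0 := by rw [mul_sub, e01]; ring
      rcases mul_eq_zero.mp this with h | h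
      · exact h
      · exact absurd (sub_eq_zero.mp h).symm had
    · have : M 1 0 * (a - d) = 0 := by rw [mul_sub, e10]; ring
      rcases mul_eq_zero.mp this with h | h
      · exact h
      · exact absurd (sub_eq_zero.mp h) had
  · right
    have h1μ : (1 - μ) ≠ 0 := fun h => hμ (sub_eq_zero.mp h).symm
    have h00 : M 0 0 = 0 := by
      have : (1 - μ) * a * M 0 0 = 0 := by
        have : (1 - μ) * a * M 0 0 = M 0 0 * a - μ * (a * M 0 0) := by ring
        rw [this, ← e00, sub_self]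
      rcases mul_eq_zero.mp this with h | h
      · exact absurd h (mul_ne_zero h1μ ha)
      · exact h
    have h11 : M 1 1 = 0 := by
      have : (1 - μ) * d * M 1 1 = 0 := by
        have : (1 - μ) * d * M 1 1 = M 1 1 * d - μ * (d * M 1 1) := by ring
        rw [this, ← e11, sub_self]
      rcases mul_eq_zero.mp this with h | h
      · exact absurd h (mul_ne_zero h1μ hd)
      · exact h
    refine ⟨h00, h11, ?_⟩
    rw [Matrix.det_fin_two, h00, h11, zero_mul, zero_sub, neg_ne_zero] at hdet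
    have h01 : M 0 1 ≠ 0 := left_ne_zero_of_mul hdet
    have h10 : M 1 0 ≠ 0 := right_ne_zero_of_mul hdet
    have hd' : d = μ * a := by
      have : M 0 1 * (d - μ * a) = 0 := by rw [mul_sub, e01]; ring
      rcases mul_eq_zero.mp this with h | h
      · exact absurd h h01
      · exact sub_eq_zero.mp h
    have ha' : a = μ * d := by
      have : M 1 0 * (a - μ * d) = 0 := by rw [mul_sub, e10]; ring
      rcases mul_eq_zero.mp this with h | h
      · exact absurd h h10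
      · exact sub_eq_zero.mp h
    calc a ^ 2 = a * a := sq a
      _ = (μ * d) * a := by rw [← ha']
      _ = d * (μ * a) := by ring
      _ = d * d := by rw [← hd']
      _ = d ^ 2 := (sq d).symm

theorem eig_of_diag_or_antidiag {M : Matrix (Fin 2) (Fin 2) F} {i : F} (hi : i * i = -1)
    (hdet : M.det = 1) (h : (M 0 1 = 0 ∧ M 1 0 = 0) ∨ (M 0 0 = 0 ∧ M 1 1 = 0)) :
    ∃ w : Fin 2 → F, w ≠ 0 ∧ ∃ e : F, M *ᵥ w = e • w := by
  rcases h with ⟨h01, h10⟩ | ⟨h00, h11⟩
  · refine ⟨![1, 0], ?_, M 0 0, funext fun j => ?_⟩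
    · intro h
      have := congrFun h 0
      simp at this
    · fin_cases j <;> simp [Matrix.mulVec, dotProduct, Fin.sum_univ_two, h10]
  · have hi0 : i ≠ 0 := by
      rintro rfl
      simp at hi
    rw [Matrix.det_fin_two, h00, h11, zero_mul, zero_sub] at hdet
    refine ⟨![M 0 1, i], ?_, i, funext fun j => ?_⟩
    · intro h
      have := congrFun h 1
      simp [hi0] at this
    · fin_cases j
      · simp [Matrix.mulVec, dotProduct, Fin.sum_univ_two, h00, mul_comm]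
      · simp [Matrix.mulVec, dotProduct, Fin.sum_univ_two, h11]
        rw [hi, ← hdet]; ring

theorem diag_uni_conj_false {K : Matrix (Fin 2) (Fin 2) F} {l l' β μ : F}
    (hne : l ≠ l') (hdet : K.det ≠ 0)
    (h : K * !![1, β; 0, 1] = μ • (!![l, 0; 0, l'] * K)) : False := by
  have e00 := congrFun (congrFun h 0) 0
  have e01 := congrFun (congrFun h 0) 1
  have e10 := congrFun (congrFun h 1) 0
  have e11 := congrFun (congrFun h 1) 1
  simp [Matrix.mul_apply, Fin.sum_univ_two, Matrix.vecMul, dotProduct] at e00 e01 e10 e11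
  rw [Matrix.det_fin_two] at hdet
  have h1 : μ * l = 1 := by
    by_cases hK : K 0 0 = 0
    · rw [hK, zero_mul, zero_sub, neg_ne_zero] at hdet
      have h01 : K 0 1 ≠ 0 := left_ne_zero_of_mul hdet
      rw [hK, zero_mul, zero_add] at e01
      have : K 0 1 * (μ * l - 1) = 0 := by linear_combination (-1 : F) * e01
      rcases mul_eq_zero.mp this with h | h
      · exact absurd h h01
      · exact sub_eq_zero.mp h
    · have : K 0 0 * (μ * l - 1) = 0 := by linear_combination (-1 : F) * e00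
      rcases mul_eq_zero.mp this with h | h
      · exact absurd h hK
      · exact sub_eq_zero.mp h
  have h2 : μ * l' = 1 := by
    by_cases hK : K 1 0 = 0
    · rw [hK, mul_zero, sub_zero] at hdet
      have h11 : K 1 1 ≠ 0 := right_ne_zero_of_mul hdet
      rw [hK, zero_mul, zero_add] at e11
      have : K 1 1 * (μ * l' - 1) = 0 := by linear_combination (-1 : F) * e11
      rcases mul_eq_zero.mp this with h | h
      · exact absurd h h11
      · exact sub_eq_zero.mp h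
    · have : K 1 0 * (μ * l' - 1) = 0 := by linear_combination (-1 : F) * e10
      rcases mul_eq_zero.mp this with h | h
      · exact absurd h hK
      · exact sub_eq_zero.mp h
  have hμ : μ ≠ 0 := by
    rintro rfl
    simp at h1
  exact hne (mul_left_cancel₀ hμ (h1.trans h2.symm))

theorem uni_comm_identity (p r s β ρ : F) (hρ : ρ * s = s - p) :
    (!![1, β * ρ; 0, 1] : Matrix (Fin 2) (Fin 2) F) * !![p, r; 0, s] * !![1, β; 0, 1] =
      !![1, β; 0, 1] * !![p, r; 0, s] := by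
  have : β * ρ * s = β * (s - p) := by rw [mul_assoc, hρ]
  ext i j
  fin_cases i <;> fin_cases j <;> simp [Matrix.mul_apply, Fin.sum_univ_two, this]
  ring

theorem dg_anti_identity (ρ ρ' b c : F) (hρ : ρ * ρ' = 1) :
    (!![ρ ^ 2, 0; 0, ρ' ^ 2] : Matrix (Fin 2) (Fin 2) F) * !![0, b; c, 0] * !![ρ, 0; 0, ρ'] =
      !![ρ, 0; 0, ρ'] * !![0, b; c, 0] := by
  have h1 : ρ ^ 2 * b * ρ' = ρ * b := by
    calc ρ ^ 2 * b * ρ' = ρ * b * (ρ * ρ') := by ring
      _ = ρ * b := by rw [hρ, mul_one]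
  have h2 : ρ' ^ 2 * c * ρ = ρ' * c := by
    calc ρ' ^ 2 * c * ρ = ρ' * c * (ρ * ρ') := by ring
      _ = ρ' * c := by rw [hρ, mul_one]
  ext i j
  fin_cases i <;> fin_cases j <;> simp [Matrix.mul_apply, Fin.sum_univ_two, h1, h2]

theorem anti_K_identity (b c i : F) (hbc : b * c = -1) (hi : i * i = -1) :
    (!![0, b; c, 0] : Matrix (Fin 2) (Fin 2) F) * !![b, b; i, -i] =
      !![b, b; i, -i] * !![i, 0; 0, -i] := by
  have h1 : c * b = i * i := by rw [hi, ← hbc]; ring
  ext k j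
  fin_cases k <;> fin_cases j <;> simp [Matrix.mul_apply, Fin.sum_univ_two, h1]

end Mat2

section G2

variable {F : Type*} [Field F]

/-- Upper unitriangular element of `SL₂`. -/
def uniS (β : F) : SpecialLinearGroup (Fin 2) F :=
  ⟨!![1, β; 0, 1], by simp [Matrix.det_fin_two_of]⟩

/-- Diagonal element of `SL₂`. -/
def dgS (l : Fˣ) : SpecialLinearGroup (Fin 2) F :=
  ⟨!![(l : F), 0; 0, ((l⁻¹ : Fˣ) : F)], by simp [Matrix.det_fin_two_of]⟩

theorem uniS_val (β : F) : (SpecialLinearGroup.toGL (uniS β)).val = !![1, β; 0, 1] := rfl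

theorem dgS_val (l : Fˣ) :
    (SpecialLinearGroup.toGL (dgS l)).val = !![(l : F), 0; 0, ((l⁻¹ : Fˣ) : F)] := rfl

theorem uniS_zero : uniS (0 : F) = 1 := by
  apply Subtype.ext
  simp [uniS, Matrix.one_fin_two]

variable {G : Subgroup (GL (Fin 2) F ⧸ Subgroup.center (GL (Fin 2) F))}

/-- The Borel subgroup of `G`. -/
noncomputable def BG (G : Subgroup (GL (Fin 2) F ⧸ Subgroup.center (GL (Fin 2) F))) :
    Subgroup ↥G := KG (colStab (![1, 0] : Fin 2 → F)) G

theorem mem_BG {γ : ↥G} {h : GL (Fin 2) F} (hh : pr F 2 h = γ.1) :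
    γ ∈ BG G ↔ h.val 1 0 = 0 := by
  rw [BG, mem_KG (center_le_colStab _) hh, mem_colStab_two]

variable (hG : ((SpecialLinearGroup.toGL : SpecialLinearGroup (Fin 2) F →* GL (Fin 2) F).range).map
      (pr F 2) ≤ G)

theorem e0_ne_zero : (![1, 0] : Fin 2 → F) ≠ 0 := by
  intro h
  have := congrFun h 0
  simp at this

theorem uni_ufp : ∀ g : ↥G, g⁻¹ * sl hG (uniS 1) * g ∈ BG G → g ∈ BG G :=
  ufp_col e0_ne_zero (X := SpecialLinearGroup.toGL (uniS 1)) (fun w c h => uni_eig w c h) G _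
    (sl_val hG _)

theorem uG_mem_BG (β : F) : sl hG (uniS β) ∈ BG G :=
  (mem_BG (sl_val hG _)).mpr (by
    show (!![1, β; 0, 1] : Matrix (Fin 2) (Fin 2) F) 1 0 = 0
    simp)

include hG in
theorem BG_ne_top : BG G ≠ ⊤ := by
  intro htop
  set lowS : SpecialLinearGroup (Fin 2) F := ⟨!![1, 0; 1, 1], by simp [Matrix.det_fin_two_of]⟩
  have hmem : sl hG lowS ∈ BG G := by rw [htop]; trivial
  rw [mem_BG (sl_val hG lowS)] at hmem
  have : (SpecialLinearGroup.toGL lowS).val = !![1, 0; 1, 1] := rfl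
  rw [this] at hmem
  simp at hmem

theorem nilp_unip (A : Subgroup ↥G) [Group.IsNilpotent A] (k : ↥G)
    (hk : k * sl hG (uniS 1) * k⁻¹ ∈ A) :
    ∀ a ∈ A, ∃ β : F, a = k * sl hG (uniS β) * k⁻¹ := by
  intro a ha
  have hb := ufp_conj (BG G) (uG_mem_BG hG 1) (uni_ufp hG) k A hk a ha
  set b := k⁻¹ * a * k with hbdef
  obtain ⟨h, hh⟩ := pr_surj b.1
  rw [mem_BG hh] at hb
  set p := h.val 0 0 with hp_def
  set r := h.val 0 1 with hr_def
  set s := h.val 1 1 with hs_def
  have hval : h.val = !![p, r; 0, s] := by rw [Matrix.eta_fin_two h.val, hb]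
  have hdet := Matrix.GeneralLinearGroup.det_ne_zero h
  rw [hval, Matrix.det_fin_two_of, mul_zero, sub_zero] at hdet
  have hp : p ≠ 0 := left_ne_zero_of_mul hdet
  have hs : s ≠ 0 := right_ne_zero_of_mul hdet
  set ρ := 1 - p / s with hρdef
  have hρ : ρ * s = s - p := by rw [hρdef]; field_simp
  have key : ∀ β : F, sl hG (uniS (β * ρ)) * b * sl hG (uniS β) = sl hG (uniS β) * b := by
    intro β
    apply Subtype.ext
    simp only [Subgroup.coe_mul]
    rw [← sl_val hG, ← sl_val hG, ← hh, ← map_mul, ← map_mul, ← map_mul]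
    congr 1
    apply Units.ext
    simp only [Units.val_mul, uniS_val, hval]
    exact uni_comm_identity p r s β ρ hρ
  have hab : a = k * b * k⁻¹ := by rw [hbdef]; group
  obtain ⟨j, hj⟩ := exists_iter_comm_eq_one A ha (fun j => k * sl hG (uniS (ρ ^ j)) * k⁻¹)
    (by simpa using hk) (by
      intro j
      have h2 : sl hG (uniS (ρ ^ (j + 1))) =
          sl hG (uniS (ρ ^ j)) * b * (sl hG (uniS (ρ ^ j)))⁻¹ * b⁻¹ := by
        rw [pow_succ, ← key (ρ ^ j)]; group
      show k * sl hG (uniS (ρ ^ (j + 1))) * k⁻¹ = (k * sl hG (uniS (ρ ^ j)) * k⁻¹) * a *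
        (k * sl hG (uniS (ρ ^ j)) * k⁻¹)⁻¹ * a⁻¹
      rw [h2, hab]; group)
  have h1 : sl hG (uniS (ρ ^ j)) = 1 := by
    have : k⁻¹ * (k * sl hG (uniS (ρ ^ j)) * k⁻¹) * k = 1 := by rw [hj]; group
    rw [← this]; group
  have h2 : pr F 2 (SpecialLinearGroup.toGL (uniS (ρ ^ j))) = pr F 2 1 := by
    rw [sl_val hG, h1, map_one]; rfl
  obtain ⟨μ, hμ⟩ := (pr_eq_iff _ _).mp h2
  have h3 := congrFun (congrFun hμ 0) 1
  simp at h3
  have h3' : ρ ^ j = 0 := h3
  have hρ0 : ρ = 0 := pow_eq_zero_iff (n := j) (by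
    rintro rfl
    simp at h3') |>.mp h3' 
  have hps : p = s := by
    rw [hρ0, zero_mul] at hρ
    exact (sub_eq_zero.mp hρ.symm).symm
  refine ⟨r / p, ?_⟩
  have hb2 : b = sl hG (uniS (r / p)) := by
    apply Subtype.ext
    rw [← hh, ← sl_val hG, pr_eq_iff]
    refine ⟨(Units.mk0 p hp)⁻¹, ?_⟩
    rw [uniS_val, hval, ← hps]
    ext i j
    fin_cases i <;> fin_cases j <;> simp [hp]
    field_simp
  rw [← hb2, hbdef]; group

theorem tG_ne_conj_uG (l : Fˣ) (hl : l ≠ l⁻¹) (k : ↥G) (β : F) :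
    sl hG (dgS l) ≠ k * sl hG (uniS β) * k⁻¹ := by
  intro h
  have h1 : sl hG (dgS l) * k = k * sl hG (uniS β) := by rw [h]; group
  obtain ⟨K, hK⟩ := pr_surj k.1
  have h2 : pr F 2 (SpecialLinearGroup.toGL (dgS l) * K) =
      pr F 2 (K * SpecialLinearGroup.toGL (uniS β)) := by
    rw [map_mul, map_mul, hK, sl_val hG, sl_val hG]
    exact congrArg Subtype.val h1
  obtain ⟨μ, hμ⟩ := (pr_eq_iff _ _).mp h2
  rw [Units.val_mul, Units.val_mul, uniS_val, dgS_val] at hμ
  exact diag_uni_conj_false (fun e => hl (Units.ext e))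
    (Matrix.GeneralLinearGroup.det_ne_zero K) hμ

theorem tG_ne_one (l : Fˣ) (hl : l ≠ l⁻¹) : sl hG (dgS l) ≠ 1 := by
  intro h
  apply tG_ne_conj_uG hG l hl 1 0
  rw [h, uniS_zero, map_one]; group

/-- If `G` is larger than the image of `SL₂`, there is no nilpotent minimal cover. -/
theorem no_cover_of_range_ne_top (hrange : (sl hG).range ≠ ⊤) (𝓐 : Finset (Subgroup ↥G))
    (hmin : MinCover 𝓐) (hnil : ∀ A ∈ 𝓐, Group.IsNilpotent ↥A) : False := by
  set wS : SpecialLinearGroup (Fin 2) F := ⟨!![0, -1; 1, 0], by simp [Matrix.det_fin_two_of]⟩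
    with hwS
  set w : ↥G := sl hG wS with hw
  obtain ⟨A, hA, hxA⟩ := hmin.cov (sl hG (uniS 1))
  obtain ⟨B, hB, hyB⟩ := hmin.cov (w * sl hG (uniS 1) * w⁻¹)
  have := hnil A hA
  have := hnil B hB
  have hAM : A ≤ (sl hG).range := by
    intro a ha
    obtain ⟨β, hβ⟩ := nilp_unip hG A 1 (by simpa using hxA) a ha
    rw [hβ]
    exact ⟨uniS β, by simp⟩
  have hBM : B ≤ (sl hG).range := by
    intro b hb
    obtain ⟨β, hβ⟩ := nilp_unip hG B w hyB b hb
    rw [hβ]
    exact ⟨wS * uniS β * wS⁻¹, by simp [hw]⟩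
  have hAB : A = B := hmin.eq_of_le_proper hA hB hrange hAM hBM
  subst hAB
  obtain ⟨β, hβ⟩ := nilp_unip hG A 1 (by simpa using hxA) _ hyB
  have h1 : w * sl hG (uniS 1) = sl hG (uniS β) * w := by
    have : w * sl hG (uniS 1) * w⁻¹ = sl hG (uniS β) := by rw [hβ]; group
    rw [← this]; group
  have h2 : pr F 2 (SpecialLinearGroup.toGL (wS * uniS 1)) =
      pr F 2 (SpecialLinearGroup.toGL (uniS β * wS)) := by
    rw [sl_val hG, sl_val hG, map_mul, map_mul]
    exact congrArg Subtype.val h1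
  obtain ⟨μ, hμ⟩ := (pr_eq_iff _ _).mp h2
  have e1 : (SpecialLinearGroup.toGL (uniS β * wS)).val =
      (!![1, β; 0, 1] : Matrix (Fin 2) (Fin 2) F) * !![0, -1; 1, 0] := rfl
  have e2 : (SpecialLinearGroup.toGL (wS * uniS 1)).val =
      (!![0, -1; 1, 0] : Matrix (Fin 2) (Fin 2) F) * !![1, 1; 0, 1] := rfl
  rw [e1, e2] at hμ
  have h3 := congrFun (congrFun hμ 1) 1
  simp [Matrix.mul_apply, Fin.sum_univ_two] at h3
  exact μ.ne_zero h3.symm

/-- The final argument: a member containing a non-central diagonal element all of whose elements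
have eigenvectors leads to a contradiction. -/
theorem no_cover_of_eig (𝓐 : Finset (Subgroup ↥G)) (hmin : MinCover 𝓐)
    (hnil : ∀ A ∈ 𝓐, Group.IsNilpotent ↥A) (l : Fˣ) (hl : l ≠ l⁻¹) (A : Subgroup ↥G)
    (hA : A ∈ 𝓐) (htA : sl hG (dgS l) ∈ A)
    (hE : ∀ a ∈ A, ∃ h : GL (Fin 2) F, pr F 2 h = a.1 ∧
      ∃ w : Fin 2 → F, w ≠ 0 ∧ ∃ e : F, h.val *ᵥ w = e • w) : False := by
  classical
  set M : Subgroup ↥G := BG G with hM
  set ū : ↥G := sl hG (uniS 1) with hū
  let Mk : ↥G → Subgroup ↥G := fun k => M.map (MulAut.conj k).toMonoidHom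
  have hMk_mem : ∀ k g : ↥G, g ∈ Mk k ↔ k⁻¹ * g * k ∈ M := by
    intro k g
    constructor
    · rintro ⟨m, hm, rfl⟩
      have : k⁻¹ * (MulAut.conj k).toMonoidHom m * k = m := by
        simp only [MulEquiv.coe_toMonoidHom, MulAut.conj_apply]; group
      rwa [this]
    · intro h
      refine ⟨k⁻¹ * g * k, h, ?_⟩
      simp only [MulEquiv.coe_toMonoidHom, MulAut.conj_apply]; group
  have hMk_top : ∀ k : ↥G, Mk k ≠ ⊤ := by
    intro k htop
    apply BG_ne_top hG
    rw [eq_top_iff]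
    intro g _
    have h1 : k * g * k⁻¹ ∈ Mk k := by rw [htop]; trivial
    rw [hMk_mem] at h1
    have e : k⁻¹ * (k * g * k⁻¹) * k = g := by group
    rwa [e] at h1
  let φ : Subgroup ↥G → Subgroup ↥G :=
    fun C => if h : ∃ k, C ≤ Mk k then Mk h.choose else C
  have hφ : ∀ C ∈ 𝓐, C ≤ φ C ∧ φ C ≠ ⊤ := by
    intro C hC
    by_cases h : ∃ k, C ≤ Mk k
    · simp only [φ, dif_pos h]
      exact ⟨h.choose_spec, hMk_top _⟩
    · simp only [φ, dif_neg h]
      exact ⟨le_rfl, hmin.prop C hC⟩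
  obtain ⟨g, hgA, hg⟩ := hmin.exists_not_mem_image φ hφ hA
  obtain ⟨h, hh, w, hw, e, hew⟩ := hE g hgA
  have he : e ≠ 0 := by
    rintro rfl
    apply hw
    have h3 : (h⁻¹).val *ᵥ (h.val *ᵥ w) = w := by
      rw [Matrix.mulVec_mulVec, ← Units.val_mul, inv_mul_cancel]; simp
    rw [← h3, hew]; simp
  obtain ⟨kS, hkS⟩ : ∃ kS : SpecialLinearGroup (Fin 2) F,
      (SpecialLinearGroup.toGL kS).val *ᵥ ![1, 0] = w := by
    by_cases hw0 : w 0 = 0
    · have hw1 : w 1 ≠ 0 := by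
        intro hw1
        apply hw
        funext i
        fin_cases i <;> simp [hw0, hw1]
      refine ⟨⟨!![0, -(w 1)⁻¹; w 1, 0], by simp [Matrix.det_fin_two_of, hw1]⟩, ?_⟩
      show (!![0, -(w 1)⁻¹; w 1, 0] : Matrix (Fin 2) (Fin 2) F) *ᵥ ![1, 0] = w
      funext i
      fin_cases i <;> simp [Matrix.mulVec, dotProduct, Fin.sum_univ_two, hw0]
    · refine ⟨⟨!![w 0, 0; w 1, (w 0)⁻¹], by simp [Matrix.det_fin_two_of, hw0]⟩, ?_⟩
      show (!![w 0, 0; w 1, (w 0)⁻¹] : Matrix (Fin 2) (Fin 2) F) *ᵥ ![1, 0] = w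
      funext i
      fin_cases i <;> simp [Matrix.mulVec, dotProduct, Fin.sum_univ_two]
  set k : ↥G := sl hG kS with hk
  have hgk : g ∈ Mk k := by
    rw [hMk_mem]
    have hlift : pr F 2 ((SpecialLinearGroup.toGL kS)⁻¹ * h * SpecialLinearGroup.toGL kS) =
        (k⁻¹ * g * k).1 := by
      rw [map_mul, map_mul, map_inv, sl_val hG, hh]; rfl
    rw [hM, BG, mem_KG (center_le_colStab _) hlift]
    refine ⟨e, he, ?_⟩
    rw [Units.val_mul, Units.val_mul, ← Matrix.mulVec_mulVec, ← Matrix.mulVec_mulVec, hkS, hew,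
      Matrix.mulVec_smul, ← hkS, Matrix.mulVec_mulVec, ← Units.val_mul, inv_mul_cancel]
    simp
  obtain ⟨A', hA', hkA'⟩ := hmin.cov (k * ū * k⁻¹)
  have := hnil A' hA'
  have hA'k : A' ≤ Mk k := by
    intro a ha
    rw [hMk_mem]
    exact ufp_conj M (uG_mem_BG hG 1) (uni_ufp hG) k A' hkA' a ha
  have hex : ∃ k', A' ≤ Mk k' := ⟨k, hA'k⟩
  have hφA' : φ A' = Mk hex.choose := by simp only [φ, dif_pos hex]
  have hA'k' : A' ≤ Mk hex.choose := hex.choose_spec
  set k' : ↥G := hex.choose with hk'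
  have h1 : k'⁻¹ * (k * ū * k⁻¹) * k' ∈ M := (hMk_mem _ _).mp (hA'k' hkA')
  have h2 : k⁻¹ * k' ∈ M := by
    apply uni_ufp hG
    have : (k⁻¹ * k')⁻¹ * sl hG (uniS 1) * (k⁻¹ * k') = k'⁻¹ * (k * ū * k⁻¹) * k' := by
      rw [hū]; group
    rw [this]
    exact h1
  have hgk' : g ∈ Mk k' := by
    rw [hMk_mem] at hgk ⊢
    have : k'⁻¹ * g * k' = (k⁻¹ * k')⁻¹ * (k⁻¹ * g * k) * (k⁻¹ * k') := by group
    rw [this]
    exact M.mul_mem (M.mul_mem (M.inv_mem h2) hgk) h2
  have hA'A : A' = A := by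
    by_contra hne
    exact hg A' hA' hne (by rw [hφA']; exact hgk')
  subst hA'A
  obtain ⟨β, hβ⟩ := nilp_unip hG A' k hkA' _ htA
  exact tG_ne_conj_uG hG l hl k β hβ

end G2

end Cfsg.Agent.Helper64.NC
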