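import Mathlib
import Cfsg.Agent.Lib.Helper64.NilpCoverC

set_option autoImplicit false

/-!
# Nilpotent minimal covers of groups between `PSL_2` and `PGL_2`: the eigenvector property
(helper64)
-/

namespace Cfsg.Agent.Helper64.NC

open Matrix

section G2

variable {F : Type*} [Field F]
  {G : Subgroup (GL (Fin 2) F ⧸ Subgroup.center (GL (Fin 2) F))}
  (hG : ((SpecialLinearGroup.toGL : SpecialLinearGroup (Fin 2) F →* GL (Fin 2) F).range).map
      (pr F 2) ≤ G)

theorem dgS_sq_val (ρ : Fˣ) : (SpecialLinearGroup.toGL (dgS (ρ ^ 2))).val =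
    !![(ρ : F) ^ 2, 0; 0, (((ρ⁻¹ : Fˣ) : F)) ^ 2] := by
  rw [dgS_val]
  simp

/-- Case where `F^×` is not a 2-group. -/
theorem eig_of_not_two_group (l : Fˣ) (hl : ∀ j : ℕ, l ^ (2 ^ j) ≠ 1) (A : Subgroup ↥G)
    [Group.IsNilpotent A] (htA : sl hG (dgS l) ∈ A) :
    ∀ a ∈ A, ∃ h : GL (Fin 2) F, pr F 2 h = a.1 ∧
      ∃ w : Fin 2 → F, w ≠ 0 ∧ ∃ e : F, h.val *ᵥ w = e • w := by
  have hll : l ≠ l⁻¹ := by
    intro h
    apply hl 1
    rw [pow_one, sq]
    nth_rewrite 2 [h]
    simp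
  obtain ⟨c, hcA, hc1, hcc⟩ := exists_central_ne_one A htA (tG_ne_one hG l hll)
  obtain ⟨C, hC⟩ := pr_surj c.1
  have h1 := hcc _ htA
  have h2 : pr F 2 (SpecialLinearGroup.toGL (dgS l) * C) =
      pr F 2 (C * SpecialLinearGroup.toGL (dgS l)) := by
    rw [map_mul, map_mul, hC, sl_val hG]
    exact congrArg Subtype.val h1
  obtain ⟨μ, hμ⟩ := (pr_eq_iff _ _).mp h2
  rw [Units.val_mul, Units.val_mul, dgS_val] at hμ
  have hne : (l : F) ≠ ((l⁻¹ : Fˣ) : F) := fun e => hll (Units.ext e)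
  rcases comm_diag hne l.ne_zero (l⁻¹).ne_zero hμ (Matrix.GeneralLinearGroup.det_ne_zero C) with
    ⟨h01, h10⟩ | ⟨h00, h11, hsq⟩
  · set a0 := C.val 0 0 with ha0_def
    set d0 := C.val 1 1 with hd0_def
    have hCval : C.val = !![a0, 0; 0, d0] := by rw [Matrix.eta_fin_two C.val, h01, h10]
    have hdet := Matrix.GeneralLinearGroup.det_ne_zero C
    rw [hCval, Matrix.det_fin_two_of, mul_zero, sub_zero] at hdet
    have ha0 : a0 ≠ 0 := left_ne_zero_of_mul hdet
    have hd0 : d0 ≠ 0 := right_ne_zero_of_mul hdet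
    have had : a0 ≠ d0 := by
      intro had
      apply hc1
      apply Subtype.ext
      rw [← hC]
      show pr F 2 C = 1
      rw [← map_one (pr F 2), pr_eq_iff]
      refine ⟨(Units.mk0 a0 ha0)⁻¹, ?_⟩
      rw [hCval, ← had]
      ext i j
      fin_cases i <;> fin_cases j <;> simp [ha0]
    intro a' ha'
    obtain ⟨H, hH⟩ := pr_surj a'.1
    have h3 := hcc a' ha'
    have h4 : pr F 2 (C * H) = pr F 2 (H * C) := by
      rw [map_mul, map_mul, hC, hH]
      exact (congrArg Subtype.val h3).symm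
    obtain ⟨ν, hν⟩ := (pr_eq_iff _ _).mp h4
    rw [Units.val_mul, Units.val_mul, hCval] at hν
    rcases comm_diag had ha0 hd0 hν (Matrix.GeneralLinearGroup.det_ne_zero H) with
      ⟨k01, k10⟩ | ⟨k00, k11, _⟩
    · refine ⟨H, hH, ![1, 0], e0_ne_zero, H.val 0 0, ?_⟩
      funext i
      fin_cases i <;> simp [Matrix.mulVec, dotProduct, Fin.sum_univ_two, k10]
    · exfalso
      set b0 := H.val 0 1 with hb0_def
      set c0 := H.val 1 0 with hc0_def
      have hHval : H.val = !![0, b0; c0, 0] := by rw [Matrix.eta_fin_two H.val, k00, k11]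
      have key : ∀ ρ : Fˣ, sl hG (dgS (ρ ^ 2)) * a' * sl hG (dgS ρ) = sl hG (dgS ρ) * a' := by
        intro ρ
        apply Subtype.ext
        simp only [Subgroup.coe_mul]
        rw [← sl_val hG, ← sl_val hG, ← hH, ← map_mul, ← map_mul, ← map_mul]
        congr 1
        apply Units.ext
        simp only [Units.val_mul, dgS_val, hHval]
        exact dg_anti_identity (ρ : F) ((ρ⁻¹ : Fˣ) : F) b0 c0 (by simp)
      obtain ⟨j, hj⟩ := exists_iter_comm_eq_one A ha' (fun j => sl hG (dgS (l ^ (2 ^ j))))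
        (by simpa using htA) (by
          intro j
          show sl hG (dgS (l ^ (2 ^ (j + 1)))) = sl hG (dgS (l ^ 2 ^ j)) * a' *
            (sl hG (dgS (l ^ 2 ^ j)))⁻¹ * a'⁻¹
          have e1 : l ^ (2 ^ (j + 1)) = (l ^ 2 ^ j) ^ 2 := by rw [← pow_mul, pow_succ]
          rw [e1, ← key (l ^ 2 ^ j)]
          group)
      by_cases hlj : l ^ 2 ^ j = (l ^ 2 ^ j)⁻¹
      · apply hl (j + 1)
        rw [pow_succ, pow_mul, sq]
        nth_rewrite 2 [hlj]
        simp
      · exact tG_ne_one hG _ hlj hj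
  · exfalso
    apply hl 2
    apply Units.ext
    have e1 : ((l ^ 2 ^ 2 : Fˣ) : F) = (l : F) ^ 2 * (l : F) ^ 2 := by
      push_cast
      ring
    rw [e1]
    nth_rewrite 2 [hsq]
    rw [← mul_pow]
    simp

/-- An element of determinant one commuting (projectively) with a conjugate of a non-scalar
diagonal matrix has an eigenvector, when `-1` is a square. -/
theorem eig_of_comm_conj {i : F} (hi : i * i = -1) (H K D : GL (Fin 2) F)
    (hdet : H.val.det = 1) {a d : F} (hD : D.val = !![a, 0; 0, d]) (had : a ≠ d)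
    (hcomm : pr F 2 (D * (K⁻¹ * H * K)) = pr F 2 ((K⁻¹ * H * K) * D)) :
    ∃ w : Fin 2 → F, w ≠ 0 ∧ ∃ e : F, H.val *ᵥ w = e • w := by
  set H' : GL (Fin 2) F := K⁻¹ * H * K with hH'
  have hdet' : H'.val.det = 1 := by
    rw [hH', Units.val_mul, Units.val_mul, Matrix.det_mul, Matrix.det_mul, hdet, mul_one,
      ← Matrix.det_mul, ← Units.val_mul, inv_mul_cancel]
    simp
  obtain ⟨μ, hμ0⟩ := (pr_eq_iff _ _).mp hcomm
  have hμ : H'.val * !![a, 0; 0, d] = (μ : F) • (!![a, 0; 0, d] * H'.val) := by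
    rw [← hD, ← Units.val_mul, ← Units.val_mul]
    exact hμ0
  have hDdet := Matrix.GeneralLinearGroup.det_ne_zero D
  rw [hD, Matrix.det_fin_two_of, mul_zero, sub_zero] at hDdet
  have h1 : (H'.val 0 1 = 0 ∧ H'.val 1 0 = 0) ∨ (H'.val 0 0 = 0 ∧ H'.val 1 1 = 0) := by
    rcases comm_diag had (left_ne_zero_of_mul hDdet) (right_ne_zero_of_mul hDdet) hμ
      (by rw [hdet']; exact one_ne_zero) with h | ⟨h00, h11, _⟩
    · exact Or.inl h
    · exact Or.inr ⟨h00, h11⟩
  obtain ⟨w', hw', e, he⟩ := eig_of_diag_or_antidiag hi hdet' h1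
  have hKH : K.val * H'.val = H.val * K.val := by
    rw [← Units.val_mul, ← Units.val_mul, hH']
    congr 1
    group
  refine ⟨K.val *ᵥ w', ?_, e, ?_⟩
  · intro h0
    apply hw'
    have h3 : (K⁻¹).val *ᵥ (K.val *ᵥ w') = w' := by
      rw [Matrix.mulVec_mulVec, ← Units.val_mul, inv_mul_cancel]; simp
    rw [← h3, h0]; simp
  · rw [Matrix.mulVec_mulVec, ← hKH, ← Matrix.mulVec_mulVec, he, Matrix.mulVec_smul]

/-- Case where `G` is the image of `SL₂`, `-1` is a square and the characteristic is odd. -/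
theorem eig_of_neg_one_sq (hrange : (sl hG).range = ⊤) {i : F} (hi : i * i = -1)
    (h2 : (2 : F) ≠ 0) (l : Fˣ) (hll : l ≠ l⁻¹) (A : Subgroup ↥G)
    [Group.IsNilpotent A] (htA : sl hG (dgS l) ∈ A) :
    ∀ a ∈ A, ∃ h : GL (Fin 2) F, pr F 2 h = a.1 ∧
      ∃ w : Fin 2 → F, w ≠ 0 ∧ ∃ e : F, h.val *ᵥ w = e • w := by
  have hi0 : i ≠ 0 := by
    rintro rfl
    simp at hi
  obtain ⟨c, hcA, hc1, hcc⟩ := exists_central_ne_one A htA (tG_ne_one hG l hll)
  obtain ⟨cS, hcS⟩ := MonoidHom.range_eq_top.mp hrange c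
  set C : GL (Fin 2) F := SpecialLinearGroup.toGL cS with hCdef
  have hC : pr F 2 C = c.1 := by rw [← hcS]; exact sl_val hG cS
  have hCdet : C.val.det = 1 := cS.2
  have h1 := hcc _ htA
  have h2' : pr F 2 (SpecialLinearGroup.toGL (dgS l) * C) =
      pr F 2 (C * SpecialLinearGroup.toGL (dgS l)) := by
    rw [map_mul, map_mul, hC, sl_val hG]
    exact congrArg Subtype.val h1
  obtain ⟨μ, hμ⟩ := (pr_eq_iff _ _).mp h2'
  rw [Units.val_mul, Units.val_mul, dgS_val] at hμ
  have hne : (l : F) ≠ ((l⁻¹ : Fˣ) : F) := fun e => hll (Units.ext e)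
  -- the conjugating data
  obtain ⟨K, D, a, d, hD, had, hKD⟩ : ∃ (K D : GL (Fin 2) F) (a d : F),
      D.val = !![a, 0; 0, d] ∧ a ≠ d ∧ C * K = K * D := by
    rcases comm_diag hne l.ne_zero (l⁻¹).ne_zero hμ (Matrix.GeneralLinearGroup.det_ne_zero C) with
      ⟨h01, h10⟩ | ⟨h00, h11, hsq⟩
    · set a0 := C.val 0 0 with ha0_def
      set d0 := C.val 1 1 with hd0_def
      have hCval : C.val = !![a0, 0; 0, d0] := by rw [Matrix.eta_fin_two C.val, h01, h10]
      refine ⟨1, C, a0, d0, hCval, ?_, by simp⟩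
      intro had
      have hdet := Matrix.GeneralLinearGroup.det_ne_zero C
      rw [hCval, Matrix.det_fin_two_of, mul_zero, sub_zero] at hdet
      have ha0 : a0 ≠ 0 := left_ne_zero_of_mul hdet
      apply hc1
      apply Subtype.ext
      rw [← hC]
      show pr F 2 C = 1
      rw [← map_one (pr F 2), pr_eq_iff]
      refine ⟨(Units.mk0 a0 ha0)⁻¹, ?_⟩
      rw [hCval, ← had]
      ext i j
      fin_cases i <;> fin_cases j <;> simp [ha0]
    · set b0 := C.val 0 1 with hb0_def
      set c0 := C.val 1 0 with hc0_def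
      have hCval : C.val = !![0, b0; c0, 0] := by rw [Matrix.eta_fin_two C.val, h00, h11]
      have hbc : b0 * c0 = -1 := by
        have := hCdet
        rw [hCval, Matrix.det_fin_two_of] at this
        linear_combination (-1 : F) * this
      have hb0 : b0 ≠ 0 := by
        rintro h
        rw [h, zero_mul] at hbc
        exact one_ne_zero (neg_eq_zero.mp hbc.symm)
      have hKdet : (!![b0, b0; i, -i] : Matrix (Fin 2) (Fin 2) F).det ≠ 0 := by
        rw [Matrix.det_fin_two_of]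
        have : b0 * -i - b0 * i = -(2 * (b0 * i)) := by ring
        rw [this, neg_ne_zero]
        exact mul_ne_zero h2 (mul_ne_zero hb0 hi0)
      have hDdet : (!![i, 0; 0, -i] : Matrix (Fin 2) (Fin 2) F).det ≠ 0 := by
        rw [Matrix.det_fin_two_of]
        have : i * -i - 0 * 0 = 1 := by linear_combination (-1 : F) * hi
        rw [this]
        exact one_ne_zero
      refine ⟨Matrix.GeneralLinearGroup.mkOfDetNeZero _ hKdet,
        Matrix.GeneralLinearGroup.mkOfDetNeZero _ hDdet, i, -i, rfl, ?_, ?_⟩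
      · intro h
        have : 2 * i = 0 := by linear_combination h
        rcases mul_eq_zero.mp this with h | h
        · exact h2 h
        · exact hi0 h
      · apply Units.ext
        rw [Units.val_mul, Units.val_mul, hCval]
        exact anti_K_identity b0 c0 i hbc hi
  intro a' ha'
  obtain ⟨aS, haS⟩ := MonoidHom.range_eq_top.mp hrange a'
  set H : GL (Fin 2) F := SpecialLinearGroup.toGL aS with hHdef
  have hH : pr F 2 H = a'.1 := by rw [← haS]; exact sl_val hG aS
  have hHdet : H.val.det = 1 := aS.2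
  refine ⟨H, hH, ?_⟩
  apply eig_of_comm_conj hi H K D hHdet hD had
  have h3 := hcc a' ha'
  have h4 : pr F 2 (C * H) = pr F 2 (H * C) := by
    rw [map_mul, map_mul, hC, hH]
    exact (congrArg Subtype.val h3).symm
  have hDeq : D = K⁻¹ * C * K := by
    rw [mul_assoc, hKD]; group
  have e1 : D * (K⁻¹ * H * K) = K⁻¹ * (C * H) * K := by rw [hDeq]; group
  have e2 : (K⁻¹ * H * K) * D = K⁻¹ * (H * C) * K := by rw [hDeq]; group
  rw [e1, e2, map_mul, map_mul, h4, ← map_mul, ← map_mul]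

end G2

end Cfsg.Agent.Helper64.NC
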