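import Mathlib
import Cfsg.Agent.Lib.Helper64.NilpCoverD

set_option autoImplicit false

/-!
# Nilpotent minimal covers of groups between `PSL_2` and `PGL_2`: conclusion (helper64)
-/

namespace Cfsg.Agent.Helper64.NC

open Matrix

section FieldFacts

variable {F : Type*} [Field F]

theorem exists_unit_ne_inv [Fintype F] (hcard : 4 ≤ Fintype.card F) : ∃ l : Fˣ, l ≠ l⁻¹ := by
  classical
  by_contra hcon
  push Not at hcon
  have h1 : ∀ l : Fˣ, l = 1 ∨ l = -1 := by
    intro l
    have h2 : l * l = 1 := by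
      nth_rewrite 2 [hcon l]
      simp
    have h3 : ((l : F) - 1) * ((l : F) + 1) = 0 := by
      have : (l : F) * (l : F) = 1 := by
        rw [← Units.val_mul, h2]; simp
      linear_combination this
    rcases mul_eq_zero.mp h3 with h | h
    · left
      apply Units.ext
      simpa using sub_eq_zero.mp h
    · right
      apply Units.ext
      simpa using eq_neg_of_add_eq_zero_left h
  have h2 : (Finset.univ : Finset Fˣ) ⊆ {1, -1} := by
    intro l _
    rcases h1 l with h | h
    · simp [h]
    · simp [h]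
  have h3 := Finset.card_le_card h2
  have h4 : ({1, -1} : Finset Fˣ).card ≤ 2 := Finset.card_le_two
  rw [Finset.card_univ, Fintype.card_units] at h3
  omega

theorem eq_one_of_pow_two_pow_of_two_eq_zero (h2 : (2 : F) = 0) :
    ∀ (j : ℕ) (x : F), x ^ (2 ^ j) = 1 → x = 1 := by
  have hsq : ∀ x : F, x ^ 2 = 1 → x = 1 := by
    intro x hx
    have : (x - 1) ^ 2 = 0 := by
      have : (x - 1) ^ 2 = x ^ 2 - 2 * x + 1 := by ring
      rw [this, hx, h2]
      have : (1 : F) + 1 = 2 := by norm_num
      rw [zero_mul, sub_zero, this, h2]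
    exact sub_eq_zero.mp ((pow_eq_zero_iff (two_ne_zero)).mp this)
  intro j
  induction j with
  | zero => intro x hx; simpa using hx
  | succ j ih =>
    intro x hx
    apply ih
    apply hsq
    rw [← pow_mul, ← pow_succ]
    exact hx

theorem exists_sq_eq_neg_one (l : Fˣ) (hll : l ≠ l⁻¹) (hl : ∃ j : ℕ, l ^ (2 ^ j) = 1) :
    ∃ i : F, i * i = -1 := by
  classical
  have hsq : l ^ 2 ≠ 1 := by
    intro h
    apply hll
    rw [eq_inv_iff_mul_eq_one, ← sq, h]
  have hmin : ∀ {m : ℕ}, m < Nat.find hl → ¬ l ^ (2 ^ m) = 1 := fun {m} hm => Nat.find_min hl hm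
  have hspec := Nat.find_spec hl
  generalize Nat.find hl = j at hmin hspec
  have hj2 : 2 ≤ j := by
    by_contra hlt
    push Not at hlt
    interval_cases j
    · apply hsq
      rw [pow_zero, pow_one] at hspec
      rw [hspec, one_pow]
    · apply hsq
      simpa using hspec
  obtain ⟨j', rfl⟩ : ∃ j', j = j' + 2 := ⟨j - 2, by omega⟩
  set y : Fˣ := l ^ (2 ^ (j' + 1)) with hy
  have hy1 : y ≠ 1 := hmin (by omega)
  have hy2 : y * y = 1 := by
    rw [hy, ← sq, ← pow_mul, ← pow_succ]
    exact hspec
  have hyF : (y : F) = -1 := by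
    have h3 : ((y : F) - 1) * ((y : F) + 1) = 0 := by
      have : (y : F) * (y : F) = 1 := by
        rw [← Units.val_mul, hy2]; simp
      linear_combination this
    rcases mul_eq_zero.mp h3 with h | h
    · exfalso
      apply hy1
      apply Units.ext
      simpa using sub_eq_zero.mp h
    · exact eq_neg_of_add_eq_zero_left h
  refine ⟨((l ^ (2 ^ j') : Fˣ) : F), ?_⟩
  rw [← Units.val_mul, ← sq, ← pow_mul, ← pow_succ]
  exact hyF

end FieldFacts

section Final

variable {F : Type*} [Field F] [Fintype F]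

/-- No group between `PSL_2(F)` and `PGL_2(F)`, `|F| ≥ 4`, has a nilpotent minimal cover. -/
theorem no_nilpotent_minCover_two (hcard : 4 ≤ Fintype.card F)
    (G : Subgroup (GL (Fin 2) F ⧸ Subgroup.center (GL (Fin 2) F)))
    (hG : ((SpecialLinearGroup.toGL : SpecialLinearGroup (Fin 2) F →* GL (Fin 2) F).range).map
      (pr F 2) ≤ G) (𝓐 : Finset (Subgroup ↥G)) (hmin : MinCover 𝓐)
    (hnil : ∀ A ∈ 𝓐, Group.IsNilpotent ↥A) : False := by
  by_cases hrange : (sl hG).range = ⊤
  · by_cases h2g : ∃ l : Fˣ, ∀ j : ℕ, l ^ (2 ^ j) ≠ 1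
    · obtain ⟨l, hl⟩ := h2g
      obtain ⟨A, hA, htA⟩ := hmin.cov (sl hG (dgS l))
      have := hnil A hA
      have hll : l ≠ l⁻¹ := by
        intro h
        apply hl 1
        rw [pow_one, sq]
        nth_rewrite 2 [h]
        simp
      exact no_cover_of_eig hG 𝓐 hmin hnil l hll A hA htA (eig_of_not_two_group hG l hl A htA)
    · push Not at h2g
      obtain ⟨l, hll⟩ := exists_unit_ne_inv hcard
      have h2 : (2 : F) ≠ 0 := by
        intro h2
        obtain ⟨j, hj⟩ := h2g l
        have h1 : (l : F) = 1 := by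
          apply eq_one_of_pow_two_pow_of_two_eq_zero h2 j
          rw [← Units.val_pow_eq_pow_val, hj]; simp
        apply hll
        have : l = 1 := Units.ext (by simpa using h1)
        rw [this]; simp
      obtain ⟨i, hi⟩ := exists_sq_eq_neg_one l hll (h2g l)
      obtain ⟨A, hA, htA⟩ := hmin.cov (sl hG (dgS l))
      have := hnil A hA
      exact no_cover_of_eig hG 𝓐 hmin hnil l hll A hA htA
        (eig_of_neg_one_sq hG hrange hi h2 l hll A htA)
  · exact no_cover_of_range_ne_top hG hrange 𝓐 hmin hnil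

end Final

end Cfsg.Agent.Helper64.NC
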