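import Mathlib
import Cfsg.Agent.Lib.Helper17.Simple
import Cfsg.Agent.Lib.Helper17.PrimeTI
import Cfsg.Agent.Lib.Helper17.PrimeTIApp
import Cfsg.Agent.Lib.Helper17.PrimeTIOrders
import Cfsg.Agent.Lib.Helper79.Orthogonality
import Cfsg.Agent.Lib.Helper79.Codegree
import Cfsg.Agent.Lib.Helper74.DefectZero

/-!
# O175560 (N58520), character part: a simple group of order 58520 = 2^3 * 5 * 7 * 11 * 19 with a
self-centralizing Sylow 19-subgroup with dihedral normalizer of order 38 has no element of order 22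

The degree equation (`p = 19`, `e = 2`, `t = 9`) gives `9 * Σ a² + w² = 19`, so exactly one nontrivial
non-exceptional `ψ0` with `a = ± 1`, and `1 + a x + d w = 0` forces `x = 56`, `d = 55`.  `56 = 8 * 7` has
`2`-defect zero and `55 = 5 * 11` has `11`-defect zero, so `ψ0` and the nine exceptional characters vanish
at an element `g` with `2 ∣ |g|`, `11 ∣ |g|`; all other nontrivial characters vanish on `P ∖ 1`.  Column
orthogonality between `g` and `k ∈ P ∖ 1` reads `1 = 0`.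
-/

set_option autoImplicit false

universe u

namespace Cfsg.Agent.Helper64.O175560

open Cfsg Cfsg.Agent.Helper17.PrimeTI
open scoped ComplexConjugate

set_option maxRecDepth 100000 in
theorem arith58520_aux : ∀ x ∈ Nat.divisors 58520,
    (x % 19 = 1 → x = 1 ∨ ¬ (x + 1 ∣ 58520)) ∧ (x % 19 = 18 → x - 1 ∣ 58520 → x = 56) := by
  decide +kernel

theorem pow_fact_dvd (n p k m : ℕ) (hk : ¬ p ^ (k + 1) ∣ n) (hm : p ^ k ∣ m) :
    p ^ n.factorization p ∣ m := by
  have h1 : p ^ n.factorization p ∣ n := Nat.ordProj_dvd n p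
  have hle : n.factorization p ≤ k := by
    by_contra h
    have h' : k + 1 ≤ n.factorization p := Nat.lt_of_not_le h
    exact hk ((pow_dvd_pow p h').trans h1)
  exact (pow_dvd_pow p hle).trans hm

set_option maxHeartbeats 1000000 in
theorem false_of_order22 {G : Type u} [Group G] [Finite G] [IsSimpleGroup G]
    (hG : Nat.card G = 58520) (P : Subgroup G) (hP : Nat.card P = 19)
    (hC : Subgroup.centralizer (P : Set G) = P)
    (hN : Nat.card (Subgroup.normalizer (P : Set G)) = 19 * 2)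
    (g : G) (h2 : 2 ∣ orderOf g) (h11 : 11 ∣ orderOf g) : False := by
  classical
  have : Fact (Nat.Prime 19) := ⟨by norm_num⟩
  have := Fintype.ofFinite G
  have hperf : commutator G = ⊤ := perfect_of_simple (by rw [hG]; norm_num)
  obtain ⟨w, d, E, a, hEcard, hEdeg, hEne, haE, haK, hcong, hnorm, hdegeq⟩ :=
    prime_degree_equation P 19 2 9 hP hC hN (by norm_num) (by norm_num) (by norm_num)
  set ψ1 : IrrCharacter G := ⟨fun _ => 1, Cfsg.Agent.Helper81.isIrrCharacter_one⟩ with hψ1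
  have hψ1E : ψ1 ∉ E := fun h => hEne ψ1 h rfl
  obtain ⟨k, hk, hk1⟩ := exists_ne_one_of_prime_card P hP
  have ha1 : a ψ1 = 1 := by
    have h := haK ψ1 hψ1E k hk hk1
    have h' : ((1 : ℤ) : ℂ) = ((a ψ1 : ℤ) : ℂ) := by
      rw [← h]; simp [hψ1]
    exact_mod_cast h'.symm
  have hdeg1 : charDegree (ψ1 : G → ℂ) = 1 := charDegree_one
  have hd : d ∣ Nat.card G := by
    obtain ⟨ψ, hψ⟩ := Finset.card_pos.1 (by omega : 0 < E.card)
    rw [← hEdeg ψ hψ]
    exact Cfsg.Agent.Helper79.irr_degree_dvd_card ψ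
  have hd0 : 0 < d := Nat.pos_of_dvd_of_pos hd Nat.card_pos
  have hsplit1 := Finset.add_sum_erase Finset.univ (fun ψ => (a ψ) ^ 2) (Finset.mem_univ ψ1)
  have hsplit2 := Finset.add_sum_erase Finset.univ
    (fun ψ => a ψ * (charDegree (ψ : G → ℂ) : ℤ)) (Finset.mem_univ ψ1)
  simp only [ha1, hdeg1] at hsplit1 hsplit2
  rw [← hsplit1] at hnorm
  rw [← hsplit2] at hdegeq
  push_cast at hnorm hdegeq
  have hrest : 0 ≤ ∑ ψ ∈ Finset.univ.erase ψ1, (a ψ) ^ 2 :=
    Finset.sum_nonneg (fun i _ => sq_nonneg _)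
  have hS : ∑ ψ ∈ Finset.univ.erase ψ1, (a ψ) ^ 2 ≤ 1 := by nlinarith [sq_nonneg w]
  have hbound : ∀ ψ ∈ Finset.univ.erase ψ1, (a ψ) ^ 2 ≤ 1 := fun ψ hψ =>
    le_trans (Finset.single_le_sum (f := fun ψ => (a ψ) ^ 2) (fun i _ => sq_nonneg _) hψ) hS
  set T : Finset (IrrCharacter G) := (Finset.univ.erase ψ1).filter (fun ψ => a ψ ≠ 0) with hT
  have hsq : ∀ ψ ∈ T, (a ψ) ^ 2 = 1 := by
    intro ψ hψ
    obtain ⟨hψe, hane⟩ := Finset.mem_filter.1 hψ
    have hb := hbound ψ hψe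
    have h0 : 0 < (a ψ) ^ 2 := by positivity
    omega
  have hR1 : ∑ ψ ∈ Finset.univ.erase ψ1, (a ψ) ^ 2 = (T.card : ℤ) := by
    rw [← Finset.sum_filter_of_ne (p := fun ψ => a ψ ≠ 0)
      (fun ψ _ h h0 => h (by rw [h0]; norm_num))]
    rw [Finset.sum_congr rfl (fun ψ hψ => hsq ψ hψ)]
    simp
  rw [hR1] at hnorm
  have hcard1 : T.card = 1 := by
    have hc1 : (T.card : ℤ) ≤ 1 := by rw [← hR1]; exact hS
    have hc1' : T.card ≤ 1 := by exact_mod_cast hc1
    interval_cases hc : T.card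
    · exfalso
      have hw : w ^ 2 = 10 := by push_cast at hnorm; linarith
      have hw4 : w ≤ 4 := by nlinarith
      have hw4' : -4 ≤ w := by nlinarith
      interval_cases w <;> omega
    · rfl
  rw [hcard1] at hnorm
  have hw2 : w ^ 2 = 1 := by push_cast at hnorm; linarith
  obtain ⟨ψ0, hT0⟩ := Finset.card_eq_one.1 hcard1
  have hψ0T : ψ0 ∈ T := by rw [hT0]; exact Finset.mem_singleton_self _
  obtain ⟨hψ0e, hane0⟩ := Finset.mem_filter.1 hψ0T
  have hne01 : ψ0 ≠ ψ1 := (Finset.mem_erase.1 hψ0e).1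
  have hψ0E : ψ0 ∉ E := fun h => hane0 (haE ψ0 h)
  have hzero : ∀ ψ, ψ ≠ ψ1 → ψ ≠ ψ0 → a ψ = 0 := by
    intro ψ h1 h0
    by_contra hne
    have : ψ ∈ T := Finset.mem_filter.2 ⟨Finset.mem_erase.2 ⟨h1, Finset.mem_univ _⟩, hne⟩
    rw [hT0, Finset.mem_singleton] at this
    exact h0 this
  have hR2 : ∑ ψ ∈ Finset.univ.erase ψ1, a ψ * (charDegree (ψ : G → ℂ) : ℤ) =
      a ψ0 * (charDegree (ψ0 : G → ℂ) : ℤ) := by
    rw [← Finset.sum_filter_of_ne (p := fun ψ => a ψ ≠ 0)
      (fun ψ _ h h0 => h (by rw [h0]; ring))]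
    change ∑ ψ ∈ T, _ = _
    rw [hT0, Finset.sum_singleton]
  rw [hR2] at hdegeq
  -- the degree of ψ0
  have hdv := Cfsg.Agent.Helper79.irr_degree_dvd_card ψ0
  rw [hG] at hdv hd
  have hcg := hcong ψ0 hψ0E
  obtain ⟨hx1, hx2⟩ := arith58520_aux (charDegree (ψ0 : G → ℂ))
    (Nat.mem_divisors.2 ⟨hdv, by norm_num⟩)
  have hxpos : 0 < charDegree (ψ0 : G → ℂ) := Nat.pos_of_dvd_of_pos hdv (by norm_num)
  have ha0 : a ψ0 = 1 ∨ a ψ0 = -1 := by
    have := hsq ψ0 hψ0T
    have h1 : (a ψ0 - 1) * (a ψ0 + 1) = 0 := by ring_nf; ring_nf at this; omega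
    rcases mul_eq_zero.1 h1 with h | h
    · left; omega
    · right; omega
  have hw1 : w = 1 ∨ w = -1 := by
    have h1 : (w - 1) * (w + 1) = 0 := by ring_nf; ring_nf at hw2; omega
    rcases mul_eq_zero.1 h1 with h | h
    · left; omega
    · right; omega
  have hkey : charDegree (ψ0 : G → ℂ) = 56 ∧ d = 55 := by
    rcases ha0 with ha | ha <;> rcases hw1 with hw | hw <;> rw [ha, hw] at hdegeq <;>
      rw [ha] at hcg
    · exfalso; push_cast at hdegeq; omega
    · exfalso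
      have hm : charDegree (ψ0 : G → ℂ) % 19 = 1 := by omega
      have hdx : d = charDegree (ψ0 : G → ℂ) + 1 := by omega
      rcases hx1 hm with hx | hx
      · apply hne01
        apply Subtype.ext
        exact linear_trivial_of_perfect hperf ψ0 hx
      · apply hx; rw [← hdx]; exact hd
    · have hm : charDegree (ψ0 : G → ℂ) % 19 = 18 := by omega
      have hdx : d = charDegree (ψ0 : G → ℂ) - 1 := by omega
      have := hx2 hm (by rw [← hdx]; exact hd)
      exact ⟨this, by omega⟩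
    · exfalso; omega
  obtain ⟨hx56, hd55⟩ := hkey
  -- defect zero
  have hv0 : (ψ0 : G → ℂ) g = 0 := by
    apply Cfsg.Agent.Helper74.DZ.irr_vanish_of_defect_zero ψ0 2 (by norm_num) _ g h2
    rw [hx56, hG]
    exact pow_fact_dvd 58520 2 3 56 (by norm_num) (by norm_num)
  have hvE : ∀ ψ ∈ E, (ψ : G → ℂ) g = 0 := by
    intro ψ hψ
    apply Cfsg.Agent.Helper74.DZ.irr_vanish_of_defect_zero ψ 11 (by norm_num) _ g h11
    rw [hEdeg ψ hψ, hd55, hG]
    exact pow_fact_dvd 58520 11 1 55 (by norm_num) (by norm_num)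
  -- column orthogonality
  have hnc : ¬ IsConj g k := by
    intro hc
    obtain ⟨c, hc⟩ := isConj_iff.1 hc
    have ho : orderOf k = orderOf g := by
      rw [← hc]
      exact (MulAut.conj c).orderOf_eq g
    have hk19 : orderOf k ∣ 19 := by
      have := Subgroup.orderOf_dvd_natCard P hk
      rwa [hP] at this
    rw [ho] at hk19
    have := h2.trans hk19
    omega
  have hcol := Cfsg.Agent.Helper79.col_orth_of_not_isConj g k hnc
  have hall : ∀ ψ ∈ Finset.univ.erase ψ1,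
      (ψ : G → ℂ) g * conj ((ψ : G → ℂ) k) = 0 := by
    intro ψ hψ
    have hne1 : ψ ≠ ψ1 := (Finset.mem_erase.1 hψ).1
    by_cases hE : ψ ∈ E
    · rw [hvE ψ hE, zero_mul]
    · by_cases h0 : ψ = ψ0
      · rw [h0, hv0, zero_mul]
      · rw [haK ψ hE k hk hk1, hzero ψ hne1 h0]
        simp
  rw [← Finset.add_sum_erase Finset.univ _ (Finset.mem_univ ψ1), Finset.sum_eq_zero hall] at hcol
  simp [hψ1] at hcol

end Cfsg.Agent.Helper64.O175560
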