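import Mathlib
import Cfsg.Agent.Lib.Helper87.SVKit
import Cfsg.Agent.Lib.Helper17.SylowLink
import Cfsg.Agent.Lib.Helper17.SelfCent
import Cfsg.Agent.Lib.Helper64.O175560Char

/-!
# O175560 server (helper24, S4274): (N58520) no simple group of order 58520 = 2^3 * 5 * 7 * 11 * 19

`n_19 ∈ {77, 1540}`.  `n_19 = 77`: `|C(P19)| * e = 760`, `e ∣ 18` so `5 ∣ |C(P19)|` and by the link
`19 ∣ |G| / n_5`, impossible for every admissible `n_5`.  `n_19 = 1540`: `|N(P19)| = 38`,
`C(P19) = P19`.  `n_11 = 56` dies (`19 ∣ |C(P11)|`, `11 ∤ 38`), so `n_11 = 133`, `|C(P11)| * e = 440`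
with `e ∣ 10`: `C(P11)` contains an involution, so `G` has an element of order `22`; the character
part (`O175560Char.false_of_order22`) finishes.
-/

set_option autoImplicit false

namespace Cfsg.Agent.Helper64.O175560

open Nat MulAction Cfsg.Agent.Helper17 Cfsg.Agent.Helper17.Sieve Cfsg.Agent.Helper75.FixKill
  Cfsg.Agent.Helper87.SV

universe u

set_option maxRecDepth 100000 in
theorem adm19_58520 : ∀ d ∈ List.range (3080 + 1), d ∣ 3080 → d % 19 = 1 →
    ¬ Bad (19 ^ 1 * 3080) 19 1 3080 d → d = 77 ∨ d = 1540 := by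
  decide +kernel

set_option maxRecDepth 100000 in
theorem adm11_58520 : ∀ d ∈ List.range (5320 + 1), d ∣ 5320 → d % 11 = 1 →
    ¬ Bad (11 ^ 1 * 5320) 11 1 5320 d → d = 56 ∨ d = 133 := by
  decide +kernel

set_option maxRecDepth 100000 in
theorem adm5_58520 : ∀ d ∈ List.range (11704 + 1), d ∣ 11704 → d % 5 = 1 →
    ¬ Bad (5 ^ 1 * 11704) 5 1 11704 d → ¬ 19 ∣ 58520 / d := by
  decide +kernel

set_option maxHeartbeats 1000000 in
theorem no_58520 {G : Type u} [Group G] [Finite G] [IsSimpleGroup G] : Nat.card G ≠ 58520 := by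
  intro hn0
  by_cases hna : IsMulCommutative G
  · have hp : (Nat.card G).Prime := by
      let _ : CommGroup G := { ‹Group G› with mul_comm := hna.is_comm.comm }
      exact IsSimpleGroup.prime_card
    rw [hn0] at hp
    norm_num at hp
  have h19 : Fact (Nat.Prime 19) := ⟨by norm_num⟩
  have h11 : Fact (Nat.Prime 11) := ⟨by norm_num⟩
  have h5 : Fact (Nat.Prime 5) := ⟨by norm_num⟩
  have h2 : Fact (Nat.Prime 2) := ⟨by norm_num⟩
  have hn19 : Nat.card G = 19 ^ 1 * 3080 := by rw [hn0]; norm_num
  have hn11 : Nat.card G = 11 ^ 1 * 5320 := by rw [hn0]; norm_num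
  have hn5 : Nat.card G = 5 ^ 1 * 11704 := by rw [hn0]; norm_num
  obtain ⟨hP19, hr19, hd19, hm19, hb19, -, he19⟩ :=
    h87_data hna 19 3080 (by norm_num) hn19 (by norm_num)
  obtain ⟨hP11, hr11, hd11, hm11, hb11, -, he11⟩ :=
    h87_data hna 11 5320 (by norm_num) hn11 (by norm_num)
  obtain ⟨hP5, hr5, hd5, hm5, hb5, -, he5⟩ :=
    h87_data hna 5 11704 (by norm_num) hn5 (by norm_num)
  obtain ⟨P19⟩ : Nonempty (Sylow 19 G) := inferInstance
  obtain ⟨P11⟩ : Nonempty (Sylow 11 G) := inferInstance
  obtain ⟨e19, he19a, he19b, he19c⟩ := he19 P19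
  have he19le : e19 ≤ 18 := Nat.le_of_dvd (by norm_num) he19a
  rcases adm19_58520 _ hr19 hd19 hm19 hb19 with h77 | h1540
  · -- `n_19 = 77`
    rw [h77] at he19c
    have h5c : 5 ∣ Nat.card (Subgroup.centralizer ((P19 : Subgroup G) : Set G)) := by
      generalize Nat.card (Subgroup.centralizer ((P19 : Subgroup G) : Set G)) = c at he19c
      interval_cases e19 <;> omega
    have hlink := h87_link hP19 hP5 P19 h5c
    rw [hn0] at hlink
    exact adm5_58520 _ hr5 hd5 hm5 hb5 hlink
  · -- `n_19 = 1540`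
    obtain ⟨e11, he11a, he11b, he11c⟩ := he11 P11
    have he11le : e11 ≤ 10 := Nat.le_of_dvd (by norm_num) he11a
    have h2c : 2 ∣ Nat.card (Subgroup.centralizer ((P11 : Subgroup G) : Set G)) := by
      rcases adm11_58520 _ hr11 hd11 hm11 hb11 with h56 | h133
      · exfalso
        rw [h56] at he11c
        have h19c : 19 ∣ Nat.card (Subgroup.centralizer ((P11 : Subgroup G) : Set G)) := by
          generalize Nat.card (Subgroup.centralizer ((P11 : Subgroup G) : Set G)) = c at he11c
          interval_cases e11 <;> omega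
        have hlink := h87_link hP11 hP19 P11 h19c
        rw [hn0, h1540] at hlink
        norm_num at hlink
      · rw [h133] at he11c
        generalize Nat.card (Subgroup.centralizer ((P11 : Subgroup G) : Set G)) = c at he11c
        interval_cases e11 <;> omega
    obtain ⟨u', hu'⟩ := exists_prime_orderOf_dvd_card'
      (G := ↥(Subgroup.centralizer ((P11 : Subgroup G) : Set G))) 2 h2c
    obtain ⟨x', hx'⟩ := exists_prime_orderOf_dvd_card' (G := ↥(P11 : Subgroup G)) 11
      (by rw [hP11 P11])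
    have huo : orderOf (u' : G) = 2 := by rw [Subgroup.orderOf_coe, hu']
    have hxo : orderOf (x' : G) = 11 := by rw [Subgroup.orderOf_coe, hx']
    have hcomm : Commute (u' : G) (x' : G) :=
      ((Subgroup.mem_centralizer_iff.1 u'.2) (x' : G) x'.2).symm
    have hord : orderOf ((u' : G) * (x' : G)) = 2 * 11 := by
      have := hcomm.orderOf_mul_eq_mul_orderOf_of_coprime (by rw [huo, hxo]; norm_num)
      rw [this, huo, hxo]
    have hN : Nat.card (Subgroup.normalizer ((P19 : Subgroup G) : Set G)) = 19 * 2 := by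
      rw [h87_card_normalizer P19, hn0, h1540]
    have hC := centralizer_eq_of_card_normalizer P19 (hP19 P19) (by rw [hn0]; norm_num)
      (by norm_num : Nat.Prime 2) hN
    exact false_of_order22 hn0 (P19 : Subgroup G) (hP19 P19) hC hN ((u' : G) * (x' : G))
      (by rw [hord]; norm_num) (by rw [hord]; norm_num)

end Cfsg.Agent.Helper64.O175560
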