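import Mathlib
import Cfsg.Agent.Lib.Helper87.SVKit
import Cfsg.Agent.Lib.Helper75.FixKill

/-!
# S1022 (order 459648 = 2^7 * 3^3 * 7 * 19), piece (A): `n_19 = 96` is impossible

`|N(P19)| = 4788`, `|C(P19)| * e = 4788` with `e ∣ 18`, so `7 ∣ |C(P19)|`; an element of order `7` in
`C(P19)` fixes `f` Sylow 19-subgroups with `f ≡ 1 (mod 19)`, `f ≡ 96 ≡ 5 (mod 7)`, `f < 96`: impossible.
-/

set_option autoImplicit false

namespace Cfsg.Agent.Helper64.O459648

open Nat MulAction Cfsg.Agent.Helper17 Cfsg.Agent.Helper17.Sieve Cfsg.Agent.Helper75.FixKill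
  Cfsg.Agent.Helper87.SV

universe u

theorem false_of_ninetysix {G : Type u} [Group G] [Finite G] [IsSimpleGroup G]
    (hG : Nat.card G = 459648) (h96 : Nat.card (Sylow 19 G) = 96) : False := by
  by_cases hna : IsMulCommutative G
  · have hp : (Nat.card G).Prime := by
      let _ : CommGroup G := { ‹Group G› with mul_comm := hna.is_comm.comm }
      exact IsSimpleGroup.prime_card
    rw [hG] at hp
    norm_num at hp
  have h19 : Fact (Nat.Prime 19) := ⟨by norm_num⟩
  have h7 : Fact (Nat.Prime 7) := ⟨by norm_num⟩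
  have hn19 : Nat.card G = 19 ^ 1 * 24192 := by rw [hG]; norm_num
  obtain ⟨hP19, -, -, -, -, hone, he19⟩ :=
    h87_data hna 19 24192 (by norm_num) hn19 (by norm_num)
  obtain ⟨P⟩ : Nonempty (Sylow 19 G) := inferInstance
  obtain ⟨e, hea, heb, hec⟩ := he19 P
  rw [h96] at hec
  have hele : e ≤ 18 := Nat.le_of_dvd (by norm_num) hea
  have h7c : 7 ∣ Nat.card (Subgroup.centralizer ((P : Subgroup G) : Set G)) := by
    generalize Nat.card (Subgroup.centralizer ((P : Subgroup G) : Set G)) = c at hec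
    interval_cases e <;> omega
  obtain ⟨f, m', -, hf1, hf2, -, hf3, -⟩ :=
    exists_fix (G := G) (by rw [hG]; norm_num) (p := 19) (r := 7) (by norm_num) P (hP19 P)
      hone h7c
  rw [h96] at hf2 hf3
  omega

end Cfsg.Agent.Helper64.O459648
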