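import Cfsg.Agent.Lib.Helper64.S4017Defs
import Cfsg.Agent.Lib.Helper3.S4017DDefs
import Cfsg.Agent.Lib.Helper17.S4017Defs
import Cfsg.Agent.Lib.Helper22.S4017S1
import Cfsg.Agent.Lib.Helper22.S4017SIMP
import Cfsg.Agent.Lib.Helper22.S4017N2
import Cfsg.Agent.Lib.Helper57.S4017HGEN
import Cfsg.Agent.Lib.Helper19.S4017HLEM
import Cfsg.Agent.Lib.Helper17.S4017CT
import Cfsg.Agent.Lib.Helper56.S4017CT1
import Cfsg.Agent.Lib.Helper60.S4017M3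
import Cfsg.Agent.Lib.Helper60.S4017PGN
import Cfsg.Agent.Lib.Helper60.S4017P1C
import Cfsg.Agent.Lib.Helper41.S4017E1
import Cfsg.Agent.Lib.Helper41.S4017DIH1
import Cfsg.Agent.Lib.Helper41.S4017DIH2
import Cfsg.Agent.Lib.Helper17.S4017E23
import Cfsg.Agent.Lib.Helper19.S4017SYLC
import Cfsg.Agent.Lib.Helper33.S4017B1a
import Cfsg.Agent.Lib.Helper33.S4017B1b
import Cfsg.Agent.Lib.Helper33.S4017B1c
import Cfsg.Agent.Lib.Helper33.S4017B1d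
import Cfsg.Agent.Lib.Helper86.S4017A0
import Cfsg.Agent.Lib.Helper86.S4017A1
import Cfsg.Agent.Lib.Helper86.S4017A2
import Cfsg.Agent.Lib.Helper86.S4017A3
import Cfsg.Agent.Lib.Helper47.S4017A4
import Cfsg.Agent.Lib.Helper47.S4017A5Core
import Cfsg.Agent.Lib.Helper12.S4017A6
import Cfsg.Agent.Lib.Helper90.S4017A7
import Cfsg.Agent.Lib.Helper90.S4017C1
import Cfsg.Agent.Lib.Helper30.S4017C2
import Cfsg.Agent.Lib.Helper19.S4017C3
import Cfsg.Agent.Lib.Helper34.S4017BR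
import Cfsg.Agent.Lib.Helper34.S4017INVC
import Cfsg.Agent.Lib.Helper34.S4017CQ
import Cfsg.Agent.Lib.Helper63.S4017D1
import Cfsg.Agent.Lib.Helper63.S4017D2
import Cfsg.Agent.Lib.Helper62.S4017D3
import Cfsg.Agent.Lib.Helper69.S4017D4a
import Cfsg.Agent.Lib.Helper38.S4017D4b
import Cfsg.Agent.Lib.Helper38.S4017D5

set_option autoImplicit false

/-! # S4017M glue: the pieces of the server, restated verbatim in one namespace. -/

namespace Cfsg.Agent.Helper64.S4017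

variable {G : Type*} [Group G] [Finite G] {a p : ℕ} {Q : Subgroup G} {x : G}

theorem Setting.conj (h : Setting a p Q x) (g : G) :
    Setting a p (Q.map (MulAut.conj g).toMonoidHom) (g * x * g⁻¹) :=
  Cfsg.Agent.Helper22.S4017M.conj h g

theorem Setting.exists_setting (h : Setting a p Q x) {u : G} (hu : IsInv u) :
    ∃ (Q' : Subgroup G) (x' : G), Setting a p Q' x' ∧ u ∈ Q' :=
  Cfsg.Agent.Helper22.S4017M.exists_setting h hu

theorem Setting.exists_conj_eq {Q' : Subgroup G} {x' : G} (h : Setting a p Q x)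
    (h' : Setting a p Q' x') : ∃ g : G, Q' = Q.map (MulAut.conj g).toMonoidHom :=
  Cfsg.Agent.Helper22.S4017M.exists_conj_eq h h'

theorem Setting.centralizer_ne_top (h : Setting a p Q x) {c : G} (hc : c ≠ 1) :
    Subgroup.centralizer {c} ≠ ⊤ :=
  Cfsg.Agent.Helper22.S4017M.centralizer_ne_top h hc

theorem Setting.normalizer_ne_top (h : Setting a p Q x) (E : Subgroup G) (hE : E ≠ ⊥)
    (hE' : E ≠ ⊤) : Subgroup.normalizer (E : Set G) ≠ ⊤ :=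
  Cfsg.Agent.Helper22.S4017M.normalizer_ne_top h E hE hE'

theorem Setting.n2 (h : Setting a p Q x) (g : G) (hg : ∀ s ∈ Q, g * s * g⁻¹ ∈ Q)
    (hg2 : ∃ j : ℕ, orderOf g = 2 ^ j) : g ∈ Q :=
  Cfsg.Agent.Helper22.S4017M.n2 h g hg hg2

theorem normal_of_transitive {H : Type*} [Group H] [Finite H] (hsolv : Group.IsSolvable H)
    {a p : ℕ} (hp : p.Prime) (hp2 : p ≠ 2) (ha : 2 ≤ a)
    (Q : Subgroup H) (hcard : Nat.card Q = 2 ^ a) (hsyl : ¬ 2 ^ (a + 1) ∣ Nat.card H)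
    (hord : ∀ r : ℕ, r.Prime → r ∣ Nat.card H → r = 2 ∨ r = p)
    (habel : ∀ P : Sylow p H, ∀ g ∈ P, ∀ h ∈ P, g * h = h * g)
    (x : H) (hx : ∀ s ∈ Q, x * s * x⁻¹ ∈ Q) (hxp : IsPel p x)
    (htrans : ∀ t ∈ Q, t ≠ 1 → ∀ s ∈ Q, s ≠ 1 → ∃ i : ℕ, x ^ i * t * (x ^ i)⁻¹ = s) :
    Q.Normal :=
  Cfsg.Agent.Helper57.S4017M.normal_of_transitive hsolv hp hp2 ha Q hcard hsyl hord habel x hx hxp htrans

theorem Setting.lemmaH (h : Setting a p Q x) (H : Subgroup G) (hH : H ≠ ⊤) (hQ : Q ≤ H)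
    (hx : x ∈ H) : ∀ g ∈ H, ∀ s ∈ Q, g * s * g⁻¹ ∈ Q :=
  Cfsg.Agent.Helper19.S4017M.lemmaH h H hH hQ hx

theorem Setting.m2 (h : Setting a p Q x) {t : G} (ht : t ∈ Q) (ht1 : t ≠ 1) {g : G}
    (hg : ∀ s ∈ Q, g * s * g⁻¹ ∈ Q) (hgt : g * t = t * g) : ∀ s ∈ Q, g * s = s * g :=
  Cfsg.Agent.Helper17.S4017M.m2 h ht ht1 hg hgt

theorem Setting.ct (h : Setting a p Q x) {t : G} (ht : t ∈ Q) (ht1 : t ≠ 1) :
    ∃ Z : Subgroup G, (∀ z, z ∈ Z ↔ (z * t = t * z ∧ IsPel p z)) ∧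
      ∀ z ∈ Z, ∀ z' ∈ Z, z * z' = z' * z :=
  Cfsg.Agent.Helper17.S4017M.ct h ht ht1

theorem Setting.ct1 (h : Setting a p Q x) {t : G} (ht : t ∈ Q) (ht1 : t ≠ 1) (Z : Subgroup G)
    (hZ : ∀ z, z ∈ Z ↔ (z * t = t * z ∧ IsPel p z)) {g : G} (hg : g * t = t * g) :
    ∃ z s : G, IsPel p z ∧ z * t = t * z ∧ s ∈ Q ∧ g = z * s :=
  Cfsg.Agent.Helper56.S4017M.Setting.ct1 h ht ht1 Z hZ hg

theorem Setting.m3 (h : Setting a p Q x)
    (hct : ∀ t ∈ Q, t ≠ 1 → ∃ Z : Subgroup G, (∀ z, z ∈ Z ↔ (z * t = t * z ∧ IsPel p z)) ∧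
      ∀ z ∈ Z, ∀ z' ∈ Z, z * z' = z' * z)
    {c : G} (hc : IsPel p c) (hcQ : ∀ s ∈ Q, c * s = s * c) : c * x = x * c :=
  Cfsg.Agent.Helper60.S4017M.Setting.m3 h hct hc hcQ

theorem Setting.pgroup_normalized (h : Setting a p Q x) (T : Tools a p Q x) (E : Subgroup G)
    (hE : ∀ e ∈ E, IsPel p e) (hQ : ∀ s ∈ Q, ∀ e ∈ E, s * e * s⁻¹ ∈ E)
    (hx : ∀ e ∈ E, x * e * x⁻¹ ∈ E) : ∀ e ∈ E, ∀ s ∈ Q, e * s = s * e :=
  Cfsg.Agent.Helper60.S4017M.Setting.pgroup_normalized h T E hE hQ hx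

theorem Setting.p1ne_of_p1ne {Q' : Subgroup G} {x' : G} (h : Setting a p Q x)
    (h' : Setting a p Q' x') (hP1 : P1ne p Q) : P1ne p Q' :=
  Cfsg.Agent.Helper60.S4017M.Setting.p1ne_of_p1ne h h' hP1

theorem Setting.exists_invs_not_comm (h : Setting a p Q x) :
    ∃ u v : G, IsInv u ∧ IsInv v ∧ u * v ≠ v * u :=
  Cfsg.Agent.Helper41.S4017M.exists_invs_not_comm h

theorem Setting.prime_dvd_orderOf_mul (h : Setting a p Q x) {u v : G} (hu : IsInv u) (hv : IsInv v)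
    {r : ℕ} (hr : r.Prime) (hdvd : r ∣ orderOf (u * v)) : r = 2 ∨ r = p :=
  Cfsg.Agent.Helper41.S4017M.prime_dvd_orderOf_mul h hu hv hr hdvd

theorem exists_central_inv {u v : G} (hu : IsInv u) (hv : IsInv v) (heven : 2 ∣ orderOf (u * v)) :
    ∃ z : G, IsInv z ∧ z * u = u * z ∧ z * v = v * z :=
  Cfsg.Agent.Helper41.S4017M.exists_central_inv hu hv heven

theorem Setting.isPel_mul_of_not_comm (h : Setting a p Q x)
    (h2c : ∀ (Q' : Subgroup G) (x' : G), Setting a p Q' x' →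
      ∀ t ∈ Q', t ≠ 1 → ∀ u : G, IsInv u → u * t = t * u → u ∈ Q')
    {u v : G} (hu : IsInv u) (hv : IsInv v) (huv : u * v ≠ v * u) : IsPel p (u * v) :=
  Cfsg.Agent.Helper17.S4017M.isPel_mul_of_not_comm h h2c hu hv huv

theorem Setting.centralizer_eq_sylow (h : Setting a p Q x) {u y : G} (hu : IsInv u)
    (hy : IsPel p y) (hy1 : y ≠ 1) (huy : u * y * u⁻¹ = y⁻¹)
    (hodd : ∀ s : G, IsInv s → s * y ≠ y * s) :
    ∃ P : Sylow p G, (P : Subgroup G) = Subgroup.centralizer {y} :=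
  Cfsg.Agent.Helper19.S4017M.centralizer_eq_sylow h hu hy hy1 huy hodd

theorem Setting.comm_of_p1ne (h : Setting a p Q x) (T : Tools a p Q x) (hP1 : P1ne p Q) {t : G}
    (ht : t ∈ Q) (ht1 : t ≠ 1) {z : G} (hz : IsPel p z) (hzt : z * t = t * z) :
    ∀ s ∈ Q, z * s = s * z :=
  Cfsg.Agent.Helper33.S4017M.comm_of_p1ne h T hP1 ht ht1 hz hzt

theorem Setting.twoClosed_of_p1ne (h : Setting a p Q x) (T : Tools a p Q x) (hP1 : P1ne p Q) {t : G}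
    (ht : t ∈ Q) (ht1 : t ≠ 1) {u : G} (hu : IsInv u) (hut : u * t = t * u) : u ∈ Q :=
  Cfsg.Agent.Helper33.S4017M.twoClosed_of_p1ne h T hP1 ht ht1 hu hut

theorem Setting.B1_claim1 (hall : ∀ (Q' : Subgroup G) (x' : G), Setting a p Q' x' → Tools a p Q' x')
    (h : Setting a p Q x) (hP1 : P1ne p Q) {u y s : G} (hu : IsInv u) (hy : IsPel p y)
    (hy1 : y ≠ 1) (huy : u * y * u⁻¹ = y⁻¹) (hs : IsInv s) (hsy : s * y = y * s) : False :=
  Cfsg.Agent.Helper33.S4017M.B1_claim1 hall h hP1 hu hy hy1 huy hs hsy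

theorem Setting.B1_inverts (hall : ∀ (Q' : Subgroup G) (x' : G), Setting a p Q' x' → Tools a p Q' x')
    (h : Setting a p Q x) (hP1 : P1ne p Q) {u y : G} (hu : IsInv u) (hy : IsPel p y) (hy1 : y ≠ 1)
    (huy : u * y * u⁻¹ = y⁻¹) (P : Sylow p G) (hP : (P : Subgroup G) = Subgroup.centralizer {y}) :
    ∀ z ∈ P, u * z * u⁻¹ = z⁻¹ :=
  Cfsg.Agent.Helper33.S4017M.B1_inverts hall h hP1 hu hy hy1 huy P hP

theorem Setting.hA_global (h : Setting a p Q x)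
    (hloc : ∀ t ∈ Q, t ≠ 1 → ∀ z : G, IsPel p z → z * t = t * z → z = 1) :
    ∀ u z : G, IsInv u → IsPel p z → z * u = u * z → z = 1 :=
  Cfsg.Agent.Helper86.S4017M.hA_global h hloc

theorem Setting.A_centralizer (h : Setting a p Q x) (T : Tools a p Q x)
    (hA : ∀ u z : G, IsInv u → IsPel p z → z * u = u * z → z = 1) {t : G} (ht : t ∈ Q)
    (ht1 : t ≠ 1) {g : G} (hg : g * t = t * g) : g ∈ Q :=
  Cfsg.Agent.Helper86.S4017M.A_centralizer h T hA ht ht1 hg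

theorem Setting.A_sylow (hall : ∀ (Q' : Subgroup G) (x' : G), Setting a p Q' x' → Tools a p Q' x')
    (h : Setting a p Q x) (hA : ∀ u z : G, IsInv u → IsPel p z → z * u = u * z → z = 1)
    (P : Sylow p G) :
    (∃ u : G, IsInv u ∧ ∀ z ∈ P, u * z * u⁻¹ = z⁻¹) ∧
      ∀ z ∈ P, z ≠ 1 → ∀ g : G, g * z = z * g → g ∈ P :=
  Cfsg.Agent.Helper86.S4017M.A_sylow hall h hA P

theorem Setting.A_normalizer (hall : ∀ (Q' : Subgroup G) (x' : G), Setting a p Q' x' → Tools a p Q' x')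
    (h : Setting a p Q x) (hA : ∀ u z : G, IsInv u → IsPel p z → z * u = u * z → z = 1)
    (P : Sylow p G) : Nat.card (Subgroup.normalizer ((P : Subgroup G) : Set G)) = 2 * Nat.card P :=
  Cfsg.Agent.Helper86.S4017M.A_normalizer hall h hA P

theorem Setting.card_inv (h : Setting a p Q x) (T : Tools a p Q x)
    (hA : ∀ u z : G, IsInv u → IsPel p z → z * u = u * z → z = 1) :
    Nat.card {u : G // IsInv u} * 2 ^ a = Nat.card G :=
  Cfsg.Agent.Helper47.S4017M.card_inv h T hA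

theorem Setting.A_card_pel (hall : ∀ (Q' : Subgroup G) (x' : G), Setting a p Q' x' → Tools a p Q' x')
    (h : Setting a p Q x) (hA : ∀ u z : G, IsInv u → IsPel p z → z * u = u * z → z = 1)
    (P : Sylow p G) :
    Nat.card {y : G // y ≠ 1 ∧ IsPel p y} * (2 * Nat.card P) =
      Nat.card G * (Nat.card P - 1) :=
  Cfsg.Agent.Helper47.S4017M.h47_a5_core h (fun P' => (Setting.A_sylow hall h hA P').2)
    (fun P' => Setting.A_normalizer hall h hA P') P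

theorem Setting.A_count (hall : ∀ (Q' : Subgroup G) (x' : G), Setting a p Q' x' → Tools a p Q' x')
    (h : Setting a p Q x) (hA : ∀ u z : G, IsInv u → IsPel p z → z * u = u * z → z = 1)
    (P : Sylow p G) :
    Nat.card {u : G // IsInv u} * Nat.card {u : G // IsInv u} =
      Nat.card {u : G // IsInv u} * p +
        Nat.card {y : G // y ≠ 1 ∧ IsPel p y} * Nat.card P :=
  Cfsg.Agent.Helper12.S4017M.A_count hall h hA P

theorem A_arith {p a m N c g : ℕ} (hp : p.Prime) (hp2 : p ≠ 2) (hpa : p + 1 = 2 ^ a)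
    (hm : m * 2 ^ a = g) (hN : N * (2 * c) = g * (c - 1)) (hcount : m * m = m * p + N * c)
    (hc : ∃ b : ℕ, 1 ≤ b ∧ c = p ^ b) (hg : p ∣ g) (hg0 : 0 < g) : False :=
  Cfsg.Agent.Helper90.S4017M.A_arith hp hp2 hpa hm hN hcount hc hg hg0

omit [Finite G] in
theorem eigen_generate (Z Q : Subgroup G) [Finite Q] (hZ : ∀ z ∈ Z, ∀ z' ∈ Z, z * z' = z' * z)
    (hQ : ∀ s ∈ Q, ∀ s' ∈ Q, s * s' = s' * s) (hQ2 : ∀ s ∈ Q, s * s = 1)
    (hnorm : ∀ s ∈ Q, ∀ z ∈ Z, s * z * s⁻¹ ∈ Z) (hodd : ∀ z ∈ Z, Odd (orderOf z)) :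
    Z ≤ Subgroup.closure {w | w ∈ Z ∧ IsEig Q w} :=
  Cfsg.Agent.Helper90.S4017M.eigen_generate Z Q hZ hQ hQ2 hnorm hodd

theorem Setting.eig_comm (h : Setting a p Q x) (T : Tools a p Q x) (h3 : 3 ≤ a) {w w' : G}
    (hw : IsPel p w) (hw' : IsPel p w') (he : IsEig Q w) (he' : IsEig Q w') :
    w * w' = w' * w :=
  Cfsg.Agent.Helper30.S4017M.eig_comm h T h3 hw hw' he he'

theorem Setting.false_of_three_le (h : Setting a p Q x) (T : Tools a p Q x) (h3 : 3 ≤ a)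
    (hP1 : ¬ P1ne p Q)
    (hZ : ∃ t ∈ Q, t ≠ 1 ∧ ∃ z : G, z ≠ 1 ∧ IsPel p z ∧ z * t = t * z) : False :=
  Cfsg.Agent.Helper19.S4017M.false_of_three_le h T h3 hP1 hZ

theorem setting_of_setting17 (h : Cfsg.Agent.Helper17.S4017.Setting a p Q x) : Setting a p Q x :=
  Cfsg.Agent.Helper34.S4017M.setting_of_setting17 h

theorem Setting.inv_conj (h : Setting a p Q x) {t : G} (ht : t ∈ Q) (ht1 : t ≠ 1) {u : G}
    (hu : IsInv u) : ∃ g : G, g * t * g⁻¹ = u :=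
  Cfsg.Agent.Helper34.S4017M.inv_conj h ht ht1 hu

theorem Setting.mem_of_centralizes (h : Setting a p Q x) (T : Tools a p Q x) (hP1 : ¬ P1ne p Q)
    {g : G} (hg : ∀ s ∈ Q, g * s = s * g) : g ∈ Q :=
  Cfsg.Agent.Helper34.S4017M.mem_of_centralizes h T hP1 hg

theorem Setting.D_inverts (h : Setting a p Q x) (T : Tools a p Q x) (ha : a = 2) (hP1 : ¬ P1ne p Q)
    {t s z : G} (ht : t ∈ Q) (ht1 : t ≠ 1) (hs : s ∈ Q) (hs1 : s ≠ 1) (hst : s ≠ t)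
    (hz : IsPel p z) (hzt : z * t = t * z) : s * z * s⁻¹ = z⁻¹ :=
  Cfsg.Agent.Helper63.S4017M.D_inverts h T ha hP1 ht ht1 hs hs1 hst hz hzt

theorem Setting.D_unique_inv (h : Setting a p Q x) (T : Tools a p Q x) (ha : a = 2)
    (hP1 : ¬ P1ne p Q) {t z u : G} (ht : t ∈ Q) (ht1 : t ≠ 1) (hz : IsPel p z) (hz1 : z ≠ 1)
    (hzt : z * t = t * z) (hu : IsInv u) (huz : u * z = z * u) (hut : u * t = t * u) : u = t :=
  Cfsg.Agent.Helper63.S4017M.D_unique_inv h T ha hP1 ht ht1 hz hz1 hzt hu huz hut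

theorem Setting.D_sylow (h : Setting a p Q x) (T : Tools a p Q x) (ha : a = 2) (hP1 : ¬ P1ne p Q)
    {t z : G} (ht : t ∈ Q) (ht1 : t ≠ 1) (hz : IsPel p z) (hz1 : z ≠ 1) (hzt : z * t = t * z) :
    ∃ P : Sylow p G, z ∈ P ∧ (∀ P' : Sylow p G, z ∈ P' → P' = P) ∧
      (∀ g : G, g * z = z * g → IsPel p g → g ∈ P) ∧
      (∀ g : G, g * z = z * g → g ∈ P ∨ g * t ∈ P) :=
  Cfsg.Agent.Helper62.S4017M.D_sylow h T ha hP1 ht ht1 hz hz1 hzt

theorem Setting.D_comm_false (h : Setting a p Q x) (T : Tools a p Q x) (ha : a = 2)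
    (hP1 : ¬ P1ne p Q) {t t' : G} (ht : t ∈ Q) (ht1 : t ≠ 1) (ht' : t' ∈ Q) (ht'1 : t' ≠ 1)
    (hne : t ≠ t') (hZ : ∃ z : G, z ≠ 1 ∧ IsPel p z ∧ z * t = t * z)
    (hcomm : ∀ z1 z2 : G, IsPel p z1 → z1 * t = t * z1 → IsPel p z2 → z2 * t' = t' * z2 →
      z1 * z2 = z2 * z1) : False :=
  Cfsg.Agent.Helper69.S4017M.D_comm_false h T ha hP1 ht ht1 ht' ht'1 hne hZ hcomm

theorem Setting.D_sylow_le (h : Setting a p Q x) (T : Tools a p Q x) (ha : a = 2)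
    (hP1 : ¬ P1ne p Q) {t z : G} (ht : t ∈ Q) (ht1 : t ≠ 1) (hz : IsPel p z) (hz1 : z ≠ 1)
    (hzt : z * t = t * z) (P : Sylow p G) (hzP : z ∈ P) : ∀ g ∈ P, g * t = t * g :=
  Cfsg.Agent.Helper38.S4017M.D_sylow_le h T ha hP1 ht ht1 hz hz1 hzt P hzP

theorem Setting.caseD (h : Setting a p Q x) (T : Tools a p Q x) (ha : a = 2) (hP1 : ¬ P1ne p Q)
    (hZ : ∃ t ∈ Q, t ≠ 1 ∧ ∃ z : G, z ≠ 1 ∧ IsPel p z ∧ z * t = t * z) :
    ∃ (P : Subgroup G) (t : G) (w : ℕ), Cfsg.Agent.Helper3.S4017.CaseD G Q P t w :=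
  Cfsg.Agent.Helper38.S4017M.caseD h T ha hP1 hZ

end Cfsg.Agent.Helper64.S4017
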