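import Cfsg.Agent.Lib.Helper64.S4017Glue
import Cfsg.Agent.Lib.Helper3.S4017D

set_option autoImplicit false

/-!
# S4017, the middle: `Setting a p Q x → False` (assembly of the S4017M pieces, helper3's case D).
-/

namespace Cfsg.Agent.Helper64.S4017

open Setting
open scoped Pointwise

variable {G : Type*} [Group G] [Finite G] {a p : ℕ} {Q : Subgroup G} {x : G}

/-- The toolkit, from the base pieces. -/
theorem tools_of_setting (h : Setting a p Q x) : Tools a p Q x where
  lemmaH := lemmaH h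
  ct := fun t ht ht1 => ct h ht ht1
  ct1 := by
    intro t ht ht1 g hg
    obtain ⟨Z, hZ, -⟩ := ct h ht ht1
    exact ct1 h ht ht1 Z hZ hg
  m2 := fun t ht ht1 g hg hgt => m2 h ht ht1 hg hgt
  m3 := fun c hc hcQ => m3 h (fun t ht ht1 => ct h ht ht1) hc hcQ
  n2 := n2 h

theorem p_ne_two_of (h : Setting a p Q x) : p ≠ 2 := by
  intro hp
  have h1 := h.p_eq
  have h2 := h.two_le
  subst hp
  have : 2 ^ 2 ∣ 2 ^ a := pow_dvd_pow 2 h2
  omega

theorem exists_ne_one_of (h : Setting a p Q x) : ∃ t ∈ Q, t ≠ 1 := by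
  by_contra hcon
  push Not at hcon
  have hbot : Q = ⊥ := (Subgroup.eq_bot_iff_forall Q).2 hcon
  have h1 := h.card_Q
  rw [hbot, Subgroup.card_bot] at h1
  have h2 := h.two_le
  have : 2 ^ 2 ≤ 2 ^ a := Nat.pow_le_pow_right (by norm_num) h2
  omega

theorem isInv_of_mem (h : Setting a p Q x) {t : G} (ht : t ∈ Q) (ht1 : t ≠ 1) : IsInv t :=
  ⟨ht1, h.elem t ht⟩

theorem p_dvd_card_of (h : Setting a p Q x) : p ∣ Nat.card G := by
  obtain ⟨j, hj⟩ := h.x_pel
  have hx1 : x ≠ 1 := by
    intro hx1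
    -- x = 1 contradicts transitivity: Q has two distinct nontrivial elements
    obtain ⟨t, ht, ht1⟩ := exists_ne_one_of h
    have hall : ∀ s ∈ Q, s ≠ 1 → s = t := by
      intro s hs hs1
      obtain ⟨i, hi⟩ := h.x_trans t ht ht1 s hs hs1
      rw [hx1] at hi
      simpa using hi.symm
    -- then Q ⊆ {1, t}, card ≤ 2
    have hcard : Nat.card Q ≤ 2 := by
      classical
      have hq2 : ∀ q : Q, q = 1 ∨ q = ⟨t, ht⟩ := by
        intro q
        by_cases hq : (q : G) = 1
        · left; exact Subtype.ext hq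
        · right; exact Subtype.ext (hall q q.2 hq)
      have : Fintype Q := Fintype.ofFinite Q
      rw [Nat.card_eq_fintype_card]
      calc Fintype.card Q = (Finset.univ : Finset Q).card := Finset.card_univ.symm
        _ ≤ ({1, ⟨t, ht⟩} : Finset Q).card :=
            Finset.card_le_card (by intro q _; rcases hq2 q with hq | hq <;> simp [hq])
        _ ≤ 2 := Finset.card_le_two
    have h1 := h.card_Q
    have h2 := h.two_le
    have : 2 ^ 2 ≤ 2 ^ a := Nat.pow_le_pow_right (by norm_num) h2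
    omega
  have hj0 : j ≠ 0 := by
    intro h0
    rw [h0, pow_zero, orderOf_eq_one_iff] at hj
    exact hx1 hj
  have : p ∣ orderOf x := by
    rw [hj]; exact dvd_pow_self p hj0
  exact this.trans (orderOf_dvd_natCard x)

/-- A `p`-element is conjugate into any given Sylow `p`-subgroup. -/
theorem exists_conj_mem_sylow (hp : p.Prime) (P : Sylow p G) {c : G} (hc : IsPel p c) :
    ∃ g : G, g * c * g⁻¹ ∈ P := by
  have : Fact p.Prime := ⟨hp⟩
  obtain ⟨j, hj⟩ := hc
  have hpg : IsPGroup p (Subgroup.zpowers c) := by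
    apply IsPGroup.of_card (n := j)
    rw [Nat.card_zpowers, hj]
  obtain ⟨P', hP'⟩ := hpg.exists_le_sylow
  obtain ⟨g, hg⟩ := MulAction.exists_smul_eq G P' P
  refine ⟨g, ?_⟩
  have hc' : c ∈ P' := hP' (Subgroup.mem_zpowers c)
  have h1 : MulAut.conj g • c ∈ MulAut.conj g • (P' : Subgroup G) :=
    Subgroup.smul_mem_pointwise_smul c (MulAut.conj g) (P' : Subgroup G) hc'
  have h2 : ((g • P' : Sylow p G) : Subgroup G) = MulAut.conj g • (P' : Subgroup G) :=
    Sylow.pointwise_smul_def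
  rw [← hg]
  show g * c * g⁻¹ ∈ ((g • P' : Sylow p G) : Subgroup G)
  rw [h2]
  simpa [MulAut.smul_def] using h1

/-- Case (B1): `P₁ ≠ 1`. -/
theorem false_of_p1ne (h : Setting a p Q x) (hP1 : P1ne p Q) : False := by
  have hall : ∀ (Q' : Subgroup G) (x' : G), Setting a p Q' x' → Tools a p Q' x' :=
    fun _ _ h' => tools_of_setting h'
  have h2c : ∀ (Q' : Subgroup G) (x' : G), Setting a p Q' x' →
      ∀ t ∈ Q', t ≠ 1 → ∀ u : G, IsInv u → u * t = t * u → u ∈ Q' := by
    intro Q' x' h' t ht ht1 u hu hut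
    exact twoClosed_of_p1ne h' (hall _ _ h') (p1ne_of_p1ne h h' hP1) ht ht1 hu hut
  obtain ⟨u, v, hu, hv, huv⟩ := exists_invs_not_comm h
  have hy : IsPel p (u * v) := isPel_mul_of_not_comm h h2c hu hv huv
  have huinv : u⁻¹ = u := inv_eq_of_mul_eq_one_left hu.2
  have hvinv : v⁻¹ = v := inv_eq_of_mul_eq_one_left hv.2
  have hy1 : u * v ≠ 1 := by
    intro h1
    apply huv
    have hvu : v = u := by
      have := inv_eq_of_mul_eq_one_left h1
      rw [← hvinv, this]
    rw [hvu]
  have huy : u * (u * v) * u⁻¹ = (u * v)⁻¹ := by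
    rw [mul_inv_rev, hvinv, huinv, ← mul_assoc, hu.2, one_mul]
  have hodd : ∀ s : G, IsInv s → s * (u * v) ≠ (u * v) * s :=
    fun s hs hsy => B1_claim1 hall h hP1 hu hy hy1 huy hs hsy
  obtain ⟨P, hP⟩ := centralizer_eq_sylow h hu hy hy1 huy hodd
  have hinv := B1_inverts hall h hP1 hu hy hy1 huy P hP
  obtain ⟨c, hc1, hcp, hcQ⟩ := hP1
  obtain ⟨g, hg⟩ := exists_conj_mem_sylow h.prime P hcp
  obtain ⟨t, ht, ht1⟩ := exists_ne_one_of h
  have hpel : IsPel p (g * c * g⁻¹) := by
    obtain ⟨j, hj⟩ := hcp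
    refine ⟨j, ?_⟩
    rw [← hj]
    have := (MulAut.conj g).orderOf_eq c
    simpa [MulAut.conj_apply] using this
  have hne : g * c * g⁻¹ ≠ 1 := by
    intro h1
    apply hc1
    have : g * c * g⁻¹ = g * 1 * g⁻¹ := by rw [h1]; simp
    simpa using this
  have hsinv : IsInv (g * t * g⁻¹) := by
    refine ⟨?_, ?_⟩
    · intro h1
      apply ht1
      have : g * t * g⁻¹ = g * 1 * g⁻¹ := by rw [h1]; simp
      simpa using this
    · have := h.elem t ht
      calc g * t * g⁻¹ * (g * t * g⁻¹) = g * (t * t) * g⁻¹ := by group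
        _ = 1 := by rw [this]; simp
  have hscomm : g * t * g⁻¹ * (g * c * g⁻¹) = g * c * g⁻¹ * (g * t * g⁻¹) := by
    have := hcQ t ht
    calc g * t * g⁻¹ * (g * c * g⁻¹) = g * (t * c) * g⁻¹ := by group
      _ = g * (c * t) * g⁻¹ := by rw [this]
      _ = g * c * g⁻¹ * (g * t * g⁻¹) := by group
  exact B1_claim1 hall h ⟨c, hc1, hcp, hcQ⟩ hu hpel hne (hinv _ hg) hsinv hscomm

/-- Case (A): no nontrivial `p`-element centralises an involution. -/
theorem false_of_A (h : Setting a p Q x)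
    (hloc : ∀ t ∈ Q, t ≠ 1 → ∀ z : G, IsPel p z → z * t = t * z → z = 1) : False := by
  have hall : ∀ (Q' : Subgroup G) (x' : G), Setting a p Q' x' → Tools a p Q' x' :=
    fun _ _ h' => tools_of_setting h'
  have hA := hA_global h hloc
  have T := tools_of_setting h
  have : Fact p.Prime := ⟨h.prime⟩
  let P : Sylow p G := default
  have h1 := card_inv h T hA
  have h2 := A_card_pel hall h hA P
  have h3 := A_count hall h hA P
  have hpG := p_dvd_card_of h
  have hcP : ∃ b : ℕ, 1 ≤ b ∧ Nat.card P = p ^ b := by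
    refine ⟨(Nat.card G).factorization p, ?_, P.card_eq_multiplicity⟩
    exact (h.prime.factorization_pos_of_dvd Nat.card_pos.ne' hpG)
  exact A_arith h.prime (p_ne_two_of h) h.p_eq h1 h2 h3 hcP hpG Nat.card_pos

/-- THE MIDDLE: the boundary setting is contradictory. -/
theorem Setting.false (h : Setting a p Q x) : False := by
  by_cases hP1 : P1ne p Q
  · exact false_of_p1ne h hP1
  by_cases hloc : ∀ t ∈ Q, t ≠ 1 → ∀ z : G, IsPel p z → z * t = t * z → z = 1
  · exact false_of_A h hloc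
  have hZ : ∃ t ∈ Q, t ≠ 1 ∧ ∃ z : G, z ≠ 1 ∧ IsPel p z ∧ z * t = t * z := by
    push Not at hloc
    obtain ⟨t, ht, ht1, z, hz, hzt, hz1⟩ := hloc
    exact ⟨t, ht, ht1, z, hz1, hz, hzt⟩
  have T := tools_of_setting h
  rcases Nat.lt_or_ge a 3 with ha | ha
  · have ha2 : a = 2 := by have := h.two_le; omega
    obtain ⟨P, t, w, hD⟩ := caseD h T ha2 hP1 hZ
    exact Cfsg.Agent.Helper3.S4017.CaseD.false hD
  · exact false_of_three_le h T ha hP1 hZ

/-- The middle, over helper17's `Setting`. -/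
theorem false_of_setting17 (h : Cfsg.Agent.Helper17.S4017.Setting a p Q x) : False :=
  (setting_of_setting17 h).false

end Cfsg.Agent.Helper64.S4017
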