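import Mathlib
import Cfsg.Agent.Lib.Helper31.SCHDefs
import Cfsg.Agent.Lib.Helper54.PSolv

/-!
# SCH lemma server (S4394, helper31): piece (AB) `abelian_case`
-/

set_option autoImplicit false

namespace Cfsg.Agent.Helper64.SCH
open Cfsg Cfsg.Agent.Helper31.SCH

variable {G : Type*} [Group G] [Finite G] {p : ℕ} [Fact p.Prime]

/-- (AB) an abelian Sylow `p`-subgroup of a `p`-soluble group with `O_{p'}(G) = 1` is normal. -/
theorem abelian_case (hsol : IsPSolvable p G) (hO : pPrimeCore p G = ⊥) (P : Sylow p G)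
    (hab : ∀ x ∈ (P : Subgroup G), ∀ y ∈ (P : Subgroup G), x * y = y * x) :
    (P : Subgroup G).Normal := by
  have hC := Cfsg.Agent.Helper54.centralizer_pCore_le_of_isPSolvable hsol hO
  have hle : pCore p G ≤ (P : Subgroup G) := Cfsg.Agent.Helper54.pCore_le_sylow P
  have hPC : (P : Subgroup G) ≤ Subgroup.centralizer (pCore p G : Set G) := by
    intro x hx
    rw [Subgroup.mem_centralizer_iff]
    intro y hy
    exact hab y (hle hy) x hx
  have heq : (P : Subgroup G) = pCore p G := le_antisymm (hPC.trans hC) hle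
  rw [heq]
  infer_instance

end Cfsg.Agent.Helper64.SCH
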