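import Mathlib
import Cfsg.Agent.Lib.Helper31.SCHDefs

/-!
# SCH lemma server (S4394, helper31): piece (P7) `SA_congr`
-/

set_option autoImplicit false

namespace Cfsg.Agent.Helper64.SCH
open Cfsg Cfsg.Agent.Helper31.SCH

variable {P : Type*} [Group P] [Finite P] {p : ℕ} [Fact p.Prime]

/-- (P7) transport of a Schmidt automorphism along an isomorphism. -/
theorem SA_congr {Q : Type*} [Group Q] (e : Q ≃* P) (α : MulAut P) (h : SA p α) :
    ∃ β : MulAut Q, SA p β := by
  refine ⟨MulAut.congr e.symm α, ?_, ?_, ?_⟩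
  · obtain ⟨q, hq, hqp, hαq⟩ := h.ord
    refine ⟨q, hq, hqp, ?_⟩
    rw [← map_pow, hαq, map_one]
  · intro hβ
    apply h.ne
    have : MulAut.congr e.symm α = MulAut.congr e.symm 1 := by rw [hβ, map_one]
    exact (MulAut.congr e.symm).injective this
  · intro R hR hinv x hx
    have hβ : ∀ y : Q, (MulAut.congr e.symm α) y = e.symm (α (e y)) := fun y => rfl
    have hR' : R.map e.toMonoidHom ≠ ⊤ := by
      intro htop
      apply hR
      rw [eq_top_iff]
      intro y _
      have hy : e y ∈ R.map e.toMonoidHom := by rw [htop]; exact Subgroup.mem_top _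
      obtain ⟨z, hz, hzy⟩ := hy
      have : z = y := e.injective hzy
      exact this ▸ hz
    have hinv' : ∀ y ∈ R.map e.toMonoidHom, α y ∈ R.map e.toMonoidHom := by
      rintro y ⟨z, hz, rfl⟩
      refine ⟨(MulAut.congr e.symm α) z, hinv z hz, ?_⟩
      rw [hβ]
      simp
    have hfix := h.fix _ hR' hinv' (e x) ⟨x, hx, rfl⟩
    rw [hβ, hfix]
    simp

end Cfsg.Agent.Helper64.SCH
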