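import Mathlib
import Cfsg.Agent.Lib.Helper31.SCHDefs

/-!
# SCH lemma server (S4394, helper31): piece (SQ2) `sylow_quot_p`
-/

set_option autoImplicit false

namespace Cfsg.Agent.Helper64.SCH
open Cfsg Cfsg.Agent.Helper31.SCH

variable {G : Type*} [Group G] [Finite G] {p : ℕ} [Fact p.Prime]

/-- (SQ2) the image of a Sylow `p`-subgroup `P` in `G ⧸ Y` (`Y ≤ P` normal) is a Sylow `p`-subgroup,
isomorphic to `P ⧸ Y`. -/
theorem sylow_quot_p (Y : Subgroup G) [Y.Normal] (P : Sylow p G) (hY : Y ≤ (P : Subgroup G)) :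
    ∃ P' : Sylow p (G ⧸ Y), Nonempty (↥(P' : Subgroup (G ⧸ Y)) ≃*
      (↥(P : Subgroup G) ⧸ Y.subgroupOf (P : Subgroup G))) := by
  refine ⟨P.mapSurjective (QuotientGroup.mk'_surjective Y), ⟨?_⟩⟩
  set f : ↥(P : Subgroup G) →* G ⧸ Y := (QuotientGroup.mk' Y).comp (P : Subgroup G).subtype with hf
  have hker : f.ker = Y.subgroupOf (P : Subgroup G) := by
    ext x
    rw [MonoidHom.mem_ker, Subgroup.mem_subgroupOf, hf]
    simp [QuotientGroup.eq_one_iff]
  have hrange : f.range = ((P.mapSurjective (QuotientGroup.mk'_surjective Y) : Sylow p (G ⧸ Y)) :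
      Subgroup (G ⧸ Y)) := by
    rw [Sylow.coe_mapSurjective, hf, MonoidHom.range_comp, Subgroup.range_subtype]
  exact ((QuotientGroup.quotientMulEquivOfEq hker).symm.trans
    ((QuotientGroup.quotientKerEquivRange f).trans (MulEquiv.subgroupCongr hrange))).symm

end Cfsg.Agent.Helper64.SCH
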