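import Mathlib
import Cfsg.Agent.Lib.Helper31.SCHDefs

/-!
# SCH lemma server (S4394, helper31): piece (SS) `sylow_sub`
-/

set_option autoImplicit false

namespace Cfsg.Agent.Helper64.SCH
open Cfsg Cfsg.Agent.Helper31.SCH

variable {G : Type*} [Group G] [Finite G] {p : ℕ} [Fact p.Prime]

/-- (SS) a Sylow `p`-subgroup of `G` contained in `G₁` is a Sylow `p`-subgroup of `G₁`. -/
theorem sylow_sub (G₁ : Subgroup G) (P : Sylow p G) (hle : (P : Subgroup G) ≤ G₁) :
    ∃ P' : Sylow p ↥G₁, (P' : Subgroup ↥G₁) = (P : Subgroup G).subgroupOf G₁ :=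
  ⟨P.subtype hle, Sylow.coe_subtype P hle⟩

end Cfsg.Agent.Helper64.SCH
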