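import Mathlib
import Cfsg.Agent.Lib.Helper62.SUO0
import Cfsg.Agent.Lib.Helper13.SUGen

/-!
# SUO server (helper62, S2282), block E: cores of (E4) `WW_all` and (E5) `top_of_Q`
with the earlier pieces (E2a) `WW_act`, (E2c) `WW_step`, (E3) `exists_opp` as explicit hypotheses
-/

set_option autoImplicit false
set_option linter.unusedSectionVars false
set_option linter.unusedVariables false
set_option quotPrecheck false

namespace Cfsg.Agent.Helper64.SUO

open Matrix Cfsg Cfsg.Agent.Helper13 Cfsg.Agent.Helper87.PsuA Cfsg.Agent.Helper62.SUO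

section E
variable {F : Type*} [Field F] [Fintype F] {q n : ℕ} (hF : Fintype.card F = q ^ 2)
  {Hs : Subgroup ↥(Cfsg.SU n F q)}

local notation "V" => Fin n → F
local notation "G" => ↥(Cfsg.SU n F q)
local notation "H" => Cfsg.hermForm n F q

include hF

theorem H_ne_symm {x y : V} (h : H x y ≠ 0) : H y x ≠ 0 := fun h0 => h (H_symm_zero hF h0)

/-- core of (E4): with (E2a), (E2c), (E3) as hypotheses -/
theorem WW_all_core
    (hact : ∀ {v : V}, v ∈ WW hF Hs → ∀ {h : G}, h ∈ Hs → actv h v ∈ WW hF Hs)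
    (hstep : ∀ {e v v' : V}, e ∈ WW hF Hs → v ∈ WW hF Hs → H v' v' = 0 → H v e ≠ 0 →
      H v' e ≠ 0 → v' ∈ WW hF Hs)
    (hopp : ∀ {e v : V}, e ≠ 0 → v ≠ 0 → H e e = 0 → H e v = 0 →
      ∃ v' : V, H v' v' = 0 ∧ H v' e ≠ 0 ∧ H v' v ≠ 0)
    {e0 : V} (he : e0 ∈ WW hF Hs) {t : G} (ht : t ∈ Hs)
    (hte : H (actv t e0) e0 ≠ 0) : ∀ v : V, v ≠ 0 → H v v = 0 → v ∈ WW hF Hs := by
  have he1 : actv t e0 ∈ WW hF Hs := hact he ht
  have hA : ∀ v : V, H v v = 0 → H v e0 ≠ 0 → v ∈ WW hF Hs :=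
    fun v hvv hve => hstep he he1 hvv hte hve
  have he0 : e0 ≠ 0 := by
    rintro rfl
    exact hte (H_zero_right hF _)
  intro v hv hvv
  by_cases hve : H v e0 = 0
  · obtain ⟨v', hv'v', hv'e, hv'v⟩ := hopp he0 hv he.1 (H_symm_zero hF hve)
    have hv' : v' ∈ WW hF Hs := hA v' hv'v' hv'e
    exact hstep hv' he hvv (H_ne_symm hF hv'e) (H_ne_symm hF hv'v)
  · exact hA v hvv hve

/-- core of (E5): with (E4) as a hypothesis -/
theorem top_of_Q_core
    (hall : ∀ {e0 : V}, e0 ∈ WW hF Hs → ∀ {t : G}, t ∈ Hs → H (actv t e0) e0 ≠ 0 →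
      ∀ v : V, v ≠ 0 → H v v = 0 → v ∈ WW hF Hs)
    (hn : 3 ≤ n) (h32 : ¬(n = 3 ∧ q = 2)) {e0 : V} (h00 : H e0 e0 = 0)
    (hQ : ∀ (w : V) (a : F), H e0 w = 0 → a + a ^ q + H w w = 0 → eich hF e0 w a ∈ Hs)
    {t : G} (ht : t ∈ Hs) (hte : H (actv t e0) e0 ≠ 0) : Hs = ⊤ := by
  have he : e0 ∈ WW hF Hs := ⟨h00, hQ⟩
  have hW := hall he ht hte
  rw [eq_top_iff, ← TG_top hF hn h32]
  unfold TG
  rw [Subgroup.closure_le]
  rintro g ⟨u, a, huu, ha, -, rfl⟩
  rw [Cfsg.Agent.Helper87.PsuB0.tvSU_eq_eich hF u a huu ha]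
  have ha' : a + a ^ q + H (0 : V) 0 = 0 := by
    rw [H_zero_left hF, add_zero, add_comm]
    exact ha
  by_cases hu : u = 0
  · subst hu
    have h1 : eich hF (0 : V) 0 a = 1 := by
      apply G_ext
      intro x
      rw [eich_act hF huu (H_zero_right hF _) ha', actv_one]
      simp
    rw [h1]
    exact Hs.one_mem
  · exact (hW u hu huu).2 0 a (H_zero_right hF _) ha'

end E

end Cfsg.Agent.Helper64.SUO
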