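import Mathlib

set_option autoImplicit false

/-!
# Schur's theorem on regular cyclic subgroups (non-prime-power degree)

Abstract setting: a group `G` acts on (the underlying set of) a finite commutative group `H`,
and there is a homomorphism `ι : H →* G` such that `ι h • x = h * x`
(`H` is a regular abelian subgroup).
-/

namespace Cfsg.Agent.Helper64.SchurRing

open MulAction

variable {G H : Type*} [Group G] [CommGroup H] [MulAction G H]

/-- A set of `H` invariant under the stabilizer of `1`. -/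
def KInv (G : Type*) {H : Type*} [Group G] [CommGroup H] [MulAction G H] (T : Set H) : Prop :=
  ∀ g : G, g • (1 : H) = 1 → ∀ t ∈ T, g • t ∈ T

/-- The key identity: `g • (t * x) = (k • t) * (g • x)` with `k` in the stabilizer of `1`. -/
theorem key_identity (ι : H →* G) (hι : ∀ h x : H, ι h • x = h * x) (g : G) (t x : H) :
    ∃ k : G, k • (1 : H) = 1 ∧ g • (t * x) = (k • t) * (g • x) := by
  refine ⟨(ι (g • x))⁻¹ * g * ι x, ?_, ?_⟩
  · rw [mul_smul, mul_smul, hι, mul_one, inv_smul_eq_iff, hι, mul_one]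
  · have h1 : g • (t * x) = (g * ι x) • t := by rw [mul_smul, hι, mul_comm]
    have h2 : g * ι x = ι (g • x) * ((ι (g • x))⁻¹ * g * ι x) := by group
    rw [h1, h2, mul_smul, hι, mul_comm]

theorem KInv.inv (ι : H →* G) (hι : ∀ h x : H, ι h • x = h * x) {T : Set H} (hT : KInv G T) :
    KInv G (T⁻¹) := by
  intro g hg t ht
  rw [Set.mem_inv] at ht ⊢
  obtain ⟨k, hk1, hk⟩ := key_identity ι hι g t⁻¹ t
  rw [inv_mul_cancel, hg] at hk
  -- 1 = (k • t⁻¹) * (g • t)
  have : (g • t)⁻¹ = k • t⁻¹ := by
    rw [inv_eq_iff_eq_inv, eq_inv_iff_mul_eq_one, mul_comm]; exact hk.symm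
  rw [this]
  exact hT k hk1 _ ht

theorem KInv.union {T U : Set H} (hT : KInv G T) (hU : KInv G U) : KInv G (T ∪ U) := by
  intro g hg t ht
  rcases ht with ht | ht
  · exact Or.inl (hT g hg t ht)
  · exact Or.inr (hU g hg t ht)

theorem KInv.one : KInv G ({1} : Set H) := by
  intro g hg t ht
  rw [Set.mem_singleton_iff] at ht ⊢
  rw [ht, hg]

theorem KInv.compl {T : Set H} (hT : KInv G T) : KInv G (Tᶜ) := by
  intro g hg t ht hgt
  apply ht
  have := hT g⁻¹ (by rw [inv_smul_eq_iff, hg]) _ hgt
  rwa [inv_smul_smul] at this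

theorem KInv.inter {T U : Set H} (hT : KInv G T) (hU : KInv G U) : KInv G (T ∩ U) := by
  intro g hg t ht
  exact ⟨hT g hg t ht.1, hU g hg t ht.2⟩

theorem KInv.diff {T U : Set H} (hT : KInv G T) (hU : KInv G U) : KInv G (T \ U) :=
  hT.inter hU.compl

/-- The subgroup generated by a `K`-invariant set is `K`-invariant. -/
theorem KInv.closure (ι : H →* G) (hι : ∀ h x : H, ι h • x = h * x) {X : Set H}
    (hX : KInv G X) : KInv G (Subgroup.closure X : Set H) := by
  intro g hg m hm
  rw [SetLike.mem_coe] at hm ⊢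
  revert g
  induction hm using Subgroup.closure_induction with
  | mem x hx => intro g hg; exact Subgroup.subset_closure (hX g hg x hx)
  | one => intro g hg; rw [hg]; exact Subgroup.one_mem _
  | mul a b _ _ iha ihb =>
    intro g hg
    obtain ⟨k, hk1, hk⟩ := key_identity ι hι g a b
    rw [hk]
    exact Subgroup.mul_mem _ (iha k hk1) (ihb g hg)
  | inv a _ iha =>
    intro g hg
    obtain ⟨k', hk'1, hk'⟩ := key_identity ι hι g a a⁻¹
    rw [mul_inv_cancel, hg] at hk'
    have : g • a⁻¹ = (k' • a)⁻¹ := by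
      rw [eq_inv_iff_mul_eq_one, mul_comm]; exact hk'.symm
    rw [this]
    exact Subgroup.inv_mem _ (iha k' hk'1)


open Pointwise in
/-- (c1): in a primitive action, a `K`-invariant set containing a nonidentity element
generates `H`. -/
theorem closure_eq_top_of_kinv (ι : H →* G) (hι : ∀ h x : H, ι h • x = h * x)
    [IsPreprimitive G H] [Nontrivial H] {X : Set H} (hX : KInv G X)
    {x : H} (hx : x ∈ X) (hx1 : x ≠ 1) : Subgroup.closure X = ⊤ := by
  set M := Subgroup.closure X with hM
  have hMK : KInv G (M : Set H) := hX.closure ι hι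
  have hco : IsCoatom (stabilizer G (1 : H)) :=
    IsPreprimitive.isCoatom_stabilizer_of_isPreprimitive (G := G) (1 : H)
  have hK : stabilizer G (1 : H) ≤ stabilizer G (M : Set H) := by
    intro k hk
    rw [mem_stabilizer_iff] at hk ⊢
    ext y
    rw [Set.mem_smul_set_iff_inv_smul_mem]
    constructor
    · intro hy
      have := hMK k hk _ hy
      rwa [smul_inv_smul] at this
    · intro hy
      exact hMK k⁻¹ (by rw [inv_smul_eq_iff, hk]) _ hy
  have hιM : ∀ m ∈ M, ι m ∈ stabilizer G (M : Set H) := by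
    intro m hm
    rw [mem_stabilizer_iff]
    ext y
    rw [Set.mem_smul_set_iff_inv_smul_mem, ← map_inv, hι, SetLike.mem_coe, SetLike.mem_coe]
    exact Subgroup.mul_mem_cancel_left (H := M) (Subgroup.inv_mem M hm)
  have hxM : x ∈ M := Subgroup.subset_closure hx
  rcases eq_or_lt_of_le hK with h | h
  · -- stabilizer of M equals K: then ι x ∈ K, so x = 1
    exfalso
    have h1 : ι x ∈ stabilizer G (1 : H) := h ▸ hιM x hxM
    rw [mem_stabilizer_iff, hι, mul_one] at h1
    exact hx1 h1
  · have htop : stabilizer G (M : Set H) = ⊤ := hco.2 _ h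
    rw [eq_top_iff]
    intro y _
    obtain ⟨g, hg⟩ := exists_smul_eq G (1 : H) y
    have hg' : g ∈ stabilizer G (M : Set H) := htop ▸ Subgroup.mem_top g
    rw [mem_stabilizer_iff] at hg'
    have : g • (1 : H) ∈ g • (M : Set H) := Set.smul_mem_smul_set (Subgroup.one_mem M)
    rw [hg', hg] at this
    exact this


section Algebra

variable {R : Type*} [CommSemiring R]

/-- An element of the group algebra whose coefficient function is `K`-invariant. -/
def KInvF (G : Type*) {H R : Type*} [Group G] [CommGroup H] [MulAction G H] [CommSemiring R]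
    (f : MonoidAlgebra R H) : Prop :=
  ∀ g : G, g • (1 : H) = 1 → ∀ x : H, f.coeff (g • x) = f.coeff x

theorem coeff_mul_eq_sum [Fintype H] (f f' : MonoidAlgebra R H) (x : H) :
    (f * f').coeff x = ∑ a : H, f.coeff (x * a⁻¹) * f'.coeff a := by
  rw [MonoidAlgebra.coeff_mul_apply_right, Finsupp.sum_fintype]
  intro i; simp

theorem KInvF.mul [Fintype H] (ι : H →* G) (hι : ∀ h x : H, ι h • x = h * x)
    {f f' : MonoidAlgebra R H} (hf : KInvF G f) (hf' : KInvF G f') : KInvF G (f * f') := by
  intro k hk x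
  rw [coeff_mul_eq_sum, coeff_mul_eq_sum]
  rw [← Equiv.sum_comp (MulAction.toPerm k)]
  apply Finset.sum_congr rfl
  intro b _
  rw [MulAction.toPerm_apply, hf' k hk b]
  congr 1
  obtain ⟨k', hk'1, hk'⟩ := key_identity ι hι k (x * b⁻¹) b
  rw [inv_mul_cancel_right] at hk'
  rw [hk', mul_inv_cancel_right, hf k' hk'1]

theorem KInvF.one : KInvF G (1 : MonoidAlgebra R H) := by
  intro k hk x
  classical
  rw [MonoidAlgebra.one_def, MonoidAlgebra.coeff_single, Finsupp.single_apply, Finsupp.single_apply]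
  have : (1 = k • x) ↔ (1 = x) := by
    constructor
    · intro h
      have : k • x = k • (1 : H) := by rw [hk, ← h]
      exact (MulAction.injective k this).symm
    · intro h; rw [← h, hk]
  simp only [this]

theorem KInvF.pow [Fintype H] (ι : H →* G) (hι : ∀ h x : H, ι h • x = h * x)
    {f : MonoidAlgebra R H} (hf : KInvF G f) (n : ℕ) : KInvF G (f ^ n) := by
  induction n with
  | zero => rw [pow_zero]; exact KInvF.one
  | succ n ih => rw [pow_succ]; exact ih.mul ι hι hf

end Algebra


section Frobenius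

variable [Fintype H] [DecidableEq H]

/-- The indicator element of a finset in the group algebra. -/
noncomputable def ind (R : Type*) [CommSemiring R] (T : Finset H) : MonoidAlgebra R H :=
  ∑ t ∈ T, MonoidAlgebra.single t (1 : R)

theorem coeff_ind (R : Type*) [CommSemiring R] (T : Finset H) (x : H) :
    (ind R T).coeff x = if x ∈ T then 1 else 0 := by
  unfold ind
  rw [MonoidAlgebra.coeff_sum, Finsupp.finsetSum_apply]
  simp only [MonoidAlgebra.coeff_single, Finsupp.single_apply]
  rw [Finset.sum_ite_eq' T x]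

theorem KInvF_ind (R : Type*) [CommSemiring R] {T : Finset H} (hT : KInv G (T : Set H)) :
    KInvF G (ind R T) := by
  intro k hk x
  rw [coeff_ind, coeff_ind]
  have : k • x ∈ T ↔ x ∈ T := by
    constructor
    · intro h
      have := hT k⁻¹ (by rw [inv_smul_eq_iff, hk]) _ (Finset.mem_coe.2 h)
      rwa [inv_smul_smul] at this
    · intro h; exact hT k hk _ (Finset.mem_coe.2 h)
  simp only [this]

/-- The size of the fibre of the `p`-th power map on `T` over `y`. -/
def powFib (T : Finset H) (p : ℕ) (y : H) : ℕ := (T.filter (fun t => t ^ p = y)).card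

theorem ind_pow_char (p : ℕ) [Fact p.Prime] (T : Finset H) :
    (ind (ZMod p) T) ^ p = ∑ t ∈ T, MonoidAlgebra.single (t ^ p) (1 : ZMod p) := by
  have : CharP (MonoidAlgebra (ZMod p) H) p :=
    charP_of_injective_algebraMap
      (RingHom.injective (algebraMap (ZMod p) (MonoidAlgebra (ZMod p) H))) p
  unfold ind
  rw [sum_pow_char]
  simp [MonoidAlgebra.single_pow]

theorem coeff_ind_pow_char (p : ℕ) [Fact p.Prime] (T : Finset H) (y : H) :
    ((ind (ZMod p) T) ^ p).coeff y = (powFib T p y : ZMod p) := by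
  rw [ind_pow_char, MonoidAlgebra.coeff_sum, Finsupp.finsetSum_apply]
  simp only [MonoidAlgebra.coeff_single, Finsupp.single_apply]
  unfold powFib
  rw [Finset.card_filter]
  push_cast
  rfl

/-- (b): the set of `y` whose `p`-th power fibre on `T` has size not divisible by `p`
is `K`-invariant. -/
theorem KInv_powFib (ι : H →* G) (hι : ∀ h x : H, ι h • x = h * x) (p : ℕ) [Fact p.Prime]
    {T : Finset H} (hT : KInv G (T : Set H)) : KInv G {y : H | ¬ p ∣ powFib T p y} := by
  intro k hk y hy
  have h1 := (KInvF_ind (ZMod p) hT).pow ι hι p k hk y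
  rw [coeff_ind_pow_char, coeff_ind_pow_char] at h1
  rw [Set.mem_ofPred_eq] at hy ⊢
  rw [← ZMod.natCast_eq_zero_iff] at hy ⊢
  rwa [h1]

end Frobenius


section Translation

theorem KInv.mem_iff {T : Set H} (hT : KInv G T) {k : G} (hk : k • (1 : H) = 1) (x : H) :
    k • x ∈ T ↔ x ∈ T := by
  constructor
  · intro h
    have := hT k⁻¹ (by rw [inv_smul_eq_iff, hk]) _ h
    rwa [inv_smul_smul] at this
  · exact hT k hk x

theorem edge_iff (ι : H →* G) (hι : ∀ h x : H, ι h • x = h * x) {T : Set H} (hT : KInv G T)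
    (g : G) (x w : H) : (g • w) * (g • x)⁻¹ ∈ T ↔ w * x⁻¹ ∈ T := by
  obtain ⟨k', hk'1, hk'⟩ := key_identity ι hι g (w * x⁻¹) x
  rw [inv_mul_cancel_right] at hk'
  rw [hk', mul_inv_cancel_right]
  exact hT.mem_iff hk'1 _

/-- (c2): in a primitive action, a nonempty `K`-invariant set avoiding `1` is not invariant
under a nontrivial translation. -/
theorem no_translation_invariant (ι : H →* G) (hι : ∀ h x : H, ι h • x = h * x)
    [IsPreprimitive G H] [Nontrivial H] {T : Set H} (hT : KInv G T) (hne : T.Nonempty)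
    (h1 : (1 : H) ∉ T) {z : H} (hz : z ≠ 1) (hzT : ∀ y, z * y ∈ T ↔ y ∈ T) : False := by
  set Z : Set H := {z | ∀ w, w * z⁻¹ ∈ T ↔ w ∈ T} with hZ
  have hZK : KInv G Z := by
    intro k hk z hz w
    have h := edge_iff ι hι hT k z (k⁻¹ • w)
    rw [smul_inv_smul] at h
    rw [h, hz (k⁻¹ • w)]
    exact hT.mem_iff (by rw [inv_smul_eq_iff, hk]) w
  have hzZ : z⁻¹ ∈ Z := by
    intro w
    rw [inv_inv, mul_comm]
    exact hzT w
  have hz1 : z⁻¹ ≠ 1 := by simpa using hz
  have htop := closure_eq_top_of_kinv ι hι hZK hzZ hz1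
  have hall : ∀ m ∈ Subgroup.closure Z, m ∈ Z := by
    intro m hm
    induction hm using Subgroup.closure_induction with
    | mem x hx => exact hx
    | one => intro w; simp
    | mul a b _ _ iha ihb =>
      intro w
      rw [mul_inv_rev, ← mul_assoc, iha (w * b⁻¹), ihb w]
    | inv a _ iha =>
      intro w
      rw [inv_inv]
      have := iha (w * a)
      rw [mul_inv_cancel_right] at this
      exact this.symm
  obtain ⟨t, ht⟩ := hne
  have htZ : t ∈ Z := hall t (htop ▸ Subgroup.mem_top t)
  have := (htZ t).2 ht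
  rw [mul_inv_cancel] at this
  exact h1 this

end Translation


section Cyclic

variable [Fintype H] [DecidableEq H]

theorem powFib_pos_iff (T : Finset H) (p : ℕ) (y : H) :
    0 < powFib T p y ↔ ∃ t ∈ T, t ^ p = y := by
  unfold powFib
  rw [Finset.card_pos]
  constructor
  · rintro ⟨t, ht⟩
    rw [Finset.mem_filter] at ht
    exact ⟨t, ht.1, ht.2⟩
  · rintro ⟨t, ht, hty⟩
    exact ⟨t, Finset.mem_filter.2 ⟨ht, hty⟩⟩

/-- In a cyclic group, the fibres of the `p`-th power map have at most `p` elements. -/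
theorem card_fibre_le [IsCyclic H] (p : ℕ) (hp : 0 < p) (y : H) :
    (Finset.univ.filter (fun x : H => x ^ p = y)).card ≤ p := by
  classical
  by_cases h : ∃ t : H, t ^ p = y
  · obtain ⟨t, ht⟩ := h
    have hle : (Finset.univ.filter (fun x : H => x ^ p = 1)).card ≤ p := by
      have := IsCyclic.card_pow_eq_one_le (α := H) hp
      convert this
    refine le_trans ?_ hle
    apply Finset.card_le_card_of_injOn (fun x => x * t⁻¹)
    · intro x hx
      have hx' : x ^ p = y := by simpa using hx
      simp only [Finset.coe_filter, Finset.mem_univ, true_and, Set.mem_ofPred_eq]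
      rw [mul_pow, inv_pow, hx', ht, mul_inv_cancel]
    · intro a _ b _ hab
      exact mul_right_cancel hab
  · have : Finset.univ.filter (fun x : H => x ^ p = y) = ∅ := by
      rw [Finset.filter_eq_empty_iff]
      intro x _ hx
      exact h ⟨x, hx⟩
    rw [this]; simp

/-- Step 1: a nonempty `K`-invariant set avoiding `1` contains an element with `t ^ p = 1`,
for each prime `p` dividing the order of the cyclic group `H`. -/
theorem exists_pow_eq_one (ι : H →* G) (hι : ∀ h x : H, ι h • x = h * x)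
    [IsCyclic H] [IsPreprimitive G H] [Nontrivial H] (p : ℕ) [hp : Fact p.Prime]
    (hpd : p ∣ Fintype.card H) {T : Finset H} (hT : KInv G (T : Set H)) (hne : T.Nonempty)
    (h1 : (1 : H) ∉ T) : ∃ t ∈ T, t ^ p = 1 := by
  by_contra hno
  push Not at hno
  -- an element of order p
  obtain ⟨z, hz⟩ := exists_prime_orderOf_dvd_card p hpd
  have hz1 : z ≠ 1 := by
    intro h; rw [h, orderOf_one] at hz; exact hp.out.one_lt.ne hz
  have hzp : z ^ p = 1 := by rw [← hz]; exact pow_orderOf_eq_one z
  -- Step A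
  have hA : ∀ y : H, y ≠ 1 → p ∣ powFib T p y := by
    intro y hy1
    by_contra hnd
    set Y : Set H := {y | ¬ p ∣ powFib T p y} \ {1} with hY
    have hYK : KInv G Y := (KInv_powFib ι hι p hT).diff KInv.one
    have hyY : y ∈ Y := ⟨hnd, hy1⟩
    have htop := closure_eq_top_of_kinv ι hι hYK hyY hy1
    have hsub : Y ⊆ ((powMonoidHom p : H →* H).range : Set H) := by
      intro y' hy'
      have h0 : 0 < powFib T p y' := by
        rcases Nat.eq_zero_or_pos (powFib T p y') with h | h
        · exact absurd (h ▸ dvd_zero p) hy'.1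
        · exact h
      obtain ⟨t, _, hty⟩ := (powFib_pos_iff T p y').1 h0
      exact ⟨t, hty⟩
    have hrange : (powMonoidHom p : H →* H).range = ⊤ := by
      rw [eq_top_iff, ← htop]
      exact (Subgroup.closure_le _).2 hsub
    have hsurj : Function.Surjective (powMonoidHom p : H →* H) :=
      MonoidHom.range_eq_top.1 hrange
    have hinj : Function.Injective (powMonoidHom p : H →* H) :=
      Finite.injective_iff_surjective.2 hsurj
    have : z = 1 := hinj (by simp [hzp])
    exact hz1 this
  -- Step B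
  have hB : ∀ t ∈ T, ∀ x : H, x ^ p = t ^ p → x ∈ T := by
    intro t ht x hx
    have hy1 : t ^ p ≠ 1 := hno t ht
    have hdvd := hA (t ^ p) hy1
    have hpos : 0 < powFib T p (t ^ p) := (powFib_pos_iff T p _).2 ⟨t, ht, rfl⟩
    have hge : p ≤ powFib T p (t ^ p) := Nat.le_of_dvd hpos hdvd
    have hle := card_fibre_le p hp.out.pos (t ^ p)
    have hsub : T.filter (fun x => x ^ p = t ^ p) ⊆
        Finset.univ.filter (fun x : H => x ^ p = t ^ p) := by
      intro a ha
      rw [Finset.mem_filter] at ha ⊢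
      exact ⟨Finset.mem_univ _, ha.2⟩
    have heq := Finset.eq_of_subset_of_card_le hsub (le_trans hle hge)
    have hxm : x ∈ Finset.univ.filter (fun x : H => x ^ p = t ^ p) :=
      Finset.mem_filter.2 ⟨Finset.mem_univ _, hx⟩
    rw [← heq, Finset.mem_filter] at hxm
    exact hxm.1
  -- Step C
  have hC : ∀ y, z * y ∈ (T : Set H) ↔ y ∈ (T : Set H) := by
    intro y
    rw [Finset.mem_coe, Finset.mem_coe]
    constructor
    · intro h
      exact hB (z * y) h y (by rw [mul_pow, hzp, one_mul])
    · intro h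
      exact hB y h (z * y) (by rw [mul_pow, hzp, one_mul])
  exact no_translation_invariant ι hι hT (by simpa using hne) (by simpa using h1) hz1 hC

/-- Lemma D: for a prime `q` coprime to `|H|`, the image of a `K`-invariant set under the
`q`-th power map is `K`-invariant. -/
theorem KInv_image_pow_prime (ι : H →* G) (hι : ∀ h x : H, ι h • x = h * x) (q : ℕ)
    (hq : q.Prime) (hcop : (Nat.card H).Coprime q) {T : Finset H} (hT : KInv G (T : Set H)) :
    KInv G ((T.image (fun t => t ^ q) : Finset H) : Set H) := by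
  have : Fact q.Prime := ⟨hq⟩
  have hinj : Function.Injective (fun t : H => t ^ q) := (powCoprime hcop).injective
  have hset : ((T.image (fun t => t ^ q) : Finset H) : Set H) = {y : H | ¬ q ∣ powFib T q y} := by
    ext y
    rw [Finset.mem_coe, Finset.mem_image, Set.mem_ofPred_eq]
    have hle : powFib T q y ≤ 1 := by
      unfold powFib
      rw [Finset.card_le_one]
      intro a ha b hb
      rw [Finset.mem_filter] at ha hb
      exact hinj (ha.2.trans hb.2.symm)
    constructor
    · rintro ⟨t, ht, hty⟩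
      have hpos : 0 < powFib T q y := (powFib_pos_iff T q y).2 ⟨t, ht, hty⟩
      have h1 : powFib T q y = 1 := le_antisymm hle hpos
      rw [h1]
      exact hq.one_lt.ne' ∘ Nat.dvd_one.1
    · intro h
      have hpos : 0 < powFib T q y := by
        rcases Nat.eq_zero_or_pos (powFib T q y) with h0 | h0
        · exact absurd (h0 ▸ dvd_zero q) h
        · exact h0
      obtain ⟨t, ht, hty⟩ := (powFib_pos_iff T q y).1 hpos
      exact ⟨t, ht, hty⟩
  rw [hset]
  exact KInv_powFib ι hι q hT

/-- Iterated Lemma D: for `m` coprime to `|H|`. -/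
theorem KInv_image_pow (ι : H →* G) (hι : ∀ h x : H, ι h • x = h * x) (m : ℕ) :
    (Nat.card H).Coprime m → ∀ T : Finset H, KInv G (T : Set H) →
      KInv G ((T.image (fun t => t ^ m) : Finset H) : Set H) := by
  induction m using Nat.recOnMul with
  | zero =>
    intro _ T _ g hg t ht
    rw [Finset.mem_coe, Finset.mem_image] at ht ⊢
    obtain ⟨a, ha, rfl⟩ := ht
    exact ⟨a, ha, by rw [pow_zero, hg]⟩
  | one =>
    intro _ T hT
    simpa using hT
  | prime q hq =>
    intro hcop T hT
    exact KInv_image_pow_prime ι hι q hq hcop hT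
  | mul a b iha ihb =>
    intro hcop T hT
    have ha := iha (Nat.Coprime.coprime_mul_right_right hcop) T hT
    have hb := ihb (Nat.Coprime.coprime_mul_left_right hcop) _ ha
    rw [Finset.image_image] at hb
    have : ((fun t : H => t ^ b) ∘ fun t => t ^ a) = fun t => t ^ (a * b) := by
      funext t; simp [pow_mul]
    rwa [this] at hb

end Cyclic


/-- Number theory: a unit mod `n` congruent to `j` mod `p` and to `1` mod `q`. -/
theorem exists_coprime_modEq {n p q j : ℕ} (hn : n ≠ 0) (hp : p.Prime) (hq : q.Prime)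
    (hpq : p ≠ q) (hqn : q ∣ n) (hj1 : 1 ≤ j) (hjp : j < p) :
    ∃ m : ℕ, n.Coprime m ∧ m ≡ j [MOD p] ∧ m ≡ 1 [MOD q] := by
  set N := n / p ^ n.factorization p with hN
  have hcop : Nat.Coprime p N := Nat.coprime_ordCompl hp hn
  obtain ⟨m, hm1, hm2⟩ := Nat.chineseRemainder hcop j 1
  have hnN : p ^ n.factorization p * N = n := Nat.ordProj_mul_ordCompl_eq_self n p
  have hqN : q ∣ N := by
    have h1 : q ∣ p ^ n.factorization p * N := by rw [hnN]; exact hqn
    have h2 : Nat.Coprime q (p ^ n.factorization p) :=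
      Nat.Coprime.pow_right _ ((Nat.coprime_primes hq hp).2 hpq.symm)
    exact h2.dvd_of_dvd_mul_left h1
  refine ⟨m, ?_, hm1, Nat.ModEq.of_dvd hqN hm2⟩
  rw [← hnN]
  apply Nat.Coprime.mul_left
  · apply Nat.Coprime.pow_left
    rw [Nat.Prime.coprime_iff_not_dvd hp]
    intro hpm
    have hpj : p ∣ j := (hm1.dvd_iff (dvd_refl p)).1 hpm
    have := Nat.le_of_dvd hj1 hpj
    omega
  · have := hm2.gcd_eq
    rw [Nat.gcd_one_left] at this
    rw [Nat.coprime_comm]
    exact this

/-- **Schur's theorem** (abstract form): if `G` acts primitively on the finite cyclic group `H`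
of non-prime-power order, extending the regular action of `H`, then the stabilizer of `1`
is transitive on the nonidentity elements. -/
theorem stabilizer_transitive (ι : H →* G) (hι : ∀ h x : H, ι h • x = h * x)
    [Finite H] [IsCyclic H] [IsPreprimitive G H] (hnp : ¬ IsPrimePow (Nat.card H))
    (hn : 2 ≤ Nat.card H) (x y : H) (hx : x ≠ 1) (hy : y ≠ 1) :
    ∃ k : G, k • (1 : H) = 1 ∧ k • x = y := by
  classical
  haveI : Fintype H := Fintype.ofFinite H
  have : Nontrivial H := by
    rw [← Finite.one_lt_card_iff_nontrivial]; omega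
  have hn0 : Nat.card H ≠ 0 := by omega
  -- two distinct primes
  obtain ⟨p, q, hp, hq, hpq, hpn, hqn⟩ : ∃ p q : ℕ, p.Prime ∧ q.Prime ∧ p ≠ q ∧
      p ∣ Nat.card H ∧ q ∣ Nat.card H := by
    have h1 : (Nat.card H).primeFactors.card ≠ 1 := fun h =>
      hnp (isPrimePow_iff_card_primeFactors_eq_one.2 h)
    have h0 : (Nat.card H).primeFactors.card ≠ 0 := by
      rw [Finset.card_ne_zero, Nat.nonempty_primeFactors]; omega
    have h2 : 1 < (Nat.card H).primeFactors.card := by omega
    obtain ⟨p, hp, q, hq, hpq⟩ := Finset.one_lt_card.1 h2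
    rw [Nat.mem_primeFactors] at hp hq
    exact ⟨p, q, hp.1, hq.1, hpq, hp.2.1, hq.2.1⟩
  have : Fact p.Prime := ⟨hp⟩
  have : Fact q.Prime := ⟨hq⟩
  have hcard : Nat.card H = Fintype.card H := Nat.card_eq_fintype_card
  -- the orbit of x
  set T₀ : Finset H := Finset.univ.filter (fun y => ∃ k : G, k • (1 : H) = 1 ∧ k • x = y) with hT₀
  have hT₀K : KInv G (T₀ : Set H) := by
    intro g hg t ht
    rw [Finset.mem_coe, Finset.mem_filter] at ht ⊢
    obtain ⟨_, k, hk1, hkx⟩ := ht
    refine ⟨Finset.mem_univ _, g * k, ?_, ?_⟩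
    · rw [mul_smul, hk1, hg]
    · rw [mul_smul, hkx]
  have hxT₀ : x ∈ T₀ := Finset.mem_filter.2 ⟨Finset.mem_univ _, 1, one_smul _ _, one_smul _ _⟩
  have h1T₀ : (1 : H) ∉ T₀ := by
    intro h
    rw [Finset.mem_filter] at h
    obtain ⟨_, k, hk1, hkx⟩ := h
    exact hx (MulAction.injective k (hkx.trans hk1.symm))
  have hmin : ∀ U : Set H, KInv G U → ∀ u ∈ T₀, u ∈ U → (T₀ : Set H) ⊆ U := by
    intro U hU u hu huU t ht
    rw [Finset.mem_coe, Finset.mem_filter] at ht
    rw [Finset.mem_filter] at hu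
    obtain ⟨_, k, hk1, hkx⟩ := hu
    obtain ⟨_, k', hk'1, hk'x⟩ := ht
    have hxU : x ∈ U := by
      rw [← hkx] at huU
      exact (hU.mem_iff hk1 x).1 huU
    rw [← hk'x]
    exact hU k' hk'1 x hxU
  by_contra hcon
  have hyT₀ : y ∉ T₀ := by
    intro h
    rw [Finset.mem_filter] at h
    exact hcon h.2
  -- the complement
  set T' : Finset H := Finset.univ \ (T₀ ∪ {1}) with hT'
  have hT'set : (T' : Set H) = ((T₀ : Set H) ∪ {1})ᶜ := by
    ext a; simp [hT']
  have hT'K : KInv G (T' : Set H) := by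
    rw [hT'set]; exact (hT₀K.union KInv.one).compl
  have hyT' : y ∈ T' := by
    simp [hT', hyT₀, hy]
  have h1T' : (1 : H) ∉ T' := by simp [hT']
  -- elements of order p, q
  obtain ⟨xp, hxpT, hxpp⟩ := exists_pow_eq_one ι hι p (hcard ▸ hpn) hT₀K ⟨x, hxT₀⟩ h1T₀
  obtain ⟨xq, hxqT, hxqq⟩ := exists_pow_eq_one ι hι q (hcard ▸ hqn) hT₀K ⟨x, hxT₀⟩ h1T₀
  obtain ⟨y', hy'T, hy'p⟩ := exists_pow_eq_one ι hι p (hcard ▸ hpn) hT'K ⟨y, hyT'⟩ h1T'
  have hxp1 : xp ≠ 1 := fun h => h1T₀ (h ▸ hxpT)
  have hxq1 : xq ≠ 1 := fun h => h1T₀ (h ▸ hxqT)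
  have hy'1 : y' ≠ 1 := fun h => h1T' (h ▸ hy'T)
  have hoxp : orderOf xp = p := orderOf_eq_prime hxpp hxp1
  have hoxq : orderOf xq = q := orderOf_eq_prime hxqq hxq1
  -- y' is a power of xp
  have hy'pow : y' ∈ Submonoid.powers xp := by
    have hsub : (Finset.range (orderOf xp)).image (xp ^ ·) ⊆
        Finset.univ.filter (fun a : H => a ^ p = 1) := by
      intro a ha
      rw [Finset.mem_image] at ha
      obtain ⟨i, _, rfl⟩ := ha
      rw [Finset.mem_filter]
      refine ⟨Finset.mem_univ _, ?_⟩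
      rw [← pow_mul, mul_comm, pow_mul, hxpp, one_pow]
    have hcard1 : ((Finset.range (orderOf xp)).image (xp ^ ·)).card = p := by
      rw [Finset.card_image_of_injOn, Finset.card_range, hoxp]
      intro a ha b hb hab
      exact pow_injOn_Iio_orderOf (by simpa using ha) (by simpa using hb) hab
    have hle := card_fibre_le (H := H) p hp.pos 1
    have heq := Finset.eq_of_subset_of_card_le hsub (by rw [hcard1]; exact hle)
    rw [mem_powers_iff_mem_range_orderOf, heq, Finset.mem_filter]
    exact ⟨Finset.mem_univ _, hy'p⟩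
  obtain ⟨j, hj⟩ := hy'pow
  -- reduce j mod p
  have hj' : xp ^ (j % p) = y' := by
    have : xp ^ (j % p) = xp ^ j := by
      rw [← hoxp]; exact pow_mod_orderOf xp j
    rw [this]; exact hj
  have hj1 : 1 ≤ j % p := by
    rcases Nat.eq_zero_or_pos (j % p) with h | h
    · rw [h, pow_zero] at hj'; exact absurd hj'.symm hy'1
    · exact h
  have hjp : j % p < p := Nat.mod_lt _ hp.pos
  obtain ⟨m, hmcop, hmp, hmq⟩ := exists_coprime_modEq hn0 hp hq hpq hqn hj1 hjp
  -- the image of T₀ under the m-th power map is T₀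
  have himK := KInv_image_pow ι hι m hmcop T₀ hT₀K
  have hxqm : xq ^ m = xq := by
    have : xq ^ m = xq ^ 1 := by
      rw [pow_eq_pow_iff_modEq, hoxq]; exact hmq
    rw [this, pow_one]
  have hsub : T₀ ⊆ T₀.image (fun t => t ^ m) := by
    have := hmin _ himK xq hxqT (by
      rw [Finset.mem_coe, Finset.mem_image]; exact ⟨xq, hxqT, hxqm⟩)
    exact_mod_cast this
  have heq : T₀ = T₀.image (fun t => t ^ m) :=
    Finset.eq_of_subset_of_card_le hsub Finset.card_image_le
  have hy'T₀ : y' ∈ T₀ := by
    rw [heq, Finset.mem_image]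
    refine ⟨xp, hxpT, ?_⟩
    rw [← hj']
    rw [pow_eq_pow_iff_modEq, hoxp]
    exact hmp
  have : y' ∉ T₀ := by
    have := hy'T
    simp only [hT', Finset.mem_sdiff, Finset.mem_union, not_or] at this
    exact this.2.1
  exact this hy'T₀

end Cfsg.Agent.Helper64.SchurRing
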