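import Cfsg.Agent.Lib.Helper64.SchurRing

set_option autoImplicit false

/-!
# Schur's theorem on regular cyclic subgroups: the general composite case

For every nontrivial basic set `T` and prime `p` dividing `|H|` with `p < |H|`,
at least `p / 2` elements of `T` satisfy `t ^ p = 1`.  Hence there is only one nontrivial
basic set.
-/

namespace Cfsg.Agent.Helper64.SchurRing

open MulAction

variable {G H : Type*} [Group G] [CommGroup H] [MulAction G H] [Fintype H] [DecidableEq H]

/-- Fibres of the `p`-th power map over non-identity elements are entirely inside or outside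
a `K`-invariant set. -/
theorem fibre_subset (ι : H →* G) (hι : ∀ h x : H, ι h • x = h * x)
    [IsCyclic H] [IsPreprimitive G H] [Nontrivial H] (p : ℕ) [hp : Fact p.Prime]
    (hpd : p ∣ Fintype.card H) {T : Finset H} (hT : KInv G (T : Set H))
    {t : H} (ht : t ∈ T) (htp : t ^ p ≠ 1) (x : H) (hx : x ^ p = t ^ p) : x ∈ T := by
  obtain ⟨z, hz⟩ := exists_prime_orderOf_dvd_card p hpd
  have hz1 : z ≠ 1 := by
    intro h; rw [h, orderOf_one] at hz; exact hp.out.one_lt.ne hz
  have hzp : z ^ p = 1 := by rw [← hz]; exact pow_orderOf_eq_one z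
  have hA : ∀ y : H, y ≠ 1 → p ∣ powFib T p y := by
    intro y hy1
    by_contra hnd
    set Y : Set H := {y | ¬ p ∣ powFib T p y} \ {1} with hY
    have hYK : KInv G Y := (KInv_powFib ι hι p hT).diff KInv.one
    have hyY : y ∈ Y := ⟨hnd, hy1⟩
    have htop := closure_eq_top_of_kinv ι hι hYK hyY hy1
    have hsub : Y ⊆ ((powMonoidHom p : H →* H).range : Set H) := by
      intro y' hy'
      have h0 : 0 < powFib T p y' := by
        rcases Nat.eq_zero_or_pos (powFib T p y') with h | h
        · exact absurd (h ▸ dvd_zero p) hy'.1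
        · exact h
      obtain ⟨t, _, hty⟩ := (powFib_pos_iff T p y').1 h0
      exact ⟨t, hty⟩
    have hrange : (powMonoidHom p : H →* H).range = ⊤ := by
      rw [eq_top_iff, ← htop]
      exact (Subgroup.closure_le _).2 hsub
    have hsurj : Function.Surjective (powMonoidHom p : H →* H) :=
      MonoidHom.range_eq_top.1 hrange
    have hinj : Function.Injective (powMonoidHom p : H →* H) :=
      Finite.injective_iff_surjective.2 hsurj
    have : z = 1 := hinj (by simp [hzp])
    exact hz1 this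
  have hdvd := hA (t ^ p) htp
  have hpos : 0 < powFib T p (t ^ p) := (powFib_pos_iff T p _).2 ⟨t, ht, rfl⟩
  have hge : p ≤ powFib T p (t ^ p) := Nat.le_of_dvd hpos hdvd
  have hle := card_fibre_le p hp.out.pos (t ^ p)
  have hsub : T.filter (fun x => x ^ p = t ^ p) ⊆
      Finset.univ.filter (fun x : H => x ^ p = t ^ p) := by
    intro a ha
    rw [Finset.mem_filter] at ha ⊢
    exact ⟨Finset.mem_univ _, ha.2⟩
  have heq := Finset.eq_of_subset_of_card_le hsub (le_trans hle hge)
  have hxm : x ∈ Finset.univ.filter (fun x : H => x ^ p = t ^ p) :=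
    Finset.mem_filter.2 ⟨Finset.mem_univ _, hx⟩
  rw [← heq, Finset.mem_filter] at hxm
  exact hxm.1

/-- Invariance of the intersection numbers `|T ∩ uT|` under the stabilizer of `1`. -/
theorem card_filter_mul_inv_smul (ι : H →* G) (hι : ∀ h x : H, ι h • x = h * x)
    {T : Finset H} (hT : KInv G (T : Set H)) {k : G} (hk : k • (1 : H) = 1) (u : H) :
    (T.filter (fun t => t * (k • u)⁻¹ ∈ T)).card = (T.filter (fun t => t * u⁻¹ ∈ T)).card := by
  have hk' : k⁻¹ • (1 : H) = 1 := by rw [inv_smul_eq_iff, hk]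
  apply Finset.card_nbij' (fun t => k⁻¹ • t) (fun t => k • t)
  · intro t ht
    rw [Finset.mem_coe, Finset.mem_filter] at ht ⊢
    refine ⟨(hT.mem_iff hk' t).2 ht.1, ?_⟩
    have := edge_iff ι hι hT k u (k⁻¹ • t)
    rw [smul_inv_smul] at this
    exact this.1 ht.2
  · intro t ht
    rw [Finset.mem_coe, Finset.mem_filter] at ht ⊢
    refine ⟨(hT.mem_iff hk t).2 ht.1, ?_⟩
    exact (edge_iff ι hι hT k u t).2 ht.2
  · intro t _; exact smul_inv_smul k t
  · intro t _; exact inv_smul_smul k t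

omit [Fintype H] in
/-- A finset invariant under multiplication by an element of order `p` has cardinality
divisible by `p`. -/
theorem dvd_card_of_invariant (p : ℕ) [hp : Fact p.Prime] {z₀ : H} (hz₀ : z₀ ≠ 1)
    (hz₀p : z₀ ^ p = 1) {S : Finset H} (hS : ∀ s ∈ S, z₀ * s ∈ S) : p ∣ S.card := by
  let f : Function.End {x // x ∈ S} := fun s => ⟨z₀ * s.1, hS s.1 s.2⟩
  have hpow : ∀ n : ℕ, ∀ s : {x // x ∈ S}, ((f ^ n) s : H) = z₀ ^ n * s.1 := by
    intro n
    induction n with
    | zero => intro s; rw [pow_zero, pow_zero, one_mul]; rfl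
    | succ n ih =>
      intro s
      rw [pow_succ']
      change z₀ * ((f ^ n) s : H) = _
      rw [ih, pow_succ', mul_assoc]
  have hf : f ^ p ^ 1 = 1 := by
    rw [pow_one]
    funext s
    apply Subtype.ext
    rw [hpow, hz₀p, one_mul]
    rfl
  have h := Equiv.Perm.card_fixedPoints_modEq (p := p) (n := 1) hf
  have hfix : Fintype.card (Function.fixedPoints f) = 0 := by
    rw [Fintype.card_eq_zero_iff]
    constructor
    rintro ⟨s, hs⟩
    have : (f s : H) = s.1 := congrArg Subtype.val hs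
    change z₀ * s.1 = s.1 at this
    exact hz₀ (mul_eq_right.1 this)
  rw [hfix, Fintype.card_coe] at h
  exact (Nat.modEq_zero_iff_dvd).1 h


/-- The key counting lemma: a nontrivial basic set `T` contains at least `p / 2` elements
with `t ^ p = 1`, for each prime `p ∣ |H|` with `p < |H|`. -/
theorem two_mul_card_ge (ι : H →* G) (hι : ∀ h x : H, ι h • x = h * x)
    [IsCyclic H] [IsPreprimitive G H] [Nontrivial H] (p : ℕ) [hp : Fact p.Prime]
    (hpd : p ∣ Fintype.card H) (hlt : p < Fintype.card H) {T : Finset H}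
    (hT : KInv G (T : Set H)) (hne : T.Nonempty) (h1 : (1 : H) ∉ T)
    (horb : ∀ a ∈ T, ∀ b ∈ T, ∃ k : G, k • (1 : H) = 1 ∧ k • a = b) :
    p ≤ 2 * (T.filter (fun t => t ^ p = 1)).card := by
  set A := T.filter (fun t => t ^ p = 1) with hA
  obtain ⟨z₀, hz⟩ := exists_prime_orderOf_dvd_card p hpd
  have hz1 : z₀ ≠ 1 := by
    intro h; rw [h, orderOf_one] at hz; exact hp.out.one_lt.ne hz
  have hzp : z₀ ^ p = 1 := by rw [← hz]; exact pow_orderOf_eq_one z₀
  obtain ⟨x, hxT, hxp⟩ := exists_pow_eq_one ι hι p hpd hT hne h1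
  have hx1 : x ≠ 1 := fun h => h1 (h ▸ hxT)
  have hxA : x ∈ A := Finset.mem_filter.2 ⟨hxT, hxp⟩
  -- an element of T outside the p-torsion
  obtain ⟨y, hyT, hyp⟩ : ∃ y ∈ T, y ^ p ≠ 1 := by
    by_contra hno
    push Not at hno
    have htop := closure_eq_top_of_kinv ι hι hT (Finset.mem_coe.2 hxT) hx1
    have hsub : (T : Set H) ⊆ ((powMonoidHom p : H →* H).ker : Set H) := by
      intro t ht
      rw [SetLike.mem_coe, MonoidHom.mem_ker, powMonoidHom_apply]
      exact hno t ht
    have hker : (powMonoidHom p : H →* H).ker = ⊤ := by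
      rw [eq_top_iff, ← htop]; exact (Subgroup.closure_le _).2 hsub
    have hall : ∀ a : H, a ^ p = 1 := by
      intro a
      have : a ∈ (powMonoidHom p : H →* H).ker := hker ▸ Subgroup.mem_top a
      rwa [MonoidHom.mem_ker, powMonoidHom_apply] at this
    have hle := card_fibre_le (H := H) p hp.out.pos 1
    have : Finset.univ.filter (fun a : H => a ^ p = 1) = Finset.univ :=
      Finset.filter_true_of_mem (fun a _ => hall a)
    rw [this, Finset.card_univ] at hle
    omega
  have hAcard : A.card + 1 ≤ p := by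
    have hle := card_fibre_le (H := H) p hp.out.pos 1
    have hsub : insert 1 A ⊆ Finset.univ.filter (fun a : H => a ^ p = 1) := by
      intro a ha
      rw [Finset.mem_insert] at ha
      rw [Finset.mem_filter]
      refine ⟨Finset.mem_univ _, ?_⟩
      rcases ha with rfl | ha
      · exact one_pow _
      · exact (Finset.mem_filter.1 ha).2
    have h2 := Finset.card_le_card hsub
    rw [Finset.card_insert_of_notMem (fun h => h1 (Finset.mem_filter.1 h).1)] at h2
    exact le_trans h2 hle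
  have hApos : 0 < A.card := Finset.card_pos.2 ⟨x, hxA⟩
  obtain ⟨k, hk1, hkx⟩ := horb x hxT y hyT
  have hν := card_filter_mul_inv_smul ι hι hT hk1 x
  rw [hkx] at hν
  have hfib : ∀ t ∈ T, t ^ p ≠ 1 → ∀ a : H, a ^ p = t ^ p → a ∈ T :=
    fun t ht htp a ha => fibre_subset ι hι p hpd hT ht htp a ha
  set Fx := T.filter (fun t => t * x⁻¹ ∈ T) with hFx
  set Fy := T.filter (fun t => t * y⁻¹ ∈ T) with hFy
  -- count for x
  have hFx_split : (Fx.filter (fun t => t ^ p = 1)).card +
      (Fx.filter (fun t => ¬ t ^ p = 1)).card = Fx.card :=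
    Finset.card_filter_add_card_filter_not _
  have hFx_D : p ∣ (Fx.filter (fun t => ¬ t ^ p = 1)).card := by
    apply dvd_card_of_invariant p hz1 hzp
    intro s hs
    rw [Finset.mem_filter, Finset.mem_filter] at hs ⊢
    obtain ⟨⟨hsT, hsx⟩, hsp⟩ := hs
    have h1' : (z₀ * s) ^ p = s ^ p := by rw [mul_pow, hzp, one_mul]
    refine ⟨⟨hfib s hsT hsp _ h1', ?_⟩, by rw [h1']; exact hsp⟩
    have h2 : (s * x⁻¹) ^ p = s ^ p := by rw [mul_pow, inv_pow, hxp, inv_one, mul_one]
    have h3 : (z₀ * s * x⁻¹) ^ p = (s * x⁻¹) ^ p := by rw [mul_assoc, mul_pow, hzp, one_mul]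
    exact hfib (s * x⁻¹) hsx (by rw [h2]; exact hsp) _ h3
  have hFx_A : (Fx.filter (fun t => t ^ p = 1)).card + 1 ≤ A.card := by
    have hsub : Fx.filter (fun t => t ^ p = 1) ⊆ A.erase x := by
      intro t ht
      rw [Finset.mem_filter, Finset.mem_filter] at ht
      rw [Finset.mem_erase, Finset.mem_filter]
      refine ⟨?_, ht.1.1, ht.2⟩
      rintro rfl
      rw [mul_inv_cancel] at ht
      exact h1 ht.1.2
    have h2 := Finset.card_le_card hsub
    rw [Finset.card_erase_of_mem hxA] at h2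
    omega
  -- count for y
  set P1 := Fy.filter (fun t => t ^ p = 1) with hP1
  set Q := Fy.filter (fun t => ¬ t ^ p = 1) with hQ
  set P2 := Q.filter (fun t => (t * y⁻¹) ^ p = 1) with hP2
  set P3 := Q.filter (fun t => ¬ (t * y⁻¹) ^ p = 1) with hP3
  have hFy_split : P1.card + Q.card = Fy.card := Finset.card_filter_add_card_filter_not _
  have hQ_split : P2.card + P3.card = Q.card := Finset.card_filter_add_card_filter_not _
  have hP3d : p ∣ P3.card := by
    apply dvd_card_of_invariant p hz1 hzp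
    intro s hs
    rw [hP3, hQ, Finset.mem_filter, Finset.mem_filter, Finset.mem_filter] at hs ⊢
    obtain ⟨⟨⟨hsT, hsy⟩, hsp⟩, hsyp⟩ := hs
    have h1' : (z₀ * s) ^ p = s ^ p := by rw [mul_pow, hzp, one_mul]
    have h3 : (z₀ * s * y⁻¹) ^ p = (s * y⁻¹) ^ p := by rw [mul_assoc, mul_pow, hzp, one_mul]
    refine ⟨⟨⟨hfib s hsT hsp _ h1', hfib (s * y⁻¹) hsy hsyp _ h3⟩, by rw [h1']; exact hsp⟩, ?_⟩
    rw [h3]; exact hsyp
  have hP2c : P2.card = A.card := by
    apply Finset.card_nbij' (fun t => t * y⁻¹) (fun a => a * y)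
    · intro t ht
      rw [Finset.mem_coe, hP2, hQ, Finset.mem_filter, Finset.mem_filter, Finset.mem_filter] at ht
      rw [Finset.mem_coe, Finset.mem_filter]
      exact ⟨ht.1.1.2, ht.2⟩
    · intro a ha
      rw [Finset.mem_coe, Finset.mem_filter] at ha
      rw [Finset.mem_coe, hP2, hQ, Finset.mem_filter, Finset.mem_filter, Finset.mem_filter]
      have h4 : (a * y) ^ p = y ^ p := by rw [mul_pow, ha.2, one_mul]
      refine ⟨⟨⟨hfib y hyT hyp _ h4, ?_⟩, by rw [h4]; exact hyp⟩, ?_⟩
      · rw [mul_inv_cancel_right]; exact ha.1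
      · rw [mul_inv_cancel_right]; exact ha.2
    · intro t _; exact inv_mul_cancel_right t y
    · intro a _; exact mul_inv_cancel_right a y
  have hP1c : P1.card = 0 ∨ P1.card = A.card := by
    rcases Finset.eq_empty_or_nonempty P1 with h | ⟨t₁, ht₁⟩
    · left; rw [h]; rfl
    · right
      rw [hP1, Finset.mem_filter, Finset.mem_filter] at ht₁
      obtain ⟨⟨ht₁T, ht₁y⟩, ht₁p⟩ := ht₁
      have h5 : (t₁ * y⁻¹) ^ p = (y ^ p)⁻¹ := by rw [mul_pow, ht₁p, one_mul, inv_pow]
      have h6 : (t₁ * y⁻¹) ^ p ≠ 1 := by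
        rw [h5]; simpa using hyp
      have : P1 = A := by
        apply Finset.Subset.antisymm
        · intro a ha
          rw [hP1, Finset.mem_filter, Finset.mem_filter] at ha
          exact Finset.mem_filter.2 ⟨ha.1.1, ha.2⟩
        · intro a ha
          rw [Finset.mem_filter] at ha
          rw [hP1, Finset.mem_filter, Finset.mem_filter]
          refine ⟨⟨ha.1, ?_⟩, ha.2⟩
          apply hfib (t₁ * y⁻¹) ht₁y h6
          rw [h5, mul_pow, ha.2, one_mul, inv_pow]
      rw [this]
  -- the congruence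
  obtain ⟨dx, hdx⟩ := hFx_D
  obtain ⟨d3, hd3⟩ := hP3d
  set ax := (Fx.filter (fun t => t ^ p = 1)).card with hax
  have hmod : ax ≡ P1.card + A.card [MOD p] := by
    have e1 : ax + p * dx = P1.card + A.card + p * d3 := by
      rw [← hdx, ← hd3, hFx_split, ← hν, ← hFy_split, ← hQ_split, hP2c]
      ring
    have e2 : ax + p * dx ≡ ax [MOD p] := Nat.add_mul_mod_self_left _ _ _
    have e3 : P1.card + A.card + p * d3 ≡ P1.card + A.card [MOD p] :=
      Nat.add_mul_mod_self_left _ _ _
    exact (e2.symm.trans (e1 ▸ Nat.ModEq.refl _)).trans e3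
  by_contra hcon
  push Not at hcon
  rcases hP1c with h | h
  · rw [h, zero_add] at hmod
    have := hmod.eq_of_lt_of_lt (by omega) (by omega)
    omega
  · rw [h] at hmod
    have := hmod.eq_of_lt_of_lt (by omega) (by omega)
    omega


/-- The orbit of `x` under the stabilizer of `1`, as a finset. -/
noncomputable def orbFin (G : Type*) {H : Type*} [Group G] [CommGroup H] [MulAction G H]
    [Fintype H] (x : H) : Finset H :=
  open Classical in Finset.univ.filter (fun y => ∃ k : G, k • (1 : H) = 1 ∧ k • x = y)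

omit [DecidableEq H] in
theorem mem_orbFin {x y : H} : y ∈ orbFin G x ↔ ∃ k : G, k • (1 : H) = 1 ∧ k • x = y := by
  classical
  unfold orbFin
  rw [Finset.mem_filter]
  simp

omit [DecidableEq H] in
theorem orbFin_kinv (x : H) : KInv G (orbFin G x : Set H) := by
  intro g hg t ht
  rw [Finset.mem_coe, mem_orbFin] at ht ⊢
  obtain ⟨k, hk1, hkx⟩ := ht
  exact ⟨g * k, by rw [mul_smul, hk1, hg], by rw [mul_smul, hkx]⟩

omit [DecidableEq H] in
theorem self_mem_orbFin (x : H) : x ∈ orbFin G x :=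
  mem_orbFin.2 ⟨1, one_smul _ _, one_smul _ _⟩

omit [DecidableEq H] in
theorem one_notMem_orbFin {x : H} (hx : x ≠ 1) : (1 : H) ∉ orbFin G x := by
  intro h
  obtain ⟨k, hk1, hkx⟩ := mem_orbFin.1 h
  exact hx (MulAction.injective k (hkx.trans hk1.symm))

omit [DecidableEq H] in
theorem orbFin_orb (x : H) : ∀ a ∈ orbFin G x, ∀ b ∈ orbFin G x,
    ∃ k : G, k • (1 : H) = 1 ∧ k • a = b := by
  intro a ha b hb
  obtain ⟨k, hk1, hkx⟩ := mem_orbFin.1 ha
  obtain ⟨k', hk'1, hk'x⟩ := mem_orbFin.1 hb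
  refine ⟨k' * k⁻¹, ?_, ?_⟩
  · rw [mul_smul, inv_smul_eq_iff.2 hk1.symm, hk'1]
  · rw [mul_smul, ← hkx, inv_smul_smul, hk'x]

omit [Fintype H] [DecidableEq H] in
/-- **Schur's theorem** for regular cyclic subgroups of composite order (abstract form). -/
theorem stabilizer_transitive_composite (ι : H →* G) (hι : ∀ h x : H, ι h • x = h * x)
    [Finite H] [IsCyclic H] [IsPreprimitive G H] (p : ℕ) (hp : p.Prime)
    (hpd : p ∣ Nat.card H) (hlt : p < Nat.card H) (x y : H) (hx : x ≠ 1) (hy : y ≠ 1) :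
    ∃ k : G, k • (1 : H) = 1 ∧ k • x = y := by
  classical
  have : Fintype H := Fintype.ofFinite H
  have : Nontrivial H := by
    rw [← Finite.one_lt_card_iff_nontrivial]
    have := hp.two_le
    omega
  have : Fact p.Prime := ⟨hp⟩
  have hcard : Nat.card H = Fintype.card H := Nat.card_eq_fintype_card
  rw [hcard] at hpd hlt
  by_contra hcon
  have hyx : y ∉ orbFin G x := fun h => hcon (mem_orbFin.1 h)
  have hdisj : Disjoint (orbFin G x) (orbFin G y) := by
    rw [Finset.disjoint_left]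
    intro u hux huy
    apply hyx
    obtain ⟨k, hk1, hku⟩ := orbFin_orb y u huy y (self_mem_orbFin y)
    exact hku ▸ (orbFin_kinv x k hk1 u hux)
  have hX := two_mul_card_ge ι hι p hpd hlt (orbFin_kinv x) ⟨x, self_mem_orbFin x⟩
    (one_notMem_orbFin hx) (orbFin_orb x)
  have hY := two_mul_card_ge ι hι p hpd hlt (orbFin_kinv y) ⟨y, self_mem_orbFin y⟩
    (one_notMem_orbFin hy) (orbFin_orb y)
  set Ax := (orbFin G x).filter (fun t => t ^ p = 1) with hAx
  set Ay := (orbFin G y).filter (fun t => t ^ p = 1) with hAy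
  have hdisjA : Disjoint Ax Ay := by
    rw [Finset.disjoint_left]
    intro u hux huy
    exact (Finset.disjoint_left.1 hdisj) (Finset.mem_filter.1 hux).1 (Finset.mem_filter.1 huy).1
  have hsub : insert 1 (Ax ∪ Ay) ⊆ Finset.univ.filter (fun a : H => a ^ p = 1) := by
    intro a ha
    rw [Finset.mem_insert, Finset.mem_union] at ha
    rw [Finset.mem_filter]
    refine ⟨Finset.mem_univ _, ?_⟩
    rcases ha with rfl | ha | ha
    · exact one_pow _
    · exact (Finset.mem_filter.1 ha).2
    · exact (Finset.mem_filter.1 ha).2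
  have h1 : (1 : H) ∉ Ax ∪ Ay := by
    rw [Finset.mem_union]
    rintro (h | h)
    · exact one_notMem_orbFin hx (Finset.mem_filter.1 h).1
    · exact one_notMem_orbFin hy (Finset.mem_filter.1 h).1
  have h2 := Finset.card_le_card hsub
  rw [Finset.card_insert_of_notMem h1, Finset.card_union_of_disjoint hdisjA] at h2
  have hle := card_fibre_le (H := H) p hp.pos 1
  omega


/-- **Schur's theorem**: a primitive group containing a regular cyclic subgroup of composite
order is doubly transitive. (`p` is any prime divisor of the degree, smaller than the degree.) -/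
theorem two_transitive_of_regular_cyclic {Γ Ω : Type*} [Group Γ] [MulAction Γ Ω] [Finite Ω]
    (C : Subgroup Γ) [hcyc : IsCyclic ↥C] (α : Ω)
    (hbij : Function.Bijective (fun c : ↥C => c • α))
    (hprim : MulAction.IsPreprimitive Γ Ω) (p : ℕ) (hp : p.Prime)
    (hpd : p ∣ Nat.card Ω) (hlt : p < Nat.card Ω) :
    MulAction.IsMultiplyPretransitive Γ Ω 2 := by
  have htrans : MulAction.IsPretransitive Γ Ω := hprim.toIsPretransitive
  let e : ↥C ≃ Ω := Equiv.ofBijective _ hbij
  have he : ∀ c : ↥C, e c = c • α := fun c => rfl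
  letI : CommGroup ↥C := IsCyclic.commGroup
  letI act : MulAction Γ ↥C := Equiv.mulAction Γ e
  have hsmul : ∀ (g : Γ) (c : ↥C), e (g • c) = g • e c := by
    intro g c
    change e (e.symm (g • e c)) = g • e c
    rw [Equiv.apply_symm_apply]
  have hι : ∀ h x : ↥C, (C.subtype h) • x = h * x := by
    intro h x
    apply e.injective
    rw [hsmul, he, he, mul_smul]
    rfl
  let f : ↥C →ₑ[@id Γ] Ω := ⟨e, fun g c => hsmul g c⟩
  have : MulAction.IsPreprimitive Γ ↥C :=
    (MulAction.isPreprimitive_congr (f := f) Function.surjective_id e.bijective).2 hprim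
  have hcard : Nat.card ↥C = Nat.card Ω := Nat.card_congr e
  have : Finite ↥C := Finite.of_equiv _ e.symm
  have hkey := stabilizer_transitive_composite (G := Γ) (H := ↥C) C.subtype hι p hp
    (hcard ▸ hpd) (hcard ▸ hlt)
  have he1 : e 1 = α := by rw [he, one_smul]
  have hstab : ∀ b d : Ω, b ≠ α → d ≠ α → ∃ k : Γ, k • α = α ∧ k • b = d := by
    intro b d hb hd
    obtain ⟨x, rfl⟩ := e.surjective b
    obtain ⟨y, rfl⟩ := e.surjective d
    have hx : x ≠ 1 := fun h => hb (h ▸ he1)
    have hy : y ≠ 1 := fun h => hd (h ▸ he1)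
    obtain ⟨k, hk1, hkx⟩ := hkey x y hx hy
    refine ⟨k, ?_, ?_⟩
    · rw [← he1, ← hsmul, hk1]
    · rw [← hsmul, hkx]
  rw [MulAction.is_two_pretransitive_iff]
  intro a b c d hab hcd
  obtain ⟨g₁, hg₁⟩ := htrans.exists_smul_eq a α
  obtain ⟨g₂, hg₂⟩ := htrans.exists_smul_eq c α
  have hb' : g₁ • b ≠ α := by
    intro h
    apply hab
    have : g₁ • b = g₁ • a := h.trans hg₁.symm
    exact (MulAction.injective g₁ this).symm
  have hd' : g₂ • d ≠ α := by
    intro h
    apply hcd
    have : g₂ • d = g₂ • c := h.trans hg₂.symm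
    exact (MulAction.injective g₂ this).symm
  obtain ⟨k, hkα, hkb⟩ := hstab _ _ hb' hd'
  refine ⟨g₂⁻¹ * k * g₁, ?_, ?_⟩
  · rw [mul_smul, mul_smul, hg₁, hkα, inv_smul_eq_iff, hg₂]
  · rw [mul_smul, mul_smul, hkb, inv_smul_smul]

/-- In a cyclic group `⟨g⟩` of order `p ^ m` (`m ≥ 1`), every nontrivial subgroup contains
`g ^ (p ^ (m - 1))`. -/
theorem pow_mem_of_ne_bot {Γ : Type*} [Group Γ] {p m : ℕ} (hp : p.Prime) (hm : 1 ≤ m) {g : Γ}
    (hg : orderOf g = p ^ m) {M : Subgroup Γ} (hM : M ≤ Subgroup.zpowers g) (hne : M ≠ ⊥) :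
    g ^ (p ^ (m - 1)) ∈ M := by
  have hgfin : IsOfFinOrder g := by
    rw [← orderOf_pos_iff, hg]; exact pow_pos hp.pos m
  set z := g ^ (p ^ (m - 1)) with hz
  have hmm : p ^ m = p ^ (m - 1) * p := by
    rw [← pow_succ]; congr 1; omega
  have hzord : orderOf z = p := by
    rw [hz, orderOf_pow' g (pow_ne_zero _ hp.pos.ne'), hg]
    have hgcd : Nat.gcd (p ^ m) (p ^ (m - 1)) = p ^ (m - 1) :=
      Nat.gcd_eq_right (pow_dvd_pow p (Nat.sub_le m 1))
    rw [hgcd, hmm, Nat.mul_div_cancel_left _ (pow_pos hp.pos _)]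
  obtain ⟨u, huM, hu1⟩ : ∃ u ∈ M, u ≠ 1 := by
    by_contra hno
    push Not at hno
    exact hne ((Subgroup.eq_bot_iff_forall M).2 hno)
  have hu := hM huM
  rw [← hgfin.mem_powers_iff_mem_zpowers] at hu
  obtain ⟨j, hj⟩ := hu
  have hj' : g ^ j = u := hj
  have hj0 : j ≠ 0 := by
    rintro rfl
    rw [pow_zero] at hj'
    exact hu1 hj'.symm
  obtain ⟨a, j', hpj', hja⟩ := Nat.exists_eq_pow_mul_and_not_dvd hj0 p hp.ne_one
  have ham : a < m := by
    by_contra hge
    push Not at hge
    apply hu1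
    rw [← hj', hja]
    have : p ^ m ∣ p ^ a * j' := Dvd.dvd.mul_right (pow_dvd_pow p hge) j'
    rw [← hg] at this
    exact orderOf_dvd_iff_pow_eq_one.1 this
  -- u ^ (p ^ (m - 1 - a)) = z ^ j'
  have hpow : u ^ (p ^ (m - 1 - a)) = z ^ j' := by
    rw [← hj', hja, hz, ← pow_mul, ← pow_mul]
    congr 1
    have : p ^ (m - 1) = p ^ a * p ^ (m - 1 - a) := by
      rw [← pow_add]; congr 1; omega
    rw [this]; ring
  have hzj : z ^ j' ∈ M := hpow ▸ M.pow_mem huM _
  have hcop : Nat.Coprime j' p := (Nat.Prime.coprime_iff_not_dvd hp).2 hpj' |>.symm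
  obtain ⟨i, -, hi⟩ := Nat.exists_mul_mod_eq_one_of_coprime hcop hp.one_lt
  have : (z ^ j') ^ i = z := by
    rw [← pow_mul]
    have h1 : z ^ (j' * i) = z ^ 1 := by
      rw [pow_eq_pow_iff_modEq, hzord]
      unfold Nat.ModEq
      rw [hi, Nat.mod_eq_of_lt hp.one_lt]
    rw [h1, pow_one]
  rw [← this]
  exact M.pow_mem hzj _

end Cfsg.Agent.Helper64.SchurRing
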