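import Mathlib

set_option autoImplicit false

namespace Cfsg.Agent.Helper64

open Subgroup

/-- Normalizers grow in a Sylow subgroup: if `D < P` then some element of `P` outside `D` normalizes `D`. -/
theorem exists_mem_normalizer_not_mem {G : Type*} [Group G] [Finite G] {p : ℕ} [Fact p.Prime]
    (P : Sylow p G) (D : Subgroup G) (hDP : D < (P : Subgroup G)) :
    ∃ y ∈ (P : Subgroup G), y ∈ normalizer (D : Set G) ∧ y ∉ D := by
  have hnil : Group.IsNilpotent (P : Subgroup G) := P.2.isNilpotent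
  have hnc : NormalizerCondition (P : Subgroup G) := Group.normalizerCondition_of_isNilpotent
  have hlt : D.subgroupOf (P : Subgroup G) < ⊤ := by
    rw [lt_top_iff_ne_top, Ne, subgroupOf_eq_top]
    exact not_le_of_gt hDP
  have h2 := hnc _ hlt
  obtain ⟨y, hyN, hyD⟩ := SetLike.exists_of_lt h2
  refine ⟨y.1, y.2, ?_, ?_⟩
  · rw [mem_normalizer_iff] at hyN ⊢
    intro d
    constructor
    · intro hd
      have := (hyN ⟨d, hDP.le hd⟩).mp (by rw [mem_subgroupOf]; exact hd)
      rw [mem_subgroupOf] at this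
      simpa using this
    · intro hd
      have hdP : d ∈ (P : Subgroup G) := by
        have h1 : (y.1)⁻¹ * (y.1 * d * (y.1)⁻¹) * y.1 ∈ (P : Subgroup G) :=
          (P : Subgroup G).mul_mem ((P : Subgroup G).mul_mem ((P : Subgroup G).inv_mem y.2) (hDP.le hd)) y.2
        simpa [mul_assoc] using h1
      have := (hyN ⟨d, hdP⟩).mpr (by rw [mem_subgroupOf]; simpa using hd)
      rw [mem_subgroupOf] at this
      exact this
  · intro h
    exact hyD (by rw [mem_subgroupOf]; exact h)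

/-- In a `p`-closed group, two `p`-subgroups lie in a common Sylow `p`-subgroup. -/
theorem exists_sylow_ge_of_pclosed {N : Type*} [Group N] [Finite N] {p : ℕ} [Fact p.Prime]
    (hcl : ∀ S : Sylow p N, (S : Subgroup N).Normal) (A B : Subgroup N) (hA : IsPGroup p A)
    (hB : IsPGroup p B) : ∃ S : Sylow p N, A ≤ S ∧ B ≤ S := by
  obtain ⟨S₁, h1⟩ := hA.exists_le_sylow
  obtain ⟨S₂, h2⟩ := hB.exists_le_sylow
  obtain ⟨n, hn⟩ := MulAction.exists_smul_eq N S₁ S₂
  have : (S₁ : Subgroup N).Normal := hcl S₁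
  rw [Sylow.smul_eq_of_normal] at hn
  subst hn
  exact ⟨S₁, h1, h2⟩

/-- If the normalizer of every nontrivial `p`-subgroup is `p`-closed, Sylow `p`-subgroups are TI. -/
theorem sylow_inf_eq_bot_of_normalizers_pclosed {G : Type*} [Group G] [Finite G] {p : ℕ}
    [Fact p.Prime]
    (hN : ∀ D : Subgroup G, D ≠ ⊥ → IsPGroup p D →
      ∀ S : Sylow p (normalizer (D : Set G)), (S : Subgroup (normalizer (D : Set G))).Normal)
    (P Q : Sylow p G) (hPQ : P ≠ Q) : (P : Subgroup G) ⊓ (Q : Subgroup G) = ⊥ := by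
  by_contra hD
  let α := {x : Sylow p G × Sylow p G // x.1 ≠ x.2 ∧ (x.1 : Subgroup G) ⊓ (x.2 : Subgroup G) ≠ ⊥}
  have hne : Nonempty α := ⟨⟨(P, Q), hPQ, hD⟩⟩
  obtain ⟨⟨⟨P, Q⟩, hPQ, hD⟩, hmax⟩ :=
    Finite.exists_max (fun x : α => Nat.card ↥((x.1.1 : Subgroup G) ⊓ (x.1.2 : Subgroup G)))
  simp only at hPQ hD hmax
  set D := (P : Subgroup G) ⊓ (Q : Subgroup G) with hDdef
  have hDp : IsPGroup p D := P.2.to_le inf_le_left
  have hcl := hN D hD hDp
  set N := normalizer (D : Set G) with hNdef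
  have hDN : D ≤ N := le_normalizer
  -- the two partial normalizers
  have hA : IsPGroup p (((P : Subgroup G) ⊓ N).subgroupOf N) :=
    (P.2.to_le inf_le_left).comap_subtype
  have hB : IsPGroup p (((Q : Subgroup G) ⊓ N).subgroupOf N) :=
    (Q.2.to_le inf_le_left).comap_subtype
  obtain ⟨S, hAS, hBS⟩ := exists_sylow_ge_of_pclosed hcl _ _ hA hB
  have hSp : IsPGroup p ((S : Subgroup N).map N.subtype) := S.2.map _
  obtain ⟨P₁, hP₁⟩ := hSp.exists_le_sylow
  have hPN : (P : Subgroup G) ⊓ N ≤ P₁ := by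
    intro x hx
    apply hP₁
    rw [mem_map]
    exact ⟨⟨x, hx.2⟩, hAS (by rw [mem_subgroupOf]; exact hx), rfl⟩
  have hQN : (Q : Subgroup G) ⊓ N ≤ P₁ := by
    intro x hx
    apply hP₁
    rw [mem_map]
    exact ⟨⟨x, hx.2⟩, hBS (by rw [mem_subgroupOf]; exact hx), rfl⟩
  -- key: any Sylow `P'` among `P, Q` equals `P₁`
  have key : ∀ P' : Sylow p G, D ≤ P' → D ≠ (P' : Subgroup G) → (P' : Subgroup G) ⊓ N ≤ P₁ →
      P' = P₁ := by
    intro P' hDP' hne' hle
    by_contra hneq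
    obtain ⟨y, hyP, hyN, hyD⟩ := exists_mem_normalizer_not_mem P' D (lt_of_le_of_ne hDP' hne')
    have hDle : D ≤ (P' : Subgroup G) ⊓ (P₁ : Subgroup G) :=
      le_inf hDP' (le_trans (le_inf hDP' hDN) hle)
    have hlt : D < (P' : Subgroup G) ⊓ (P₁ : Subgroup G) := by
      refine lt_of_le_of_ne hDle ?_
      intro heq
      apply hyD
      rw [heq]
      exact ⟨hyP, hle ⟨hyP, hyN⟩⟩
    have hnb : (P' : Subgroup G) ⊓ (P₁ : Subgroup G) ≠ ⊥ := by
      intro h
      rw [h] at hDle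
      exact hD (le_bot_iff.mp hDle)
    have h1 := hmax ⟨(P', P₁), hneq, hnb⟩
    simp only at h1
    have h2 : Nat.card ↥((P' : Subgroup G) ⊓ (P₁ : Subgroup G)) ≤ Nat.card D := h1
    have h3 := eq_of_le_of_card_ge hDle h2
    exact hlt.ne h3
  have hDneP : D ≠ (P : Subgroup G) := by
    intro h
    apply hPQ
    have hle : (P : Subgroup G) ≤ Q := by rw [← h]; exact inf_le_right
    exact (Sylow.ext (P.3 Q.2 hle)).symm
  have hDneQ : D ≠ (Q : Subgroup G) := by
    intro h
    apply hPQ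
    have hle : (Q : Subgroup G) ≤ P := by rw [← h]; exact inf_le_left
    exact Sylow.ext (Q.3 P.2 hle)
  have e1 := key P inf_le_left hDneP hPN
  have e2 := key Q inf_le_right hDneQ hQN
  exact hPQ (e1.trans e2.symm)

end Cfsg.Agent.Helper64
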