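import Cfsg.Agent.Lib.Helper93.USfC

set_option autoImplicit false
set_option linter.unusedSectionVars false
set_option linter.unusedVariables false
set_option linter.unusedSimpArgs false
set_option linter.style.haveILetI false

/-!
# Subfield subgroups of `SU_n` (odd index): transfer of transvection parameters between
rational isotropic points (a piece of (P2) of the lemma-server request of helper93 for S5658)
-/

namespace Cfsg.Agent.Helper93.SubfL.USf

open Matrix Cfsg.Geo Cfsg.Agent.Helper93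
open Cfsg.Agent.Helper93.SubfL.SpSf (RatForm isomGroup mem_isomGroup sq_lemma subfield_top_of)

variable {ι : Type} [Fintype ι] [DecidableEq ι] {F : Type*} [Field F]
variable {σ : F ≃+* F} {F₀ : Subfield F} {f : (ι → F) → (ι → F) → F} {M : Subgroup (GL ι F)}
variable {hf : IsUnitaryForm σ f}

/-- a unitary transvection of `M` (a group of isometries) with non-zero isotropic centre has a
parameter of trace zero -/
lemma p2_bad_trace (C : UCtx hf F₀ M) {w : ι → F} (hw0 : w ≠ 0) (hww : f w w = 0) {c : F}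
    (hc : uref hf w c ∈ M) : c + σ c = 0 := by
  obtain ⟨⟨y, hy⟩, _⟩ := hf.nondegenerate _ hw0
  have hI := C.isom' hc y y
  rw [uref_apply_iso hf w c hww] at hI
  simp only [hf.add_left, uf_add_right hf, hf.smul_left, uf_smul_right hf, hww, mul_zero,
    add_zero, map_mul] at hI
  rw [hf.herm w y] at hI
  have hσ : σ (f y w) ≠ 0 := by
    intro h0
    apply hy
    have := congrArg σ h0
    rwa [hf.involutive, map_zero] at this
  have h1 : (c + σ c) * (f y w * σ (f y w)) = 0 := by linear_combination hI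
  rcases mul_eq_zero.mp h1 with h | h
  · exact h
  · exact absurd h (mul_ne_zero hy hσ)

/-- transfer of a transvection parameter between two non-orthogonal rational isotropic points -/
lemma p2_transfer (C : UCtx hf F₀ M) {w w'' : ι → F} (hw : Rat F₀ w) (hw'' : Rat F₀ w'')
    (hww : f w w = 0) (hw''w'' : f w'' w'' = 0) (hβ : f w w'' ≠ 0) {c : F}
    (hc : uref hf w c ∈ M) : ∃ κ ∈ F₀, κ ≠ 0 ∧ uref hf w'' (c * κ * σ κ) ∈ M := by
  have hrat := C.rat
  have hst := C.sig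
  obtain ⟨θ, hθF, hθ0, hθσ⟩ := hst.theta
  obtain ⟨β, hβ_def⟩ : ∃ β : F, β = f w w'' := ⟨_, rfl⟩
  rw [← hβ_def] at hβ
  have hβF : β ∈ F₀ := by rw [hβ_def]; exact hrat _ _ hw hw''
  have hσβ : σ β ≠ 0 := by
    intro h0
    apply hβ
    have := congrArg σ h0
    rwa [hf.involutive, map_zero] at this
  have hw''w : f w'' w = σ β := by rw [hf.herm, hβ_def]
  obtain ⟨D, hD_def⟩ : ∃ D : F, D = θ * β * σ β := ⟨_, rfl⟩
  have hD0 : D ≠ 0 := by rw [hD_def]; exact mul_ne_zero (mul_ne_zero hθ0 hβ) hσβ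
  have hDF : D ∈ F₀ := by
    rw [hD_def]; exact F₀.mul_mem (F₀.mul_mem hθF hβF) (hst.stab _ hβF)
  have hDσ : D + σ D = 0 := by
    rw [hD_def, map_mul, map_mul, hf.involutive]
    linear_combination (β * σ β) * hθσ
  have hδσ : -D⁻¹ + σ (-D⁻¹) = 0 := by
    have := theta_inv (σ := σ) hDσ
    rw [map_neg]
    linear_combination -this
  have hδF : -D⁻¹ ∈ F₀ := F₀.neg_mem (F₀.inv_mem hDF)
  have m1 : uref hf w θ ∈ M := C.le (uref_rat_mem hf hrat hw hww hθF hθσ)
  have m2 : uref hf w'' (-D⁻¹) ∈ M := C.le (uref_rat_mem hf hrat hw'' hw''w'' hδF hδσ)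
  have hm : uref hf w θ * uref hf w'' (-D⁻¹) ∈ M := M.mul_mem m1 m2
  have hI : Isom f (uref hf w θ * uref hf w'' (-D⁻¹)) := C.isom' hm
  have e : ((uref hf w θ * uref hf w'' (-D⁻¹) : GL ι F) : Matrix ι ι F) *ᵥ w
      = (-D⁻¹ * β) • w'' := by
    rw [gl_mul_apply, uref_apply_iso hf w'' _ hw''w'', uref_apply_iso hf w _ hww, ← hβ_def,
      hf.add_left, hf.smul_left, hww, hw''w]
    have e1 : θ * (0 + -D⁻¹ * β * σ β) = -1 := by
      have e2 : D * D⁻¹ = 1 := mul_inv_cancel₀ hD0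
      rw [hD_def] at e2 ⊢
      linear_combination -e2
    rw [e1]
    module
  refine ⟨-D⁻¹ * β, F₀.mul_mem hδF hβF, mul_ne_zero (neg_ne_zero.mpr (inv_ne_zero hD0)) hβ, ?_⟩
  rw [← uref_smul, ← e, ← conj_uref hf _ hI]
  exact M.mul_mem (M.mul_mem hm hc) (M.inv_mem hm)

/-- transfer of a transvection parameter between any two rational isotropic points -/
lemma p2_transfer_any [Finite F] (C : UCtx hf F₀ M) {w w'' : ι → F} (hw : Rat F₀ w)
    (hw0 : w ≠ 0) (hww : f w w = 0) (hw'' : Rat F₀ w'') (hw''0 : w'' ≠ 0)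
    (hw''w'' : f w'' w'' = 0) {c : F} (hc : uref hf w c ∈ M) :
    ∃ κ ∈ F₀, κ ≠ 0 ∧ uref hf w'' (c * κ * σ κ) ∈ M := by
  obtain ⟨w', hw', hw'w', h1, h2⟩ :=
    exists_common_iso hf C.rat C.sig hw hw0 hww hw'' hw''0 hw''w''
  obtain ⟨κ1, hκ1, hκ10, hm1⟩ := p2_transfer C hw hw' hww hw'w' h1 hc
  obtain ⟨κ2, hκ2, hκ20, hm2⟩ := p2_transfer C hw' hw'' hw'w' hw''w'' (uf_ne_zero_symm hf h2) hm1
  refine ⟨κ1 * κ2, F₀.mul_mem hκ1 hκ2, mul_ne_zero hκ10 hκ20, ?_⟩
  have e : c * (κ1 * κ2) * σ (κ1 * κ2) = c * κ1 * σ κ1 * κ2 * σ κ2 := by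
    rw [map_mul]; ring
  rw [e]
  exact hm2

end Cfsg.Agent.Helper93.SubfL.USf
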