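import Cfsg.Agent.Lib.Helper93.USfC

set_option autoImplicit false
set_option linter.unusedSectionVars false
set_option linter.unusedVariables false
set_option linter.unusedSimpArgs false
set_option linter.style.haveILetI false

/-!
# Subfield subgroups of `SU_n` (odd index): if all rational isotropic points are centres then
the overgroup is everything (part (P3) of the lemma-server request of helper93 for S5658)
-/

namespace Cfsg.Agent.Helper93.SubfL.USf

open Matrix Cfsg.Geo Cfsg.Agent.Helper93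
open Cfsg.Agent.Helper93.SubfL.SpSf (RatForm isomGroup mem_isomGroup sq_lemma subfield_top_of)

variable {ι : Type} [Fintype ι] [DecidableEq ι] {F : Type*} [Field F]
variable {σ : F ≃+* F} {F₀ : Subfield F} {f : (ι → F) → (ι → F) → F} {M : Subgroup (GL ι F)}
variable {hf : IsUnitaryForm σ f}

/-- I.2, the products `γ μ` with `γ` of trace zero and `μ` rational -/
lemma p3_usg_gm_mem (C : UCtx hf F₀ M)
    (hall : ∀ a : ι → F, Rat F₀ a → f a a = 0 → UCtr hf M a)
    {a z : ι → F} (ha : Rat F₀ a) (hz : Rat F₀ z) (haa : f a a = 0) (hzz : f z z = 0)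
    (haz : f a z = 0) {γ μ : F} (hγ : γ + σ γ = 0) (hμ : μ ∈ F₀) :
    usg hf a ((γ * μ) • z) 0 ∈ M := by
  have h1 : UCtr hf M (a + μ • z) :=
    hall _ (ha.add (Rat.smul hμ hz)) (uf_iso_add_smul hf haa hzz haz μ)
  have h2 := h1.2 γ hγ
  rw [uref_add_smul hf haa hzz haz μ hγ] at h2
  have h3 : uref hf a γ ∈ M := (hall a ha haa).2 γ hγ
  have hγ' : μ * σ μ * γ + σ (μ * σ μ * γ) = 0 := by
    rw [map_mul, map_mul, hf.involutive]
    linear_combination (μ * σ μ) * hγ
  have h4 : uref hf z (μ * σ μ * γ) ∈ M := (hall z hz hzz).2 _ hγ'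
  have := M.mul_mem (M.inv_mem (M.mul_mem h3 h4)) h2
  rwa [inv_mul_cancel_left] at this

/-- I.2: all pure Siegel elements with rational isotropic directions -/
lemma p3_usg_smul_mem (C : UCtx hf F₀ M)
    (hall : ∀ a : ι → F, Rat F₀ a → f a a = 0 → UCtr hf M a)
    {a z : ι → F} (ha : Rat F₀ a) (hz : Rat F₀ z) (haa : f a a = 0) (hzz : f z z = 0)
    (haz : f a z = 0) (lam : F) :
    usg hf a (lam • z) 0 ∈ M := by
  obtain ⟨θ, hθF, hθ0, hθσ⟩ := C.sig.theta
  obtain ⟨μ₀, hμ₀, hμne⟩ := C.sig.mov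
  obtain ⟨x, y, hx, hy, hxy, -⟩ := C.sig.decomp hμne (θ⁻¹ * lam)
  have hγ1 : θ * x + σ (θ * x) = 0 := by
    rw [map_mul, hx]; linear_combination x * hθσ
  have hγ2 : θ * y + σ (θ * y) = 0 := by
    rw [map_mul, hy]; linear_combination y * hθσ
  have m1 := p3_usg_gm_mem C hall ha hz haa hzz haz hγ1 F₀.one_mem
  have m2 := p3_usg_gm_mem C hall ha hz haa hzz haz hγ2 hμ₀
  have h1 : f a ((θ * x * 1) • z) = 0 := by rw [uf_smul_right hf, haz, mul_zero]
  have h2 : f a ((θ * y * μ₀) • z) = 0 := by rw [uf_smul_right hf, haz, mul_zero]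
  have h3 := M.mul_mem m1 m2
  rw [usg_mul hf haa h1 h2] at h3
  have e1 : (θ * x * 1) • z + (θ * y * μ₀) • z = lam • z := by
    rw [← add_smul]
    congr 1
    have e : θ * θ⁻¹ = 1 := mul_inv_cancel₀ hθ0
    have e' : lam = θ * (θ⁻¹ * lam) := by rw [← mul_assoc, e, one_mul]
    rw [e', hxy]; ring
  have e2 : (0 : F) + 0 - f ((θ * y * μ₀) • z) ((θ * x * 1) • z) = 0 := by
    rw [hf.smul_left, uf_smul_right hf, hzz, mul_zero, mul_zero, add_zero, sub_zero]
  rwa [e1, e2] at h3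

/-- some Siegel element at `a` with direction `w` lies in `M` -/
def P3Q (hf : IsUnitaryForm σ f) (M : Subgroup (GL ι F)) (a w : ι → F) : Prop :=
  f a w = 0 ∧ ∃ c : F, c + σ c + f w w = 0 ∧ usg hf a w c ∈ M

lemma P3Q.add {a w w' : ι → F} (haa : f a a = 0) (h : P3Q hf M a w) (h' : P3Q hf M a w') :
    P3Q hf M a (w + w') := by
  obtain ⟨haw, c, hc, hm⟩ := h
  obtain ⟨haw', c', hc', hm'⟩ := h'
  refine ⟨by rw [uf_add_right hf, haw, haw', add_zero], c + c' - f w' w, ?_, ?_⟩
  · rw [map_sub, map_add, ← hf.herm w w', hf.add_left, uf_add_right hf, uf_add_right hf]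
    linear_combination hc + hc'
  · rw [← usg_mul hf haa haw haw']
    exact M.mul_mem hm hm'

lemma P3Q.zero (a : ι → F) (haa : f a a = 0) : P3Q hf M a 0 := by
  refine ⟨uf_zero_right hf a, 0, ?_, ?_⟩
  · rw [map_zero, uf_zero_left hf, add_zero, add_zero]
  · rw [usg_zero_right hf haa, uref_zero]; exact M.one_mem

lemma P3Q.of_rat (C : UCtx hf F₀ M)
    (hall : ∀ a : ι → F, Rat F₀ a → f a a = 0 → UCtr hf M a)
    {a z : ι → F} (ha : Rat F₀ a) (hz : Rat F₀ z) (haa : f a a = 0) (hzz : f z z = 0)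
    (haz : f a z = 0) (lam : F) : P3Q hf M a (lam • z) := by
  refine ⟨by rw [uf_smul_right hf, haz, mul_zero], 0, ?_,
    p3_usg_smul_mem C hall ha hz haa hzz haz lam⟩
  rw [map_zero, hf.smul_left, uf_smul_right hf, hzz, mul_zero, mul_zero, add_zero, add_zero]

/-- all the valid parameters occur -/
lemma P3Q.all {a w : ι → F} (haa : f a a = 0) (hua : UCtr hf M a) (h : P3Q hf M a w) {c : F}
    (hc : c + σ c + f w w = 0) : usg hf a w c ∈ M := by
  obtain ⟨haw, c0, hc0, hm⟩ := h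
  have hγ : (c - c0) + σ (c - c0) = 0 := by rw [map_sub]; linear_combination hc - hc0
  have h1 := M.mul_mem hm (hua.2 _ hγ)
  rw [← usg_zero_right hf haa, usg_mul hf haa haw (uf_zero_right hf a)] at h1
  have e1 : w + 0 = w := add_zero w
  have e2 : c0 + (c - c0) - f 0 w = c := by rw [uf_zero_left hf]; ring
  rwa [e1, e2] at h1

/-- I.3: every vector orthogonal to a rational hyperbolic pair is a direction at `a` -/
lemma P3Q.of_perp [Finite F] (C : UCtx hf F₀ M) (hn : 6 ≤ Fintype.card ι)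
    (hall : ∀ a : ι → F, Rat F₀ a → f a a = 0 → UCtr hf M a)
    {a b : ι → F} (ha : Rat F₀ a) (ha0 : a ≠ 0) (haa : f a a = 0) (hb : Rat F₀ b)
    (hbb : f b b = 0) (hab : f a b = 1) (hba : f b a = 1) {w : ι → F} (hwa : f w a = 0)
    (hwb : f w b = 0) : P3Q hf M a w := by
  have hrat := C.rat
  have hst := C.sig
  have hP : ∀ j : ι, P3Q hf M a (w j • ((Pi.single j 1 : ι → F) - f (Pi.single j 1) b • a
      - f (Pi.single j 1) a • b)) := by
    intro j
    obtain ⟨e, he_def⟩ : ∃ e : ι → F, e = Pi.single j 1 := ⟨_, rfl⟩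
    have he : Rat F₀ e := by rw [he_def]; exact Rat.single j
    rw [← he_def]
    have hy : Rat F₀ (e - f e b • a - f e a • b) :=
      (he.sub (Rat.smul (hrat _ _ he hb) ha)).sub (Rat.smul (hrat _ _ he ha) hb)
    have hya : f (e - f e b • a - f e a • b) a = 0 := by
      rw [uf_sub_left hf, uf_sub_left hf, hf.smul_left, hf.smul_left, haa, hba]; ring
    obtain ⟨z1, z2, z3, c2, c3, hz1, hz2, hz3, h11, h22, h33, h1a, h2a, h3a, hc2, hc3, hsum⟩ :=
      iso_decomp hf hrat hst hn ha ha0 haa hy hya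
    rw [hsum, smul_add, smul_add, smul_smul, smul_smul]
    have q1 := P3Q.of_rat C hall ha hz1 haa h11 (uf_eq_zero_symm hf h1a) (w j)
    have q2 := P3Q.of_rat C hall ha hz2 haa h22 (uf_eq_zero_symm hf h2a) (w j * c2)
    have q3 := P3Q.of_rat C hall ha hz3 haa h33 (uf_eq_zero_symm hf h3a) (w j * c3)
    exact (q1.add haa q2).add haa q3
  have hsum : w = ∑ j, w j • ((Pi.single j 1 : ι → F) - f (Pi.single j 1) b • a
      - f (Pi.single j 1) a • b) := by
    let L : (ι → F) →ₗ[F] (ι → F) :=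
      LinearMap.id - (uflin hf b).smulRight a - (uflin hf a).smulRight b
    have hL : ∀ x, L x = x - f x b • a - f x a • b := fun x => rfl
    have h1 : L w = w := by rw [hL, hwa, hwb, zero_smul, zero_smul, sub_zero, sub_zero]
    have h2 : L w = ∑ j, w j • L (Pi.single j 1) := by
      conv_lhs => rw [pi_eq_sum_univ' w]
      rw [map_sum]
      apply Finset.sum_congr rfl
      intro j _
      rw [map_smul]
    calc w = L w := h1.symm
      _ = ∑ j, w j • L (Pi.single j 1) := h2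
      _ = _ := by simp only [hL]
  rw [hsum]
  apply Finset.sum_induction _ (P3Q hf M a) (fun x y hx hy => hx.add haa hy) (P3Q.zero a haa)
  intro j _
  exact hP j

/-- an isotropic vector pairing to one with a rational isotropic vector is a centre -/
lemma p3_uctr_of_one [Finite F] (C : UCtx hf F₀ M) (hn : 6 ≤ Fintype.card ι)
    (hall : ∀ a : ι → F, Rat F₀ a → f a a = 0 → UCtr hf M a)
    {a : ι → F} (ha : Rat F₀ a) (ha0 : a ≠ 0) (haa : f a a = 0) {u : ι → F} (huu : f u u = 0)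
    (hua : f u a = 1) : UCtr hf M u := by
  obtain ⟨b, hb, hbb, hab, hba⟩ := hyp_partner1 hf C.rat C.sig ha ha0 haa
  obtain ⟨t, ht⟩ : ∃ t : F, t = f u b := ⟨_, rfl⟩
  obtain ⟨w, hw_def⟩ : ∃ w : ι → F, w = u - b - t • a := ⟨_, rfl⟩
  have hwa : f w a = 0 := by
    rw [hw_def, uf_sub_left hf, uf_sub_left hf, hf.smul_left, haa, hua, hba]; ring
  have hwb : f w b = 0 := by
    rw [hw_def, uf_sub_left hf, uf_sub_left hf, hf.smul_left, hbb, hab, ← ht]; ring
  have haw : f a w = 0 := uf_eq_zero_symm hf hwa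
  have hbw : f b w = 0 := uf_eq_zero_symm hf hwb
  have hQ : P3Q hf M a w := P3Q.of_perp C hn hall ha ha0 haa hb hbb hab hba hwa hwb
  have hu_eq : u = b + w + t • a := by rw [hw_def]; abel
  have hval : t + σ t + f w w = 0 := by
    have h := huu
    rw [hu_eq] at h
    simp only [hf.add_left, uf_add_right hf, hf.smul_left, uf_smul_right hf, hbb, haa, hab, hba,
      hwa, hwb, haw, hbw, mul_zero, mul_one, add_zero, zero_add] at h
    linear_combination h
  have hm : usg hf a w t ∈ M := hQ.all haa (hall a ha haa) hval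
  have e : ((usg hf a w t : GL ι F) : Matrix ι ι F) *ᵥ b = u := by
    rw [usg_apply hf haa haw, hba, hbw, hu_eq, one_smul, zero_smul, sub_zero, mul_one]
  rw [← e]
  exact (hall b hb hbb).conj hf _ hm (usg_isom hf haa haw hval)

/-- an isotropic vector not orthogonal to some rational isotropic vector is a centre -/
lemma p3_uctr_of_ne [Finite F] (C : UCtx hf F₀ M) (hn : 6 ≤ Fintype.card ι)
    (hall : ∀ a : ι → F, Rat F₀ a → f a a = 0 → UCtr hf M a)
    {a : ι → F} (ha : Rat F₀ a) (ha0 : a ≠ 0) (haa : f a a = 0) {u : ι → F} (huu : f u u = 0)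
    (hua : f u a ≠ 0) : UCtr hf M u := by
  have h1 : f ((f u a)⁻¹ • u) a = 1 := by rw [hf.smul_left, inv_mul_cancel₀ hua]
  have h2 : f ((f u a)⁻¹ • u) ((f u a)⁻¹ • u) = 0 := by
    rw [hf.smul_left, uf_smul_right hf, huu, mul_zero, mul_zero]
  have h3 := (p3_uctr_of_one C hn hall ha ha0 haa h2 h1).smul hf (f u a)
  rwa [smul_smul, mul_inv_cancel₀ hua, one_smul] at h3

/-- a non-zero vector is not orthogonal to all the rational isotropic vectors -/
lemma p3_exists_pair [Finite F] (C : UCtx hf F₀ M) (hn : 6 ≤ Fintype.card ι) {u : ι → F}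
    (hu0 : u ≠ 0) : ∃ a : ι → F, Rat F₀ a ∧ a ≠ 0 ∧ f a a = 0 ∧ f u a ≠ 0 := by
  have hrat := C.rat
  have hst := C.sig
  by_contra hcon
  push Not at hcon
  have hz : ∀ a : ι → F, Rat F₀ a → f a a = 0 → f u a = 0 := by
    intro a ha haa
    by_cases h0 : a = 0
    · rw [h0, uf_zero_right hf]
    · exact hcon a ha h0 haa
  obtain ⟨a0, ha0, ha00, ha0a0, -⟩ := exists_rat_iso hf hrat hst 0 Fin.elim0
    (fun k => k.elim0) (by omega)
  obtain ⟨b0, hb0, hb0b0, hab, hba⟩ := hyp_partner1 hf hrat hst ha0 ha00 ha0a0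
  apply hu0
  apply eq_zero_of_basis_perp_u hf
  intro j
  apply uf_eq_zero_symm hf
  obtain ⟨e, he_def⟩ : ∃ e : ι → F, e = Pi.single j 1 := ⟨_, rfl⟩
  have he : Rat F₀ e := by rw [he_def]; exact Rat.single j
  rw [← he_def]
  have hy : Rat F₀ (e - f e b0 • a0 - f e a0 • b0) :=
    (he.sub (Rat.smul (hrat _ _ he hb0) ha0)).sub (Rat.smul (hrat _ _ he ha0) hb0)
  have hya : f (e - f e b0 • a0 - f e a0 • b0) a0 = 0 := by
    rw [uf_sub_left hf, uf_sub_left hf, hf.smul_left, hf.smul_left, ha0a0, hba]; ring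
  obtain ⟨z1, z2, z3, c2, c3, hz1, hz2, hz3, h11, h22, h33, h1a, h2a, h3a, hc2, hc3, hsum⟩ :=
    iso_decomp hf hrat hst hn ha0 ha00 ha0a0 hy hya
  have he_eq : e = z1 + c2 • z2 + c3 • z3 + f e b0 • a0 + f e a0 • b0 := by
    rw [← hsum]; abel
  rw [he_eq]
  simp only [uf_add_right hf, uf_smul_right hf, hz z1 hz1 h11, hz z2 hz2 h22, hz z3 hz3 h33,
    hz a0 ha0 ha0a0, hz b0 hb0 hb0b0, mul_zero, add_zero]

/-- (P3) if all the rational isotropic points are centres of `M`, then `M` is the whole special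
isometry group -/
theorem le_of_all_uctr [Fintype F] (C : UCtx hf F₀ M) (hn : 13 ≤ Fintype.card ι)
    (hall : ∀ a : ι → F, Rat F₀ a → f a a = 0 → UCtr hf M a) :
    isomGroup f ⊓ specialLinear ι F ≤ M := by
  have hAll : ∀ u : ι → F, f u u = 0 → UCtr hf M u := by
    intro u huu
    by_cases hu0 : u = 0
    · rw [hu0]; exact UCtr.zero hf M
    · obtain ⟨a, ha, ha0, haa, hua⟩ := p3_exists_pair C (by omega) hu0
      exact p3_uctr_of_ne C (by omega) hall ha ha0 haa huu hua
  have hTM : TU hf ≤ M := by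
    unfold TU
    rw [Subgroup.closure_le]
    rintro g ⟨a, c, ha, hc, rfl⟩
    exact (hAll a ha).2 c hc
  intro g hg
  obtain ⟨hI, hS⟩ := Subgroup.mem_inf.1 hg
  exact hTM (isom_SL_mem_TU hf (by omega) g ((mem_isomGroup g).1 hI) hS)

end Cfsg.Agent.Helper93.SubfL.USf
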