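import Mathlib
import Cfsg.Agent.Lib.Helper98.UT0
import Cfsg.Agent.Lib.Helper13.SUGen

/-!
# UT server (helper98, S2283), piece (E3): `Q_e ≤ Hs` and `t ∈ Hs` give `Hs = ⊤`

`SU_3(q)`, `q ≥ 3`, is generated by the unitary transvections (`Helper13.TG_top`), and a transvection
is `eich u 0 a`.  `Q_e ≤ Hs` contains the transvections along `e`; `t = x⁻(0,c)` moves `e` to
`e' = e + c f`, so the transvections along `e'` are in `Hs`; every isotropic `u` outside `⟨e⟩` is a scalar
multiple of `x(ω,β) e'` for a suitable element `x(ω,β)` of `Q_e`.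
-/

set_option autoImplicit false
set_option quotPrecheck false
set_option linter.unusedSectionVars false
set_option linter.unusedVariables false

namespace Cfsg.Agent.Helper64.UT

open Matrix Cfsg Cfsg.Agent.Helper13 Cfsg.Agent.Helper87.PsuA Cfsg.Agent.Helper87.PsuB0
  Cfsg.Agent.Helper98.UT

variable {F : Type*} [Field F] [Fintype F] {q : ℕ}

local notation "G" => ↥(Cfsg.SU 3 F q)
local notation "H" => Cfsg.hermForm 3 F q

variable (hF : Fintype.card F = q ^ 2) {b : Fin 3 → Fin 3 → F}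

theorem hb_vals (hb : HB q b) :
    H (b 0) (b 0) = 0 ∧ H (b 0) (b 1) = 0 ∧ H (b 0) (b 2) = 1 ∧ H (b 1) (b 0) = 0 ∧
      H (b 1) (b 1) = 1 ∧ H (b 1) (b 2) = 0 ∧ H (b 2) (b 0) = 1 ∧ H (b 2) (b 1) = 0 ∧
      H (b 2) (b 2) = 0 := by
  refine ⟨?_, ?_, ?_, ?_, ?_, ?_, ?_, ?_, ?_⟩
  · rw [hb 0 0, if_neg (by decide)]
  · rw [hb 0 1, if_neg (by decide)]
  · rw [hb 0 2, if_pos (by decide)]
  · rw [hb 1 0, if_neg (by decide)]
  · rw [hb 1 1, if_pos (by decide)]
  · rw [hb 1 2, if_neg (by decide)]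
  · rw [hb 2 0, if_pos (by decide)]
  · rw [hb 2 1, if_neg (by decide)]
  · rw [hb 2 2, if_neg (by decide)]

/-- the transvections along `e` -/
theorem eich_e_mem (Hs : Subgroup G)
    (hQ : ∀ ω β : F, β + β ^ q + ω * ω ^ q = 0 → yEl hF b ω β ∈ Hs) (a : F)
    (ha : a + a ^ q = 0) : eich hF (b 0) 0 a ∈ Hs := by
  have h := hQ 0 a (by rw [ha]; simp)
  unfold yEl at h
  rw [frob_zero hF, neg_zero, zero_smul] at h
  exact h

include hF in
theorem fix_mul (x a : F) (ha : a + a ^ q = 0) :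
    x * x ^ q * a + (x * x ^ q * a) ^ q = 0 := by
  rw [mul_pow, mul_pow, frob_frob hF]
  linear_combination (x * x ^ q) * ha

/-- every unitary transvection lies in `Hs` -/
theorem eich_iso_mem (hb : HB q b) (Hs : Subgroup G)
    (hQ : ∀ ω β : F, β + β ^ q + ω * ω ^ q = 0 → yEl hF b ω β ∈ Hs) {c : F} (hc0 : c ≠ 0)
    (hc : c + c ^ q = 0) (ht : lEl hF b 0 c ∈ Hs) (u : Fin 3 → F) (huu : H u u = 0) (a : F)
    (ha : a + a ^ q = 0) : eich hF u 0 a ∈ Hs := by
  obtain ⟨h00, h01, h02, h10, h11, h12, h20, h21, h22⟩ := hb_vals hb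
  have hz : ∀ x : F, x + x ^ q = 0 → ∀ v : Fin 3 → F, x + x ^ q + H (0 : Fin 3 → F) 0 = 0 := by
    intro x hx v
    rw [H_zero_left hF, add_zero, hx]
  -- the element `t` and the point `e' = t e`
  have ht' : eich hF (b 2) 0 c ∈ Hs := by
    unfold lEl at ht
    rw [frob_zero hF, neg_zero, zero_smul] at ht
    exact ht
  have hte : actv (eich hF (b 2) 0 c) (b 0) = b 0 + c • b 2 := by
    rw [eich_act hF h22 (H_zero_right hF _) (hz c hc 0), h02, H_zero_right hF]
    module
  have he' : H (b 0 + c • b 2) (b 0 + c • b 2) = 0 := by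
    rw [← hte, H_actv, h00]
  have hE' : ∀ a' : F, a' + a' ^ q = 0 → eich hF (b 0 + c • b 2) 0 a' ∈ Hs := by
    intro a' ha'
    have h1 := eich_conj hF h00 (H_zero_right hF _) (hz a' ha' 0) (eich hF (b 2) 0 c)
    rw [hte, actv_zero] at h1
    rw [← h1]
    exact Hs.mul_mem (Hs.mul_mem ht' (eich_e_mem hF Hs hQ a' ha')) (Hs.inv_mem ht')
  -- coordinates of `u`
  have hu : u = co q b u 0 • b 0 + co q b u 1 • b 1 + co q b u 2 • b 2 := by
    conv_lhs => rw [expand hb u]
    rw [Fin.sum_univ_three]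
  have hiso : co q b u 0 * (co q b u 2) ^ q + co q b u 1 * (co q b u 1) ^ q +
      co q b u 2 * (co q b u 0) ^ q = 0 := by
    have h := H_eq_sum hF hb u u
    rw [Fin.sum_univ_three, huu] at h
    have r0 : Fin.rev (0 : Fin 3) = 2 := by decide
    have r1 : Fin.rev (1 : Fin 3) = 1 := by decide
    have r2 : Fin.rev (2 : Fin 3) = 0 := by decide
    rw [r0, r1, r2] at h
    exact h.symm
  generalize co q b u 0 = u0 at hu hiso
  generalize co q b u 1 = u1 at hu hiso
  generalize co q b u 2 = u2 at hu hiso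
  by_cases h2 : u2 = 0
  · -- `u` is a multiple of `e`
    subst h2
    rw [frob_zero hF, mul_zero, zero_mul, zero_add, add_zero] at hiso
    have h1 : u1 = 0 := by
      rcases mul_eq_zero.1 hiso with h | h
      · exact h
      · exact pow_eq_zero_iff (q_pos hF).ne' |>.1 h
    subst h1
    rw [zero_smul, zero_smul, add_zero, add_zero] at hu
    rw [hu, eich_smul hF h00 (H_zero_right hF _) (hz a ha 0), smul_zero]
    exact eich_e_mem hF Hs hQ _ (fix_mul hF u0 a ha)
  · -- `u` is a multiple of `x(ω,β) e'`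
    have hcq : c ^ q = -c := by linear_combination hc
    have hu2q : u2 ^ q ≠ 0 := pow_ne_zero _ h2
    set ω : F := -((u1 / u2) ^ q) with hω
    set β : F := u0 / u2 - c⁻¹ with hβ
    have hωq : ω ^ q = -(u1 / u2) := by
      rw [hω, frob_neg hF, frob_frob hF]
    have hab : β + β ^ q + ω * ω ^ q = 0 := by
      rw [hωq, hω, hβ, frob_sub hF, div_pow, div_pow, inv_pow, hcq]
      field_simp
      linear_combination c * hiso
    have hg : yEl hF b ω β ∈ Hs := hQ ω β hab
    unfold yEl at hg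
    rw [hωq, neg_neg] at hg
    have huw : H (b 0) ((u1 / u2) • b 1) = 0 := by
      rw [hermForm_smul_right, h01, mul_zero]
    have hww : β + β ^ q + H ((u1 / u2) • b 1) ((u1 / u2) • b 1) = 0 := by
      rw [hermForm_smul_left, hermForm_smul_right, h11, mul_one]
      rw [hωq, hω] at hab
      linear_combination hab
    have hact : actv (eich hF (b 0) ((u1 / u2) • b 1) β) (b 0 + c • b 2) = (c / u2) • u := by
      rw [eich_act hF h00 huw hww]
      have e1 : H (b 0 + c • b 2) (b 0) = c := by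
        rw [hermForm_add_left, hermForm_smul_left, h00, h20]
        ring
      have e2 : H (b 0 + c • b 2) ((u1 / u2) • b 1) = 0 := by
        rw [hermForm_smul_right, hermForm_add_left, hermForm_smul_left, h01, h21]
        ring
      rw [e1, e2, hu, hβ]
      have hc1 : (u0 / u2 - c⁻¹) * c = c / u2 * u0 - 1 := by
        field_simp
      rw [hc1]
      have hc2 : c * (u1 / u2) = c / u2 * u1 := by ring
      have hc3 : c / u2 * u2 = c := by field_simp
      simp only [smul_add, smul_smul]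
      rw [hc3, ← hc2]
      module
    have hv : H ((c / u2) • u) ((c / u2) • u) = 0 := by
      rw [hermForm_smul_left, hermForm_smul_right, huu, mul_zero, mul_zero]
    have hmu : c / u2 ≠ 0 := div_ne_zero hc0 h2
    have hu' : u = (c / u2)⁻¹ • ((c / u2) • u) := by
      rw [smul_smul, inv_mul_cancel₀ hmu, one_smul]
    rw [hu', eich_smul hF hv (H_zero_right hF _) (hz a ha 0), smul_zero]
    have h1 := eich_conj hF he' (H_zero_right hF _)
      (hz _ (fix_mul hF (c / u2)⁻¹ a ha) 0) (eich hF (b 0) ((u1 / u2) • b 1) β)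
    rw [hact, actv_zero] at h1
    rw [← h1]
    exact Hs.mul_mem (Hs.mul_mem hg (hE' _ (fix_mul hF (c / u2)⁻¹ a ha))) (Hs.inv_mem hg)

/-- (E3) `Q_e ≤ Hs` and `t ∈ Hs` give `Hs = ⊤` (`Helper13.SUGen.TG_top`): `Q_e` is transitive on the
isotropic points `≠ ⟨e⟩`, `t` moves `e`, so every transvection lies in `Hs`. -/
theorem top_of_Q (hb : HB q b) (hq : 3 ≤ q) (Hs : Subgroup G)
    (hQ : ∀ ω β : F, β + β ^ q + ω * ω ^ q = 0 → yEl hF b ω β ∈ Hs) {c : F} (hc0 : c ≠ 0)
    (hc : c + c ^ q = 0) (ht : lEl hF b 0 c ∈ Hs) : Hs = ⊤ := by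
  rw [eq_top_iff, ← TG_top hF (le_refl 3) (by omega)]
  unfold TG
  rw [Subgroup.closure_le]
  rintro g ⟨u, a, huu, ha, -, rfl⟩
  rw [tvSU_eq_eich hF u a huu ha]
  exact eich_iso_mem hF hb Hs hQ hc0 hc ht u huu a (by rw [add_comm]; exact ha)

end Cfsg.Agent.Helper64.UT
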