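import Mathlib
import Cfsg.Agent.Lib.Helper98.WR0
import Cfsg.Agent.Lib.Helper98.SPEPieces
import Cfsg.Agent.Lib.Helper22.SPEQ7

/-!
# WR lemma server (S2347, helper98): piece (M2) `count_lower`
-/

set_option autoImplicit false

namespace Cfsg.Agent.Helper64.WR

open Matrix Cfsg.Agent.Helper98.SPE Cfsg.Agent.Helper98.WR

variable {F : Type*} [Field F] {n : ℕ}

theorem m2_qv_zero (S : Matrix (Fin n) (Fin n) F) : qv S (0 : Fin n → F) = 0 := by
  unfold qv
  simp

/-- `(1 + x φᵀ) z = z + (φ · z) x` -/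
theorem m2_mulVec (x φ z : Fin n → F) :
    (1 + Matrix.vecMulVec x φ) *ᵥ z = z + (φ ⬝ᵥ z) • x := by
  rw [Matrix.add_mulVec, Matrix.one_mulVec, Matrix.vecMulVec_mulVec]
  congr 1
  ext i
  simp [mul_comm]

theorem m2_vecMulVec_sq (x φ : Fin n → F) (h : φ ⬝ᵥ x = 0) :
    Matrix.vecMulVec x φ * Matrix.vecMulVec x φ = 0 := by
  ext i j
  simp only [Matrix.mul_apply, Matrix.vecMulVec_apply, Matrix.zero_apply]
  have : ∑ k, x i * φ k * (x k * φ j) = x i * (φ ⬝ᵥ x) * φ j := by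
    unfold dotProduct
    rw [Finset.mul_sum, Finset.sum_mul]
    apply Finset.sum_congr rfl
    intro k _
    ring
  rw [this, h]
  ring

/-- the unit `1 + x φᵀ` for `φ · x = 0` -/
def m2Unit (x φ : Fin n → F) (h : φ ⬝ᵥ x = 0) : GL (Fin n) F where
  val := 1 + Matrix.vecMulVec x φ
  inv := 1 - Matrix.vecMulVec x φ
  val_inv := by
    have := m2_vecMulVec_sq x φ h
    rw [add_mul, mul_sub, mul_sub, one_mul, mul_one, one_mul, this]
    abel
  inv_val := by
    have := m2_vecMulVec_sq x φ h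
    rw [sub_mul, mul_add, mul_add, one_mul, mul_one, one_mul, this]
    abel

theorem m2Unit_val (x φ : Fin n → F) (h : φ ⬝ᵥ x = 0) :
    ((m2Unit x φ h : GL (Fin n) F) : Matrix (Fin n) (Fin n) F) = 1 + Matrix.vecMulVec x φ := rfl

variable [Fintype F] {q : ℕ} (hq : Fintype.card F = q)

open Classical in
include hq in
/-- the hyperplane `{φ | φ · x = 0}` has at least `q^(n-1)` elements -/
theorem m2_card_hyperplane (x : Fin n → F) :
    q ^ n ≤ q * (Finset.univ.filter (fun φ : Fin n → F => φ ⬝ᵥ x = 0)).card := by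
  classical
  have hV : Fintype.card (Fin n → F) = q ^ n := by
    rw [Fintype.card_fun, hq, Fintype.card_fin]
  rw [← hV, ← Finset.card_univ,
    Finset.card_eq_sum_card_fiberwise (f := fun φ : Fin n → F => φ ⬝ᵥ x) (t := Finset.univ)
      (fun _ _ => Finset.mem_univ _)]
  have hle : ∀ t ∈ (Finset.univ : Finset F),
      (Finset.univ.filter (fun φ : Fin n → F => φ ⬝ᵥ x = t)).card ≤
        (Finset.univ.filter (fun φ : Fin n → F => φ ⬝ᵥ x = 0)).card := by
    intro t _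
    by_cases hne : ∃ φ₀ : Fin n → F, φ₀ ⬝ᵥ x = t
    · obtain ⟨φ₀, hφ₀⟩ := hne
      apply Finset.card_le_card_of_injOn (fun φ => φ - φ₀)
      · intro φ hφ
        simp only [Finset.coe_filter, Finset.mem_univ, true_and, Set.mem_ofPred_eq] at hφ ⊢
        rw [sub_dotProduct, hφ, hφ₀, sub_self]
      · intro a _ b _ hab
        simpa using hab
    · have : Finset.univ.filter (fun φ : Fin n → F => φ ⬝ᵥ x = t) = ∅ := by
        rw [Finset.eq_empty_iff_forall_notMem]
        intro φ hφ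
        apply hne
        simp only [Finset.mem_filter] at hφ
        exact ⟨φ, hφ.2⟩
      rw [this]
      simp
  calc ∑ b : F, (Finset.univ.filter (fun φ : Fin n → F => φ ⬝ᵥ x = b)).card
      ≤ ∑ _b : F, (Finset.univ.filter (fun φ : Fin n → F => φ ⬝ᵥ x = 0)).card :=
        Finset.sum_le_sum hle
    _ = q * (Finset.univ.filter (fun φ : Fin n → F => φ ⬝ᵥ x = 0)).card := by
        rw [Finset.sum_const, Finset.card_univ, hq, smul_eq_mul]

include hq in
/-- piece M2. -/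
theorem count_lower (h2 : (2 : F) ≠ 0) (O : Set (Matrix (Fin n) (Fin n) F))
    (hcl : ∀ g : GL (Fin n) F, ∀ S ∈ O, congQ (g : Matrix (Fin n) (Fin n) F) S ∈ O)
    (S₁ : Matrix (Fin n) (Fin n) F) (hS₁ : S₁ ∈ O) (x : Fin n → F) (hx : qv S₁ x ≠ 0) :
    q ^ n ≤ q * {S' ∈ O | qv S' x = qv S₁ x}.ncard := by
  classical
  set Φ : Finset (Fin n → F) := Finset.univ.filter (fun φ : Fin n → F => φ ⬝ᵥ x = 0) with hΦ
  set Tg : Finset (Matrix (Fin n) (Fin n) F) :=
    Finset.univ.filter (fun S' => S' ∈ O ∧ qv S' x = qv S₁ x) with hTg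
  have hset : {S' ∈ O | qv S' x = qv S₁ x} = (Tg : Set (Matrix (Fin n) (Fin n) F)) := by
    ext S'
    simp [hTg]
  rw [hset, Set.ncard_coe_finset]
  have hbxx : bv S₁ x x ≠ 0 := by
    rw [Cfsg.Agent.Helper98.SPEP.bv_self]
    exact mul_ne_zero h2 hx
  have hcard : Φ.card ≤ Tg.card := by
    apply Finset.card_le_card_of_injOn
      (fun φ => congQ (1 + Matrix.vecMulVec x φ) S₁)
    · intro φ hφ
      have hφ0 : φ ⬝ᵥ x = 0 := by simpa [hΦ] using hφ
      simp only [hTg, Finset.coe_filter, Finset.mem_univ, true_and, Set.mem_ofPred_eq]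
      refine ⟨?_, ?_⟩
      · have := hcl (m2Unit x φ hφ0) S₁ hS₁
        rwa [m2Unit_val] at this
      · rw [Cfsg.Agent.Helper22.SPE.qv_congQ, m2_mulVec, hφ0, zero_smul, add_zero]
    · intro φ hφ φ' hφ' heq
      have hφ0 : φ ⬝ᵥ x = 0 := by simpa [hΦ] using hφ
      have hφ'0 : φ' ⬝ᵥ x = 0 := by simpa [hΦ] using hφ'
      have heq' : congQ (1 + Matrix.vecMulVec x φ) S₁ = congQ (1 + Matrix.vecMulVec x φ') S₁ := heq
      have key : ∀ (ψ : Fin n → F), ψ ⬝ᵥ x = 0 → ∀ z : Fin n → F,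
          bv (congQ (1 + Matrix.vecMulVec x ψ) S₁) z x = bv S₁ z x + (ψ ⬝ᵥ z) * bv S₁ x x := by
        intro ψ hψ z
        rw [Cfsg.Agent.Helper22.SPE.bv_congQ, m2_mulVec, m2_mulVec, hψ, zero_smul, add_zero,
          Cfsg.Agent.Helper98.SPEP.bv_add_left, Cfsg.Agent.Helper98.SPEP.bv_smul_left]
      funext i
      have h1 := key φ hφ0 (Pi.single i 1)
      have h2' := key φ' hφ'0 (Pi.single i 1)
      rw [heq'] at h1
      rw [h1] at h2'
      have h3 : (φ ⬝ᵥ Pi.single i 1) * bv S₁ x x = (φ' ⬝ᵥ Pi.single i 1) * bv S₁ x x :=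
        add_left_cancel h2'
      have h4 := mul_right_cancel₀ hbxx h3
      simpa using h4
  calc q ^ n ≤ q * Φ.card := m2_card_hyperplane hq x
    _ ≤ q * Tg.card := Nat.mul_le_mul_left q hcard

end Cfsg.Agent.Helper64.WR
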