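import Mathlib
import Cfsg.Agent.Lib.Helper98.WR0
import Cfsg.Agent.Lib.Helper22.SPEQ7

/-!
# WR lemma server (S2347, helper98): core of piece (M3) `orbit_bound_odd`

The double counting, with the pieces M0, M1, M2 as hypotheses.
-/

set_option autoImplicit false

namespace Cfsg.Agent.Helper64.WR

open Matrix Cfsg.Agent.Helper98.SPE Cfsg.Agent.Helper98.WR

variable {F : Type*} [Field F] {n : ℕ}

theorem qv_zero_vec (S : Matrix (Fin n) (Fin n) F) : qv S (0 : Fin n → F) = 0 := by
  unfold qv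
  simp

variable [Fintype F] {q : ℕ} (hq : Fintype.card F = q)

include hq in
/-- (M3) with M0, M1, M2 as hypotheses. -/
theorem orbit_bound_odd_core
    (hM0 : ∀ x x₀ : Fin n → F, x ≠ 0 → x₀ ≠ 0 →
      ∃ g : GL (Fin n) F, (g : Matrix (Fin n) (Fin n) F) *ᵥ x = x₀)
    (hM1 : ∀ (S : Matrix (Fin n) (Fin n) F) (x : Fin n → F), qv S x ≠ 0 → ∀ e : F,
      {z : Fin n → F | qv S z = e}.ncard * q ≤ 2 * q ^ n)
    (O : Set (Matrix (Fin n) (Fin n) F))
    (hM2 : ∀ S₁ : Matrix (Fin n) (Fin n) F, S₁ ∈ O → ∀ x : Fin n → F, qv S₁ x ≠ 0 →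
      q ^ n ≤ q * {S' ∈ O | qv S' x = qv S₁ x}.ncard)
    (hcl : ∀ g : GL (Fin n) F, ∀ S ∈ O, congQ (g : Matrix (Fin n) (Fin n) F) S ∈ O)
    (S₀ : Matrix (Fin n) (Fin n) F) (hS₀ : S₀ ∈ O) (x : Fin n → F) (hx : qv S₀ x ≠ 0) :
    q ^ n - 1 ≤ 2 * O.ncard := by
  classical
  have hqpos : 0 < q := by rw [← hq]; exact Fintype.card_pos
  set c : F := qv S₀ x with hc
  have hx0 : x ≠ 0 := by
    intro h
    apply hx
    rw [hc, h, qv_zero_vec]
  set OF : Finset (Matrix (Fin n) (Fin n) F) := Finset.univ.filter (fun S => S ∈ O) with hOF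
  set NZ : Finset (Fin n → F) := Finset.univ.filter (fun x' => x' ≠ 0) with hNZ
  have hOcard : O.ncard = OF.card := by
    have : O = (OF : Set (Matrix (Fin n) (Fin n) F)) := by
      ext S; simp [hOF]
    rw [this, Set.ncard_coe_finset]
  have hNZcard : NZ.card = q ^ n - 1 := by
    rw [hNZ, Finset.filter_ne' Finset.univ (0 : Fin n → F), Finset.card_erase_of_mem (Finset.mem_univ _),
      Finset.card_univ, Fintype.card_fun, hq, Fintype.card_fin]
  -- double counting
  have hdc := Finset.sum_card_bipartiteAbove_eq_sum_card_bipartiteBelow (s := OF) (t := NZ)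
    (fun (S' : Matrix (Fin n) (Fin n) F) (x' : Fin n → F) => qv S' x' = c)
  -- lower bound for each x'
  have hlow : ∀ x' ∈ NZ, q ^ n ≤ q * (OF.bipartiteBelow
      (fun (S' : Matrix (Fin n) (Fin n) F) (x' : Fin n → F) => qv S' x' = c) x').card := by
    intro x' hx'
    have hx'0 : x' ≠ 0 := by simpa [hNZ] using hx'
    obtain ⟨g, hg⟩ := hM0 x' x hx'0 hx0
    have hS₁ : congQ (g : Matrix (Fin n) (Fin n) F) S₀ ∈ O := hcl g S₀ hS₀
    have hqv : qv (congQ (g : Matrix (Fin n) (Fin n) F) S₀) x' = c := by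
      rw [Cfsg.Agent.Helper22.SPE.qv_congQ, hg]
    have h := hM2 _ hS₁ x' (by rw [hqv]; exact hx)
    rw [hqv] at h
    have hset : {S' ∈ O | qv S' x' = c} = ((OF.bipartiteBelow
        (fun (S' : Matrix (Fin n) (Fin n) F) (x' : Fin n → F) => qv S' x' = c) x' :
          Finset (Matrix (Fin n) (Fin n) F)) : Set (Matrix (Fin n) (Fin n) F)) := by
      ext S'
      simp [Finset.bipartiteBelow, hOF]
    rw [hset, Set.ncard_coe_finset] at h
    exact h
  -- upper bound for each S'
  have hup : ∀ S' ∈ OF, (NZ.bipartiteAbove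
      (fun (S' : Matrix (Fin n) (Fin n) F) (x' : Fin n → F) => qv S' x' = c) S').card * q
        ≤ 2 * q ^ n := by
    intro S' _
    by_cases hne : ∃ z : Fin n → F, qv S' z = c
    · obtain ⟨z, hz⟩ := hne
      have h := hM1 S' z (by rw [hz]; exact hx) c
      have hset : {z : Fin n → F | qv S' z = c} = ((NZ.bipartiteAbove
          (fun (S' : Matrix (Fin n) (Fin n) F) (x' : Fin n → F) => qv S' x' = c) S' :
            Finset (Fin n → F)) : Set (Fin n → F)) := by
        ext z'
        simp only [Set.mem_ofPred_eq, Finset.bipartiteAbove, Finset.coe_filter, hNZ,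
          Finset.mem_filter, Finset.mem_univ, true_and]
        constructor
        · intro h'
          refine ⟨?_, h'⟩
          intro h0
          apply hx
          rw [← h', h0, qv_zero_vec]
        · intro h'
          exact h'.2
      rw [hset, Set.ncard_coe_finset] at h
      exact h
    · have hempty : NZ.bipartiteAbove
          (fun (S' : Matrix (Fin n) (Fin n) F) (x' : Fin n → F) => qv S' x' = c) S' = ∅ := by
        rw [Finset.eq_empty_iff_forall_notMem]
        intro z hz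
        apply hne
        simp only [Finset.bipartiteAbove, Finset.mem_filter] at hz
        exact ⟨z, hz.2⟩
      rw [hempty]
      simp
  -- sums
  have h1 : NZ.card * q ^ n ≤ q * ∑ x' ∈ NZ, (OF.bipartiteBelow
      (fun (S' : Matrix (Fin n) (Fin n) F) (x' : Fin n → F) => qv S' x' = c) x').card := by
    rw [Finset.mul_sum, Finset.card_eq_sum_ones, Finset.sum_mul]
    apply Finset.sum_le_sum
    intro x' hx'
    rw [one_mul]
    exact hlow x' hx'
  have h2 : (∑ S' ∈ OF, (NZ.bipartiteAbove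
      (fun (S' : Matrix (Fin n) (Fin n) F) (x' : Fin n → F) => qv S' x' = c) S').card) * q
        ≤ OF.card * (2 * q ^ n) := by
    rw [Finset.sum_mul, Finset.card_eq_sum_ones, Finset.sum_mul]
    apply Finset.sum_le_sum
    intro S' hS'
    rw [one_mul]
    exact hup S' hS'
  rw [← hdc] at h1
  rw [hNZcard] at h1
  rw [hOcard]
  -- (q^n - 1) * q^n ≤ q * Σ ; Σ * q ≤ OF.card * (2 q^n)
  set Sg := ∑ S' ∈ OF, (NZ.bipartiteAbove
      (fun (S' : Matrix (Fin n) (Fin n) F) (x' : Fin n → F) => qv S' x' = c) S').card with hSg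
  have hqn : 0 < q ^ n := pow_pos hqpos n
  have h3 : (q ^ n - 1) * (q ^ n * q) ≤ (2 * OF.card) * (q ^ n * q) := by
    calc (q ^ n - 1) * (q ^ n * q) = ((q ^ n - 1) * q ^ n) * q := by ring
      _ ≤ (q * Sg) * q := Nat.mul_le_mul_right q h1
      _ = q * (Sg * q) := by ring
      _ ≤ q * (OF.card * (2 * q ^ n)) := Nat.mul_le_mul_left q h2
      _ = (2 * OF.card) * (q ^ n * q) := by ring
  exact Nat.le_of_mul_le_mul_right h3 (Nat.mul_pos hqn hqpos)

end Cfsg.Agent.Helper64.WR
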