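import Mathlib
import Cfsg.Agent.Lib.Helper98.WR0
import Cfsg.Agent.Lib.Helper28.WRM0
import Cfsg.Agent.Lib.Helper28.WRM1
import Cfsg.Agent.Lib.Helper64.WRM2
import Cfsg.Agent.Lib.Helper64.WRM3Core

/-!
# WR lemma server (S2347, helper98): piece (M3) `orbit_bound_odd`

Assembled from (M0), (M1) (helper28), (M2) and the double counting core (helper64).
-/

set_option autoImplicit false

namespace Cfsg.Agent.Helper64.WR

open Matrix Cfsg.Agent.Helper98.SPE Cfsg.Agent.Helper98.WR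

variable {F : Type*} [Field F] {n : ℕ}
variable [Fintype F] {q : ℕ} (hq : Fintype.card F = q)

include hq in
/-- piece M3. -/
theorem orbit_bound_odd (h2 : (2 : F) ≠ 0) (O : Set (Matrix (Fin n) (Fin n) F))
    (hcl : ∀ g : GL (Fin n) F, ∀ S ∈ O, congQ (g : Matrix (Fin n) (Fin n) F) S ∈ O)
    (S₀ : Matrix (Fin n) (Fin n) F) (hS₀ : S₀ ∈ O) (x : Fin n → F) (hx : qv S₀ x ≠ 0) :
    q ^ n - 1 ≤ 2 * O.ncard :=
  orbit_bound_odd_core hq
    (fun x x₀ hx hx₀ => Cfsg.Agent.Helper28.WR.exists_gl_vec x x₀ hx hx₀)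
    (fun S x hx e => Cfsg.Agent.Helper28.WR.level_card_le hq h2 S x hx e)
    O
    (fun S₁ hS₁ x hx => count_lower hq h2 O hcl S₁ hS₁ x hx)
    hcl S₀ hS₀ x hx

end Cfsg.Agent.Helper64.WR
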